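import Groth.Agent.Algz14.RelInst
import Groth.Agent.Algz14.SystemOps

/-!
Lifting maps into a system `T` to the completion of a module `H` mapping to `T`, when the kernels of `H ⟶ Tₙ` are
small and the maps land in the images.
-/

set_option autoImplicit false
set_option linter.style.haveILetI false
set_option linter.unusedSectionVars false

universe u

open CategoryTheory CategoryTheory.Limits AlgebraicGeometry Opposite

noncomputable section

namespace Groth.Agent.GE14

open Formal27 Algz14

variable {A : Type u} [CommRing A] {X : Scheme.{u}} [X.Over (Spec (CommRingCat.of A))] {I : Ideal A}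
variable {P T : ℕᵒᵖ ⥤ X.Modules} {H : X.Modules}

theorem exists_proLift (v : P ⟶ T) (π : ∀ n : ℕ, H ⟶ T.obj (op n))
    (hπ : ∀ {n m : ℕ} (h : n ≤ m), π m ≫ sysMap T h = π n)
    (c : ℕ) (hker : ∀ n, kernel.ι (π (n + c)) ≫ Formal.modPowπ I (n + 1) H = 0)
    (himg : ∀ m, v.app (op m) ≫ cokernel.π (π m) = 0)
    (cmp : ∀ n, Formal.modPow I (n + 1) H ⟶ T.obj (op n))
    (hcmp : ∀ n, Formal.modPowπ I (n + 1) H ≫ cmp n = π n) :
    ∃ w : ∀ n, P.obj (op (n + c)) ⟶ Formal.modPow I (n + 1) H,
      (∀ n, w n ≫ cmp n = sysMap P (Nat.le_add_right n c) ≫ v.app (op n)) ∧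
      ∀ {n m : ℕ} (h : n ≤ m), w m ≫ sysMap (Formal.completion I H) h = sysMap P (Nat.add_le_add_right h c) ≫ w n := by
  let e : ∀ m, H ⟶ Abelian.image (π m) := fun m => Abelian.factorThruImage (π m)
  haveI : ∀ m, Epi (e m) := fun m => inferInstanceAs (Epi (Abelian.factorThruImage (π m)))
  let ι : ∀ m, Abelian.image (π m) ⟶ T.obj (op m) := fun m => Abelian.image.ι (π m)
  haveI : ∀ m, Mono (ι m) := fun m => inferInstanceAs (Mono (kernel.ι _))
  have heι : ∀ m, e m ≫ ι m = π m := fun m => Abelian.image.fac _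
  let l : ∀ m, P.obj (op m) ⟶ Abelian.image (π m) := fun m => kernel.lift _ (v.app (op m)) (himg m)
  have hl : ∀ m, l m ≫ ι m = v.app (op m) := fun m => kernel.lift_ι _ _ _
  have hk : ∀ n, kernel.ι (e (n + c)) ≫ Formal.modPowπ I (n + 1) H = 0 := fun n => by
    rw [← kernel.lift_ι (π (n + c)) (kernel.ι (e (n + c))) (by rw [show kernel.ι (e (n + c)) ≫ π (n + c) = (kernel.ι (e (n + c)) ≫ e (n + c)) ≫ ι (n + c) by rw [Category.assoc, heι], kernel.condition, zero_comp]),
      Category.assoc, hker, comp_zero]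
  let d : ∀ n, Abelian.image (π (n + c)) ⟶ Formal.modPow I (n + 1) H := fun n =>
    Abelian.epiDesc (e (n + c)) (Formal.modPowπ I (n + 1) H) (hk n)
  have hd : ∀ n, e (n + c) ≫ d n = Formal.modPowπ I (n + 1) H := fun n => Abelian.comp_epiDesc _ _ _
  have hdι : ∀ n, d n ≫ cmp n = ι (n + c) ≫ sysMap T (Nat.le_add_right n c) := fun n => by
    rw [← cancel_epi (e (n + c)), ← Category.assoc, hd, hcmp, ← Category.assoc, heι, hπ]
  refine ⟨fun n => l (n + c) ≫ d n, fun n => ?_, fun {n m} h => ?_⟩
  · rw [Category.assoc, hdι, ← Category.assoc, hl]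
    exact (v.naturality _).symm
  · have hT : ∀ {i j : ℕ} (h : i ≤ j), (ι j ≫ sysMap T h) ≫ cokernel.π (π i) = 0 := fun {i j} h => by
      rw [← cancel_epi (e j), ← Category.assoc, ← Category.assoc, heι, hπ, cokernel.condition, comp_zero]
    let t : ∀ {i j : ℕ}, i ≤ j → (Abelian.image (π j) ⟶ Abelian.image (π i)) := fun {i j} h =>
      kernel.lift _ (ι j ≫ sysMap T h) (hT h)
    have ht : ∀ {i j : ℕ} (h : i ≤ j), t h ≫ ι i = ι j ≫ sysMap T h := fun h => kernel.lift_ι _ _ _
    have het : ∀ {i j : ℕ} (h : i ≤ j), e j ≫ t h = e i := fun {i j} h => by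
      rw [← cancel_mono (ι i), Category.assoc, ht, ← Category.assoc, heι, heι, hπ]
    have hlt : ∀ {i j : ℕ} (h : i ≤ j), l j ≫ t h = sysMap P h ≫ l i := fun {i j} h => by
      rw [← cancel_mono (ι i), Category.assoc, ht, ← Category.assoc, hl, Category.assoc, hl]
      exact (v.naturality _).symm
    have hdt : d m ≫ sysMap (Formal.completion I H) h = t (Nat.add_le_add_right h c) ≫ d n := by
      refine (cancel_epi (e (m + c))).1 ?_
      refine (Category.assoc _ _ _).symm.trans ((congrArg (· ≫ sysMap (Formal.completion I H) h) (hd m)).trans ?_)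
      refine (completion_map_π H h).trans ?_
      exact ((Category.assoc _ _ _).symm.trans ((congrArg (· ≫ d n) (het (Nat.add_le_add_right h c))).trans (hd n))).symm
    refine (Category.assoc _ _ _).trans ((congrArg (l (m + c) ≫ ·) hdt).trans ?_)
    exact ((Category.assoc _ _ _).symm.trans ((congrArg (· ≫ d n) (hlt (Nat.add_le_add_right h c))).trans
      (Category.assoc _ _ _)))

end Groth.Agent.GE14
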