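import Groth.Agent.GE14.PushPullChart
import Groth.Agent.GE14.ProLift
import Groth.Agent.Algz14.Tricky
import Groth.Agent.FlatMor67.DescFree

/-!
The comparison of a formal system with the reductions of a direct image.
-/

set_option autoImplicit false
set_option linter.style.haveILetI false
set_option linter.unusedSectionVars false
set_option backward.isDefEq.respectTransparency.types false
set_option maxSynthPendingDepth 6

universe u

open CategoryTheory CategoryTheory.Limits AlgebraicGeometry Opposite TopologicalSpace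

noncomputable section

namespace Groth.Agent.GE14

open Formal27 Var76.LineBundle Var76.ZeroScheme Amp73

theorem killedByIdeal_of_cover {X : Scheme.{u}} {I : X.IdealSheafData} {M : X.Modules} [M.IsQuasicoherent]
    (S : Set X.affineOpens) (hS : ∀ p : X, ∃ W ∈ S, p ∈ W.1)
    (h : ∀ W ∈ S, ∀ a ∈ I.ideal W, ∀ m : Γ(M, W.1), a • m = 0) : ClSub.KilledByIdeal I M := by
  intro U a ha m
  let m' : Γ(M, U.1) := m
  show a • m' = 0
  refine eq_of_locally M _ _ fun p hp => ?_
  obtain ⟨W, hW, hpW⟩ := hS p
  obtain ⟨r, g, hrg, hpr⟩ := exists_basicOpen_le_affine_inter U.2 W.2 p ⟨hp, hpW⟩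
  refine ⟨X.basicOpen r, X.basicOpen_le r, hpr, ?_⟩
  let V : X.affineOpens := ⟨X.basicOpen r, U.2.basicOpen r⟩
  have hVW : V ≤ W := show X.basicOpen r ≤ W.1 from hrg.le.trans (X.basicOpen_le g)
  have hVU : V ≤ U := X.basicOpen_le r
  have hann : ∀ z : Γ(M, V.1), ∀ b ∈ I.ideal V, b • z = 0 := by
    intro z b hb
    rw [← I.map_ideal hVW] at hb
    induction hb using Submodule.span_induction with
    | mem b hb =>
      obtain ⟨c, hc, rfl⟩ := hb
      obtain ⟨n, t, ht⟩ := Coh69.qcoh_exists_pow_smul_eq_res (M := M) W.2 g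
        (res M (show X.basicOpen g ≤ V.1 from hrg.ge) z)
      have hu : IsUnit (X.presheaf.map (homOfLE (show V.1 ≤ W.1 from hVW)).op g) := by
        apply RingedSpace.isUnit_of_isUnit_germ
        intro x hx
        rw [TopCat.Presheaf.germ_res_apply]
        exact (Scheme.mem_basicOpen X g x _).1 (hrg ▸ hx)
      refine (hu.pow n).smul_eq_zero.1 ?_
      rw [smul_comm]
      have e1 : X.presheaf.map (homOfLE (show V.1 ≤ W.1 from hVW)).op g ^ n • z =
          res M (show V.1 ≤ W.1 from hVW) t := by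
        have h2 := congrArg (res M (show V.1 ≤ X.basicOpen g from hrg.le)) ht
        refine Eq.trans ?_ (h2.symm.trans (res_res M _ _ t))
        rw [res_smul, map_pow, res_res, res_self]
        refine congrArg (fun q => q ^ n • z) ?_
        exact (QC70.resO_resO _ _ _).symm
      rw [e1]
      exact (res_smul M _ c t).symm.trans ((congrArg _ (h W hW c hc t)).trans (map_zero _))
    | zero => exact zero_smul _ _
    | add x y _ _ hx hy => rw [add_smul, hx, hy, add_zero]
    | smul c x _ hx => rw [smul_eq_mul, mul_smul, hx, smul_zero]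
  rw [res_smul]
  refine Eq.trans (hann _ _ ?_) (map_zero _).symm
  rw [← I.map_ideal hVU]
  exact Ideal.mem_map_of_mem _ ha

theorem basicOpen_le_compl_support {X : Scheme.{u}} (K : X.IdealSheafData) (W : X.affineOpens) {g : Γ(X, W.1)}
    (hg : g ∈ K.ideal W) : X.basicOpen g ≤ K.support.compl := by
  intro x hx hx'
  have h : x ∈ (K.support : Set X) ∩ W.1 := ⟨hx', X.basicOpen_le g hx⟩
  rw [K.coe_support_inter] at h
  exact (X.mem_zeroLocus_iff _ x).1 h.1 g hg hx

theorem exists_pow_killed {R : Type*} [CommRing R] [IsNoetherianRing R] (k : Ideal R) {Q : R → Prop} {r : ℕ}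
    (g : Fin r → R) (hg : Ideal.span (Set.range g) = k) (hadd : ∀ a b, Q a → Q b → Q (a + b))
    (hmul : ∀ a b, Q b → Q (a * b)) (h0 : Q 0) (h : ∀ i, ∃ t, Q (g i ^ t)) : ∃ t, ∀ a ∈ k ^ t, Q a := by
  choose t ht using h
  let P : Ideal R :=
    { carrier := {a | Q a}, zero_mem' := h0, add_mem' := fun {a b} => hadd a b, smul_mem' := fun a b => hmul a b }
  have hle : k ≤ P.radical := by
    rw [← hg, Ideal.span_le]
    rintro _ ⟨i, rfl⟩
    exact ⟨t i, ht i⟩
  obtain ⟨N, hN⟩ := Ideal.exists_pow_le_of_le_radical_of_fg_radical hle (IsNoetherian.noetherian _)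
  exact ⟨N, fun a ha => hN ha⟩

variable {A : Type u} [CommRing A] {J : Ideal A} {X Y : Scheme.{u}} [X.Over (Spec (CommRingCat.of A))]
  [Y.Over (Spec (CommRingCat.of A))] [IsNoetherian Y] {f : X ⟶ Y} [IsProper f]
  (hf : f ≫ (Y ↘ Spec (CommRingCat.of A)) = X ↘ Spec (CommRingCat.of A))
  {G : ℕᵒᵖ ⥤ Y.Modules} (hG : Formal.IsCohFormal J G) {F : X.Modules} (hF : Coh.IsCoh F)
  (β : (G ⋙ Scheme.Modules.pullback f) ≅ Formal.completion J F)

include hf hG hF β in
theorem exists_push_pull (K : Y.IdealSheafData) (hV : IsIso (f ∣_ K.support.compl)) :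
    ∃ α : G ⟶ Formal.completion J ((Scheme.Modules.pushforward f).obj F),
      Formal2.KerCokerKilledByPow K α := by
  classical
  let H := (Scheme.Modules.pushforward f).obj F
  have hH : Coh.IsCoh H := FlatMor67.DescFree.isCoh_pushforward f hF
  haveI := hH.1
  haveI hGq : ∀ n, (G.obj (op n)).IsQuasicoherent := fun n => (hG.1 n).1
  haveI : ∀ n, (Formal.modPow J (n + 1) H).IsQuasicoherent := fun n => isQuasicoherent_modPow H J (n + 1)
  obtain ⟨S, hS⟩ := exists_cover (X := Y)
  choose cW hcW using fun W : Y.affineOpens => chart_ker_bound hf hG hF W.2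
  let c := S.sup cW
  let T : ℕᵒᵖ ⥤ Y.Modules := Formal.completion J F ⋙ Scheme.Modules.pushforward f
  let v : G ⟶ T :=
    Functor.whiskerLeft G (Scheme.Modules.pullbackPushforwardAdjunction f).unit ≫
      Functor.whiskerRight β.hom (Scheme.Modules.pushforward f)
  have hv : ∀ n (W : Y.Opens) (x : Γ(G.obj (op n), W)), (v.app (op n)).app W x = vApp β W n x := fun n W x => rfl
  let π : ∀ n : ℕ, H ⟶ T.obj (op n) := fun n => (Scheme.Modules.pushforward f).map (Formal.modPowπ J (n + 1) F)
  have hπ : ∀ {n m : ℕ} (h : n ≤ m), π m ≫ sysMap T h = π n := fun {n m} h =>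
    ((Scheme.Modules.pushforward f).map_comp _ _).symm.trans
      (congrArg _ (Algz14.completion_map_π F h))
  have hcz : ∀ n, Formal.smulFamily (J ^ (n + 1)) H ≫ π n = 0 := fun n =>
    smulFamily_comp_eq_zero _ fun a ha => by
      exact (congrArg (· ≫ π n) (pushforward_map_smulMod f hf F a).symm).trans
        (((Scheme.Modules.pushforward f).map_comp _ _).symm.trans
          ((congrArg (Scheme.Modules.pushforward f).map (smulMod_modPowπ J (n + 1) F ha)).trans (Functor.map_zero _ _ _)))
  let cmp : ∀ n, Formal.modPow J (n + 1) H ⟶ T.obj (op n) := fun n => cokernel.desc _ (π n) (hcz n)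
  have hcmp : ∀ n, Formal.modPowπ J (n + 1) H ≫ cmp n = π n := fun n => cokernel.π_desc _ _ _
  have hker : ∀ n, kernel.ι (π (n + c)) ≫ Formal.modPowπ J (n + 1) H = 0 := fun n => by
    haveI : (kernel (π (n + c))).IsQuasicoherent := by
      haveI : (T.obj (op (n + c))).IsQuasicoherent := (FlatMor67.DescFree.isCoh_pushforward f
        ((Algz14.isCohFormal_completion J F hF).1 (n + c))).1
      exact QC70.isQuasicoherent_kernel _
    refine eq_zero_of_cover _ (↑S) hS fun W hW z => ?_
    exact hcW W c (Finset.le_sup (f := cW) hW) n ((kernel.ι (π (n + c))).app W.1 z)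
      ((QC70.app_f_g (ShortComplex.mk _ _ (kernel.condition (π (n + c)))) W.1 z))
  have himg : ∀ m, v.app (op m) ≫ cokernel.π (π m) = 0 := fun m => by
    refine eq_zero_of_cover _ (↑S) hS fun W _ x => ?_
    obtain ⟨y, hy⟩ := chart_image hf β hG hF W.2 m x
    refine (congrArg ((cokernel.π (π m)).app W.1) ((hv m W.1 x).trans hy.symm)).trans ?_
    exact QC70.app_f_g (ShortComplex.mk _ _ (cokernel.condition (π m))) W.1 y
  obtain ⟨w, hw1, hw2⟩ := exists_proLift v π hπ c hker himg cmp hcmp
  choose α hα using fun n => exists_factor hG (Nat.le_add_right n c) (w n) (fun a ha => by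
    rw [← smulMod_comp]
    exact ((congrArg (w n ≫ ·) ((Algz14.isCohFormal_completion J H hH).2.1 n a ha)).trans comp_zero))
  let αn : G ⟶ Formal.completion J H :=
    { app := fun n => α n.unop
      naturality := fun {m n} i => by
        obtain ⟨m⟩ := m
        obtain ⟨n⟩ := n
        rw [show i = (homOfLE (leOfHom i.unop)).op from Subsingleton.elim _ _]
        haveI := Algz14.epi_sysMap hG (Nat.le_add_right m c)
        refine (cancel_epi (sysMap G (Nat.le_add_right m c))).1 ?_
        have h1 := hw2 (leOfHom i.unop)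
        rw [← hα n, ← Category.assoc, sysMap_comp] at h1
        refine (Category.assoc _ _ _).symm.trans ?_
        refine (congrArg (· ≫ α n) (sysMap_comp G (leOfHom i.unop) (Nat.le_add_right m c))).trans ?_
        refine h1.symm.trans ?_
        exact (congrArg (· ≫ sysMap (Formal.completion J H) (leOfHom i.unop)) (hα m).symm).trans
          (Category.assoc _ _ _) }
  refine ⟨αn, ?_⟩
  -- bounds on sections over a chart, one element of `K`
  have bound : ∀ (W : Y.affineOpens), W ∈ S → ∀ g ∈ K.ideal W, ∃ t : ℕ,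
      (∀ n (x : Γ(G.obj (op n), W.1)), (α n).app W.1 x = 0 → g ^ t • x = 0) ∧
      ∀ n (y : Γ(Formal.modPow J (n + 1) H, W.1)), ∃ x, (α n).app W.1 x = g ^ t • y := by
    intro W hW g hg
    haveI := hV
    obtain ⟨e, d, hco, hke⟩ := chart_bounds hf β hG hF W.2 g (U := K.support.compl)
      (basicOpen_le_compl_support K W hg)
    have hc' := hcW W c (Finset.le_sup (f := cW) hW)
    have hwv : ∀ n (x : Γ(G.obj (op (n + c)), W.1)), (cmp n).app W.1 ((w n).app W.1 x) =
        vApp β W.1 n ((sysMap G (Nat.le_add_right n c)).app W.1 x) := fun n x =>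
      ConcreteCategory.congr_hom (congrArg (fun t => Scheme.Modules.Hom.app t W.1) (hw1 n)) x
    have hcmpapp : ∀ n (y : Γ(H, W.1)), (cmp n).app W.1 ((Formal.modPowπ J (n + 1) H).app W.1 y) =
        (Formal.modPowπ J (n + 1) F).app (f ⁻¹ᵁ W.1) y := fun n y =>
      ConcreteCategory.congr_hom (congrArg (fun t => Scheme.Modules.Hom.app t W.1) (hcmp n)) y
    have hsurj : ∀ n, Function.Surjective ((Formal.modPowπ J (n + 1) H).app W.1) := fun n =>
      modPowπ_app_surjective (M := H) J (n + 1) W.2
    have hco' : ∀ n (y : Γ(H, W.1)), ∃ x, (w n).app W.1 x = g ^ e • (Formal.modPowπ J (n + 1) H).app W.1 y := by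
      intro n y
      obtain ⟨x, hx⟩ := hco (n + c + c) y
      refine ⟨(sysMap G (Nat.le_add_right (n + c) c)).app W.1 x, ?_⟩
      obtain ⟨h, hh⟩ := hsurj (n + c) ((w (n + c)).app W.1 x)
      have h1 : (Formal.modPowπ J (n + c + 1) F).app (f ⁻¹ᵁ W.1) (h - g ^ e • y : Γ(H, W.1)) = 0 := by
        refine (map_sub ((Formal.modPowπ J (n + c + 1) F).app (f ⁻¹ᵁ W.1)).hom _ _).trans (sub_eq_zero.2 ?_)
        refine (hcmpapp (n + c) h).symm.trans ((congrArg _ hh).trans ((hwv (n + c) x).trans ?_))
        refine (completion_map_vApp β (Nat.le_add_right (n + c) c) x).symm.trans ?_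
        rw [hx]
        refine (Scheme.Modules.Hom.app_smul (sysMap (Formal.completion J F) (Nat.le_add_right (n + c) c)) _ _).trans ?_
        refine Eq.trans ?_ (Scheme.Modules.Hom.app_smul (Formal.modPowπ J (n + c + 1) F) (f.app W.1 (g ^ e)) y).symm
        refine congrArg (f.app W.1 (g ^ e) • ·) ?_
        exact ConcreteCategory.congr_hom (congrArg (fun t => Scheme.Modules.Hom.app t (f ⁻¹ᵁ W.1))
          (Algz14.completion_map_π F (Nat.le_add_right (n + c) c))) y
      have h2 := hc' n (h - g ^ e • y : Γ(H, W.1)) h1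
      rw [map_sub, sub_eq_zero, Scheme.Modules.Hom.app_smul] at h2
      refine Eq.trans ?_ h2
      refine (ConcreteCategory.congr_hom (congrArg (fun t => Scheme.Modules.Hom.app t W.1)
        (hw2 (Nat.le_add_right n c))) x).symm.trans ?_
      refine (congrArg ((sysMap (Formal.completion J H) (Nat.le_add_right n c)).app W.1) hh.symm).trans ?_
      exact ConcreteCategory.congr_hom (congrArg (fun t => Scheme.Modules.Hom.app t W.1)
        (Algz14.completion_map_π H (Nat.le_add_right n c))) h
    refine ⟨e + e, fun n x hx => ?_, fun n y => ?_⟩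
    · -- kernel
      have hn : n ≤ n + d + c := by omega
      obtain ⟨x', rfl⟩ := (Algz14.isTower_sect hG W.2).surj hn x
      obtain ⟨h, hh⟩ := hsurj (n + d) ((w (n + d)).app W.1 x')
      have h1 : (Formal.modPowπ J (n + 1) H).app W.1 h = 0 := by
        refine Eq.trans ?_ hx
        refine (ConcreteCategory.congr_hom (congrArg (fun t => Scheme.Modules.Hom.app t W.1)
          (Algz14.completion_map_π H (Nat.le_add_right n d))) h).symm.trans ?_
        refine (congrArg ((sysMap (Formal.completion J H) (Nat.le_add_right n d)).app W.1) hh).trans ?_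
        refine (ConcreteCategory.congr_hom (congrArg (fun t => Scheme.Modules.Hom.app t W.1)
          (hw2 (Nat.le_add_right n d))) x').trans ?_
        rw [← hα n]
        exact congrArg ((α n).app W.1) (Algz14.sysMap_app_comp G (Nat.le_add_right n c)
          (Nat.add_le_add_right (Nat.le_add_right n d) c) W.1 x')
      have h2 : h ∈ IM H (J ^ (n + 1)) W.1 := (modPowπ_app_eq_zero_iff (M := H) W.2 h).1 h1
      obtain ⟨z, hz, hwz⟩ : ∃ z ∈ IM (G.obj (op (n + d + c))) (J ^ (n + 1)) W.1,
          (w (n + d)).app W.1 z = g ^ e • (Formal.modPowπ J (n + d + 1) H).app W.1 h := by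
        refine IM_induction (p := fun t => ∃ z ∈ IM (G.obj (op (n + d + c))) (J ^ (n + 1)) W.1,
          (w (n + d)).app W.1 z = g ^ e • (Formal.modPowπ J (n + d + 1) H).app W.1 t) h2
          (fun a ha m => ?_) ⟨0, zero_mem _, by rw [map_zero, map_zero, smul_zero]⟩
          (fun _ _ ⟨p, hp, hp'⟩ ⟨q, hq, hq'⟩ => ⟨p + q, add_mem hp hq, by rw [map_add, map_add, smul_add, hp', hq']⟩)
        obtain ⟨p, hp⟩ := hco' (n + d) m
        refine ⟨gi A Y W.1 a • p, smul_mem_IM ha _, ?_⟩
        rw [Scheme.Modules.Hom.app_smul, hp, Scheme.Modules.Hom.app_smul, smul_comm]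
      have h3 : vApp β W.1 (n + d) ((sysMap G (Nat.le_add_right (n + d) c)).app W.1 (g ^ e • x' - z)) = 0 := by
        rw [← hwv, map_sub, Scheme.Modules.Hom.app_smul, hwz, hh, sub_self]
        exact map_zero _
      have h4 := hke (n + d) _ h3 n (Nat.le_add_right n d) le_rfl
      rw [Algz14.sysMap_app_comp] at h4
      have hz0 : (sysMap G hn).app W.1 z = 0 :=
        IM_induction (p := fun t => (sysMap G hn).app W.1 t = 0) hz
          (fun a ha m => by
            rw [Scheme.Modules.Hom.app_smul]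
            exact Algz14.gi_smul_eq_zero hG n ha _)
          (map_zero _) (fun p q hp hq => by rw [map_add, hp, hq, add_zero])
      rw [map_sub, hz0, sub_zero, Scheme.Modules.Hom.app_smul, ← mul_smul, ← pow_add] at h4
      exact h4
    · -- cokernel
      obtain ⟨y', rfl⟩ := hsurj n y
      obtain ⟨x, hx⟩ := hco' n y'
      refine ⟨(sysMap G (Nat.le_add_right n c)).app W.1 (g ^ e • x), ?_⟩
      refine (ConcreteCategory.congr_hom (congrArg (fun t => Scheme.Modules.Hom.app t W.1) (hα n)) _).trans ?_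
      rw [Scheme.Modules.Hom.app_smul, hx, ← mul_smul, ← pow_add]
  have boundI : ∀ W : Y.affineOpens, W ∈ S → ∃ t : ℕ, ∀ a ∈ K.ideal W ^ t,
      (∀ n (x : Γ(G.obj (op n), W.1)), (α n).app W.1 x = 0 → a • x = 0) ∧
      ∀ n (y : Γ(Formal.modPow J (n + 1) H, W.1)), ∃ x, (α n).app W.1 x = a • y := by
    intro W hW
    haveI : IsNoetherianRing Γ(Y, W.1) := IsLocallyNoetherian.component_noetherian W
    obtain ⟨r, gs, hgs⟩ := Submodule.fg_iff_exists_fin_generating_family.1 (IsNoetherian.noetherian (K.ideal W))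
    refine exists_pow_killed (K.ideal W) gs hgs ?_ ?_ ?_ fun i => ?_
    · rintro a b ⟨ha, ha'⟩ ⟨hb, hb'⟩
      refine ⟨fun n x hx => by rw [add_smul, ha n x hx, hb n x hx, add_zero], fun n y => ?_⟩
      obtain ⟨p, hp⟩ := ha' n y
      obtain ⟨q, hq⟩ := hb' n y
      exact ⟨p + q, by rw [map_add, hp, hq, add_smul]⟩
    · rintro a b ⟨hb, hb'⟩
      refine ⟨fun n x hx => by rw [mul_smul, hb n x hx, smul_zero], fun n y => ?_⟩
      obtain ⟨q, hq⟩ := hb' n y
      exact ⟨a • q, by rw [Scheme.Modules.Hom.app_smul, hq, mul_smul]⟩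
    · exact ⟨fun n x _ => zero_smul _ _, fun n y => ⟨0, by rw [map_zero, zero_smul]⟩⟩
    · obtain ⟨t, ht⟩ := bound W hW (gs i) (hgs.le (Ideal.subset_span ⟨i, rfl⟩))
      exact ⟨t, ht⟩
  choose tW htW using boundI
  let t := S.attach.sup fun W => tW W.1 W.2
  refine ⟨t, fun n => ⟨?_, ?_⟩⟩
  · haveI : (kernel (αn.app (op n))).IsQuasicoherent := by
      haveI : ((Formal.completion J H).obj (op n)).IsQuasicoherent := isQuasicoherent_modPow H J (n + 1)
      exact QC70.isQuasicoherent_kernel _
    refine killedByIdeal_of_cover (↑S) hS fun W hW a ha z => ?_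
    rw [Scheme.IdealSheafData.ideal_pow] at ha
    have ha' := Ideal.pow_le_pow_right ((Finset.le_sup (f := fun W : S => tW W.1 W.2)
      (Finset.mem_attach S ⟨W, hW⟩)).trans (Nat.le_succ t)) ha
    refine QC70.app_injective_of_mono (kernel.ι (αn.app (op n))) W.1 ?_
    rw [map_zero, Scheme.Modules.Hom.app_smul]
    exact (htW W hW a ha').1 n _ (QC70.app_f_g (ShortComplex.mk _ _ (kernel.condition (αn.app (op n)))) W.1 z)
  · haveI : (cokernel (αn.app (op n))).IsQuasicoherent := by
      haveI : ((Formal.completion J H).obj (op n)).IsQuasicoherent := isQuasicoherent_modPow H J (n + 1)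
      exact QC70.isQuasicoherent_cokernel _
    refine killedByIdeal_of_cover (↑S) hS fun W hW a ha z => ?_
    rw [Scheme.IdealSheafData.ideal_pow] at ha
    have ha' := Ideal.pow_le_pow_right ((Finset.le_sup (f := fun W : S => tW W.1 W.2)
      (Finset.mem_attach S ⟨W, hW⟩)).trans (Nat.le_succ t)) ha
    haveI : ((Formal.completion J H).obj (op n)).IsQuasicoherent := isQuasicoherent_modPow H J (n + 1)
    obtain ⟨y, rfl⟩ := Algz14.app_surjective_of_epi (cokernel.π (αn.app (op n))) W.2 z
    obtain ⟨x, hx⟩ := (htW W hW a ha').2 n y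
    rw [← Scheme.Modules.Hom.app_smul]
    refine (congrArg _ hx.symm).trans ?_
    exact QC70.app_f_g (ShortComplex.mk _ _ (cokernel.condition (αn.app (op n)))) W.1 x

end Groth.Agent.GE14
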