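import Groth.Agent.GE14.ClosedTransfer
import Groth.Agent.GE14.PushPull
import Groth.Agent.Approx60.ChowMain
import Groth.Agent.Csa25.ProjLin
import Groth.Agent.EGA73.AmpleBaseImmersion

/-!
Grothendieck existence on proper schemes, by Chow's lemma and dévissage.
-/

set_option autoImplicit false
set_option linter.style.haveILetI false
set_option linter.unusedSectionVars false
set_option backward.isDefEq.respectTransparency.types false
set_option maxSynthPendingDepth 6

universe u

open CategoryTheory CategoryTheory.Limits AlgebraicGeometry Opposite TopologicalSpace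

noncomputable section

namespace Groth.Agent.GE14

theorem exists_iso_projSpace (A : Type u) [CommRing A] (n : ℕ) :
    ∃ e : CohB1.ProjSpaceOver n (Spec (CommRingCat.of A)) ≅ CohB1.ProjSpace n A,
      e.hom ≫ CohB1.ProjSpace.toSpec n A = CohB1.ProjSpaceOver.toBase n _ := by
  let Z := ULift.{u} ℤ
  algebraize [((Int.castRingHom A).comp (ULift.ringEquiv (R := ℤ)).toRingHom)]
  have hpb : IsPullback (Csa25.linMap (n := n) (algebraMap Z A) 1 isUnit_one) (CohB1.ProjSpace.toSpec n A)
      (CohB1.ProjSpace.toSpec n Z) (specULiftZIsTerminal.from (Spec (CommRingCat.of A))) := by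
    rw [specULiftZIsTerminal.hom_ext (specULiftZIsTerminal.from (Spec (CommRingCat.of A)))
      (Spec.map (CommRingCat.ofHom (algebraMap Z A)))]
    exact Csa25.isPullback_linMap_one
  exact ⟨(IsPullback.of_hasPullback _ _).isoIsPullback _ _ hpb,
    (IsPullback.of_hasPullback _ _).isoIsPullback_hom_snd _ _ hpb⟩

variable {A : Type u} [CommRing A] [IsNoetherianRing A] {I : Ideal A} [IsAdicComplete I A]

theorem exists_algebraization_of_isEmpty {Z : Scheme.{u}} [Z.Over (Spec (CommRingCat.of A))] [IsEmpty Z]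
    {G : ℕᵒᵖ ⥤ Z.Modules} (hG : Formal.IsCohFormal I G) :
    ∃ M : Z.Modules, Coh.IsCoh M ∧ Nonempty (Formal.completion I M ≅ G) := by
  refine ⟨_, hG.1 0, Formal27.exists_algebraization hG (c := 0) fun n a _ => ?_⟩
  refine Scheme.Modules.hom_ext _ _ fun V => ?_
  ext m
  exact Var76.ZeroScheme.eq_of_locally (G.obj (op n)) _ _ fun x _ => isEmptyElim x

/-- Grothendieck existence on proper schemes over a complete Noetherian ring. -/
theorem exists_completion_of_proper (Z : Scheme.{u}) [Z.Over (Spec (CommRingCat.of A))]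
    [IsProper (Z ↘ Spec (CommRingCat.of A))] {G : ℕᵒᵖ ⥤ Z.Modules} (hG : Formal.IsCohFormal I G) :
    ∃ M : Z.Modules, Coh.IsCoh M ∧ Nonempty (Formal.completion I M ≅ G) := by
  classical
  haveI hnoeth : ∀ (W : Scheme.{u}) [W.Over (Spec (CommRingCat.of A))] [IsProper (W ↘ Spec (CommRingCat.of A))],
      AlgebraicGeometry.IsNoetherian W := fun W _ _ => by
    haveI : IsLocallyNoetherian W := LocallyOfFiniteType.isLocallyNoetherian (W ↘ Spec (CommRingCat.of A))
    haveI : CompactSpace W := QuasiCompact.compactSpace_of_compactSpace (W ↘ Spec (CommRingCat.of A))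
    exact {}
  haveI := hnoeth Z
  suffices key : ∀ (T : Closeds Z) (W : Scheme.{u}) (i : W ⟶ Z) [IsClosedImmersion i],
      Set.range i ⊆ T → letI : W.Over (Spec (CommRingCat.of A)) := ⟨i ≫ (Z ↘ Spec (CommRingCat.of A))⟩
      ∀ G : ℕᵒᵖ ⥤ W.Modules, Formal.IsCohFormal I G →
        ∃ M : W.Modules, Coh.IsCoh M ∧ Nonempty (Formal.completion I M ≅ G) by
    have h := key ⊤ Z (𝟙 Z) (fun x _ => trivial)
    rw [show (⟨𝟙 Z ≫ (Z ↘ Spec (CommRingCat.of A))⟩ : Z.Over (Spec (CommRingCat.of A))) =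
      (inferInstance : Z.Over (Spec (CommRingCat.of A))) by simp only [Category.id_comp]; rfl] at h
    exact h G hG
  clear hG G
  intro T
  induction T using WellFoundedLT.induction with
  | ind T ih =>
  intro W i _ hT
  letI : W.Over (Spec (CommRingCat.of A)) := ⟨i ≫ (Z ↘ Spec (CommRingCat.of A))⟩
  haveI : IsProper (W ↘ Spec (CommRingCat.of A)) := inferInstanceAs (IsProper (i ≫ _))
  haveI := hnoeth W
  intro G hG
  by_cases hW : IsEmpty W
  · exact exists_algebraization_of_isEmpty hG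
  obtain ⟨n, W', π, j, hj, hjb, hπp, hπs, U, hU, hπU⟩ :=
    Approx60.Chow.chow_noetherian (W ↘ Spec (CommRingCat.of A))
  letI : W'.Over (Spec (CommRingCat.of A)) := ⟨π ≫ (W ↘ Spec (CommRingCat.of A))⟩
  haveI : IsProper (W' ↘ Spec (CommRingCat.of A)) := inferInstanceAs (IsProper (π ≫ _))
  haveI := hnoeth W'
  obtain ⟨e₀, he₀⟩ := exists_iso_projSpace A n
  haveI := Serre71.isProper_projSpace n A
  let ι : W' ⟶ CohB1.ProjSpace n A := j ≫ e₀.hom
  have hι : ι ≫ CohB1.ProjSpace.toSpec n A = W' ↘ Spec (CommRingCat.of A) := by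
    show (j ≫ e₀.hom) ≫ _ = _
    rw [Category.assoc, he₀]
    exact hjb
  haveI : IsProper (ι ≫ CohB1.ProjSpace.toSpec n A) := by rw [hι]; infer_instance
  haveI : IsProper ι := IsProper.of_comp ι (CohB1.ProjSpace.toSpec n A)
  haveI : IsImmersion ι := inferInstanceAs (IsImmersion (j ≫ e₀.hom))
  haveI := EGA73.AmpleBaseImmersion.isClosedImmersion_of_isImmersion_of_isProper ι
  obtain ⟨F, hF, ⟨eF⟩⟩ := exists_completion_of_projective (I := I) ι
    (Formal27.isCohFormal_pullback π rfl G hG fun k => ZClos93.isCoh_pullback π _ (hG.1 k))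
  let C : Closeds W := ⟨(U : Set W)ᶜ, U.2.isClosed_compl⟩
  let K := Scheme.IdealSheafData.vanishingIdeal C
  have hK : (K.support : Set W) = (U : Set W)ᶜ := Scheme.IdealSheafData.coe_support_vanishingIdeal C
  have hKU : K.support.compl = U := by
    ext x
    show x ∈ ((K.support : Set W))ᶜ ↔ x ∈ (U : Set W)
    rw [hK, compl_compl]
  obtain ⟨α, hα⟩ := exists_push_pull (f := π) rfl hG hF eF.symm K (hKU.symm ▸ hπU)
  refine Algz14.exists_algebraization_tricky K hG (FlatMor67.DescFree.isCoh_pushforward π hF) α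
    (t := hα.choose) (fun e => ⟨fun M N hM hN _ _ ψ => existsUnique_of_isProper hM hN ψ, fun G' hG' hk' => ?_⟩)
    (fun n => (hα.choose_spec n).1) (fun n => (hα.choose_spec n).2)
  let i' := (K ^ e).subschemeι
  letI : (K ^ e).subscheme.Over (Spec (CommRingCat.of A)) := ⟨i' ≫ (W ↘ Spec (CommRingCat.of A))⟩
  haveI : IsProper ((K ^ e).subscheme ↘ Spec (CommRingCat.of A)) := inferInstanceAs (IsProper (i' ≫ _))
  have hsub : ((K ^ e).support : Set W) ⊆ (U : Set W)ᶜ := by
    rcases Nat.eq_zero_or_pos e with rfl | he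
    · intro x hx
      exfalso
      obtain ⟨_, ⟨V, hV, rfl⟩, hxV, -⟩ := W.isBasis_affineOpens.exists_subset_of_mem_open (Set.mem_univ x) isOpen_univ
      have h : x ∈ ((K ^ 0).support : Set W) ∩ V := ⟨hx, hxV⟩
      rw [(K ^ 0).coe_support_inter ⟨V, hV⟩] at h
      refine (W.mem_zeroLocus_iff _ x).1 h.1 1 ?_ ?_
      · rw [Scheme.IdealSheafData.ideal_pow, Pi.pow_apply, pow_zero, Ideal.one_eq_top]
        trivial
      · rw [Scheme.basicOpen_of_isUnit _ isUnit_one]
        exact hxV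
    · rw [Scheme.IdealSheafData.support_pow _ _ he.ne', hK]
  let T' : Closeds Z := ⟨i '' (U : Set W)ᶜ, i.isClosedEmbedding.isClosedMap _ U.2.isClosed_compl⟩
  have hlt : T' < T := by
    obtain ⟨x₀⟩ := not_isEmpty_iff.1 hW
    obtain ⟨x, hx⟩ : (U : Set W).Nonempty := by
      haveI : Nonempty W := ⟨x₀⟩
      exact hU.nonempty
    refine lt_of_le_of_ne (fun z hz => ?_) fun h => ?_
    · obtain ⟨w, -, rfl⟩ := hz
      exact hT ⟨w, rfl⟩
    · obtain ⟨w, hw, hwx⟩ : i x ∈ (T' : Set Z) := h ▸ hT ⟨x, rfl⟩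
      exact hw (i.isClosedEmbedding.injective hwx ▸ hx)
  have hsmall : ∀ G'' : ℕᵒᵖ ⥤ (K ^ e).subscheme.Modules, Formal.IsCohFormal I G'' →
      ∃ M : (K ^ e).subscheme.Modules, Coh.IsCoh M ∧ Nonempty (Formal.completion I M ≅ G'') := by
    have h := ih T' hlt (K ^ e).subscheme (i' ≫ i) (by
      rintro _ ⟨w, rfl⟩
      refine ⟨i' w, hsub ?_, rfl⟩
      rw [← Scheme.IdealSheafData.range_subschemeι]
      exact ⟨w, rfl⟩)
    rw [show (⟨(i' ≫ i) ≫ (Z ↘ Spec (CommRingCat.of A))⟩ : (K ^ e).subscheme.Over (Spec (CommRingCat.of A))) =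
      ⟨i' ≫ (W ↘ Spec (CommRingCat.of A))⟩ by rw [Category.assoc]; rfl] at h
    exact h
  obtain ⟨M, hM, hMk, e'⟩ := exists_algebraization_closed (I := I) i' rfl hG'
    (fun m => by rw [Scheme.IdealSheafData.ker_subschemeι]; exact hk' m) hsmall
  rw [Scheme.IdealSheafData.ker_subschemeι] at hMk
  exact ⟨M, hM, hMk, e'⟩

end Groth.Agent.GE14
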