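import Groth.Agent.GE14.AmpleExist
import Groth.Agent.FF52.HomCompletion
import Groth.Agent.RB70.SerreVanish
import Groth.Agent.EGA73.VeryAmplePnAmple

/-!
Grothendieck existence on schemes embedded in projective space over a complete Noetherian ring.
-/

set_option autoImplicit false
set_option linter.style.haveILetI false
set_option linter.unusedSectionVars false

universe u

open CategoryTheory CategoryTheory.Limits AlgebraicGeometry Opposite

noncomputable section

namespace Groth.Agent.GE14

variable {A : Type u} [CommRing A] [IsNoetherianRing A] {I : Ideal A} [IsAdicComplete I A]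
  {X : Scheme.{u}} [X.Over (Spec (CommRingCat.of A))] [IsProper (X ↘ Spec (CommRingCat.of A))]

/-- Full faithfulness of completion on a proper scheme. -/
theorem existsUnique_of_isProper {M N : X.Modules} (hM : Coh.IsCoh M) (hN : Coh.IsCoh N)
    (ψ : Formal.completion I M ⟶ Formal.completion I N) :
    ∃! φ : M ⟶ N, ∀ n : ℕ, Formal.modPowπ I (n + 1) M ≫ ψ.app (op n) = φ ≫ Formal.modPowπ I (n + 1) N := by
  haveI := hM.2
  haveI := hN.2
  have hu : ClSub.IsProperOver (X ↘ Spec (CommRingCat.of A)) (Set.univ : Set X) :=
    (Coh69.PO.iff_of_range (𝟙 X) (by simp)).2 (by rw [Category.id_comp]; infer_instance)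
  exact FF52.HomCompletion.existsUnique_of_proper_inter I hM hN (Coh69.PO.mono hu
    ((QC70.isClosed_support M).inter (QC70.isClosed_support N)) (Set.subset_univ _)) ψ

/-- Grothendieck existence for closed subschemes of projective space. -/
theorem exists_completion_of_projective {N : ℕ} (ι : X ⟶ CohB1.ProjSpace N A) [IsClosedImmersion ι]
    {G : ℕᵒᵖ ⥤ X.Modules} (hG : Formal.IsCohFormal I G) :
    ∃ M : X.Modules, Coh.IsCoh M ∧ Nonempty (Formal.completion I M ≅ G) := by
  classical
  haveI : IsLocallyNoetherian X := LocallyOfFiniteType.isLocallyNoetherian (X ↘ Spec (CommRingCat.of A))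
  haveI : CompactSpace X := QuasiCompact.compactSpace_of_compactSpace (X ↘ Spec (CommRingCat.of A))
  haveI : AlgebraicGeometry.IsNoetherian X := {}
  have hgen : (HomogeneousIdeal.irrelevant (CohB1.polyGrading N A)).toIdeal =
      Ideal.span (CohB1.polyGrading N A 1 : Set (MvPolynomial (Fin (N + 1)) A)) :=
    Amp73.span_degree_one _ (fun f hf => by
      obtain ⟨i, -, rfl⟩ := Finset.mem_image.1 hf
      exact MvPolynomial.isHomogeneous_X A i) ValVan29.generated
  have hO : PicF.IsInvertible (Twist.twistProjSpace N A 1) := EGA73.isInvertible_twist hgen 1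
  refine exists_completion_of_ample (L := (Scheme.Modules.pullback ι).obj (Twist.twistProjSpace N A 1))
    (Amp73.isAmple_pullback_of_isEmbedding ι ι.isClosedEmbedding.isEmbedding
      (EGA73.VeryAmplePnAmple.isAmple_twistProjSpace A N))
    (fun M hM => ?_) (fun M M' hM hM' ψ => existsUnique_of_isProper hM hM' ψ) hG
  obtain ⟨n₀, hn₀⟩ := RB70.exists_vanishing_twist ι M hM
  refine ⟨n₀.toNat, fun d hd q hq => ?_⟩
  obtain ⟨i⟩ := EGA73.nonempty_twist_iso_tensorPow hgen d
  exact ValVan29.subsingleton_hh_of_iso (EGA73.tensIso (Iso.refl _)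
    ((Scheme.Modules.pullback ι).mapIso i ≪≫ Amp73.pullPowIso ι hO d)) q (hn₀ d (by omega) q hq)

end Groth.Agent.GE14
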