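import Groth.Agent.GE14.Support
import Groth.Agent.GE14.ProjExist
import Groth.Agent.GSS45.ClosedHom
import Groth.Agent.Formal27.Pullback
import Groth.Agent.ZClos93.Flat
import Groth.Agent.QC70.PushClosed
import Groth.Agent.Algz14.Completion

/-!
Existence with proper support on schemes immersed in projective space.
-/

set_option autoImplicit false
set_option linter.style.haveILetI false
set_option linter.unusedSectionVars false
set_option backward.isDefEq.respectTransparency.types false

universe u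

open CategoryTheory CategoryTheory.Limits AlgebraicGeometry Opposite TopologicalSpace

noncomputable section

namespace Groth.Agent.GE14

open Formal27

variable {A : Type u} [CommRing A] {X : Scheme.{u}} [X.Over (Spec (CommRingCat.of A))] {I : Ideal A}

/-- A coherent formal system from its sections on an affine cover. -/
theorem isCohFormal_of_cover (G : ℕᵒᵖ ⥤ X.Modules) (hc : ∀ n : ℕ, Coh.IsCoh (G.obj (op n)))
    (hk : ∀ n : ℕ, Formal.KilledBy (I ^ (n + 1)) (G.obj (op n)))
    (S : Set X.affineOpens) (hS : ∀ p : X, ∃ W ∈ S, p ∈ W.1)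
    (hsurj : ∀ n, ∀ W ∈ S, Function.Surjective ((sysMap G (Nat.le_succ n)).app (Subtype.val W)))
    (hker : ∀ n, ∀ W ∈ S, ∀ x, (sysMap G (Nat.le_succ n)).app (Subtype.val W) x = 0 →
      x ∈ IM (G.obj (op (n + 1))) (I ^ (n + 1)) W.1) :
    Formal.IsCohFormal I G := by
  refine ⟨hc, hk, fun n => ?_⟩
  let t := sysMap G (Nat.le_succ n)
  have h : Formal.smulFamily (I ^ (n + 1)) (G.obj (op (n + 1))) ≫ t = 0 :=
    smulFamily_comp_eq_zero _ fun a ha => by rw [← smulMod_comp, hk n a ha, comp_zero]
  refine ⟨h, ?_⟩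
  haveI := (hc n).1
  haveI := (hc (n + 1)).1
  haveI : (cokernel (Formal.smulFamily (I ^ (n + 1)) (G.obj (op (n + 1))))).IsQuasicoherent :=
    isQuasicoherent_modPow _ I (n + 1)
  have hd : ∀ (W : X.Opens) (x : Γ(G.obj (op (n + 1)), W)),
      (cokernel.desc (Formal.smulFamily (I ^ (n + 1)) (G.obj (op (n + 1)))) t h).app W
        ((Formal.modPowπ I (n + 1) (G.obj (op (n + 1)))).app W x) = t.app W x := fun W x =>
    congrArg (fun φ => (Scheme.Modules.Hom.app φ W) x) (cokernel.π_desc _ _ h)
  refine Algz14.isIso_of_cover _ S hS fun W hW => ⟨?_, ?_⟩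
  · refine (injective_iff_map_eq_zero _).2 fun z hz => ?_
    obtain ⟨x, rfl⟩ := modPowπ_app_surjective (M := G.obj (op (n + 1))) I (n + 1) W.2 z
    exact modPowπ_app_eq_zero_of_mem (hker n W hW x ((hd W.1 x).symm.trans hz))
  · intro y
    obtain ⟨x, rfl⟩ := hsurj n W hW y
    exact ⟨_, hd W.1 x⟩

section Push

variable {P : Scheme.{u}} [P.Over (Spec (CommRingCat.of A))] (f : X ⟶ P) [IsImmersion f]
  (hf : f ≫ (P ↘ Spec (CommRingCat.of A)) = X ↘ Spec (CommRingCat.of A))

theorem support_isoSubset {Y : Scheme.{u}} {M N : Y.Modules} (e : M ≅ N) :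
    CohB1.support M ⊆ CohB1.support N := fun _ h => QC70.mem_support_of_mono e.hom h

include hf in
theorem isCohFormal_push_immersion [IsLocallyNoetherian P] {G : ℕᵒᵖ ⥤ X.Modules} (hG : Formal.IsCohFormal I G)
    {T : Set P} (hT : IsClosed T) (hTU : T ⊆ (f.coborderRange : Set P))
    (hs : CohB1.support (G.obj (op 0)) ⊆ f ⁻¹' T) :
    Formal.IsCohFormal I (G ⋙ Scheme.Modules.pushforward f) := by
  have hsn : ∀ n : ℕ, CohB1.support (G.obj (op n)) ⊆ f ⁻¹' T := fun n => (support_formal_subset hG n).trans hs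
  let S : Set P.affineOpens := {W | W.1 ≤ f.coborderRange ∨ (W.1 : Set P) ⊆ Tᶜ}
  have hS : ∀ p : P, ∃ W ∈ S, p ∈ W.1 := fun p => by
    by_cases hp : p ∈ T
    · obtain ⟨W, hW, hpW, hWU⟩ := exists_isAffineOpen_mem_and_subset (hTU hp)
      exact ⟨⟨W, hW⟩, .inl hWU, hpW⟩
    · obtain ⟨W, hW, hpW, hWU⟩ := exists_isAffineOpen_mem_and_subset (U := ⟨Tᶜ, hT.isOpen_compl⟩) hp
      exact ⟨⟨W, hW⟩, .inr hWU, hpW⟩
  have hzero : ∀ (n : ℕ) (W : P.Opens), (W : Set P) ⊆ Tᶜ → Subsingleton Γ(G.obj (op n), f ⁻¹ᵁ W) := fun n W hW =>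
    Coh69.subsingleton_sections_of_stalks _ _ fun x hx => QC70.notMem_support_iff.1 fun h => hW hx (hsn n h)
  have haff : ∀ W : P.affineOpens, W.1 ≤ f.coborderRange → IsAffineOpen (f ⁻¹ᵁ W.1) := fun W hW => by
    have h := (W.2.preimage_of_isOpenImmersion f.coborderRange.ι (by
      rw [Scheme.Opens.opensRange_ι]; exact hW)).preimage f.liftCoborder
    rwa [← Scheme.Hom.comp_preimage, Scheme.Hom.liftCoborder_ι] at h
  refine isCohFormal_of_cover _ (fun n => ?_) (fun n a ha => ?_) S hS (fun n W hW => ?_) (fun n W hW x hx => ?_)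
  · refine QC70.isCoh_of_iso ((Scheme.Modules.pushforwardComp f.liftCoborder f.coborderRange.ι).app _ ≪≫
      eqToIso (by rw [Scheme.Hom.liftCoborder_ι]; rfl)) ?_
    haveI := (hG.1 n).1
    refine Coh69.isCoh_push_open f.coborderRange T hT hTU _ (QC70.isCoh_pushforward f.liftCoborder _ (hG.1 n)) ?_
    refine support_pushforward_subset f.liftCoborder _ (T := f.coborderRange.ι ⁻¹' T)
      (hT.preimage f.coborderRange.ι.continuous) fun x hx => ?_
    show f.coborderRange.ι (f.liftCoborder x) ∈ T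
    rw [← Scheme.Hom.comp_apply, Scheme.Hom.liftCoborder_ι]
    exact hsn n hx
  · show Formal.smulMod A ((Scheme.Modules.pushforward f).obj (G.obj (op n))) a = 0
    rw [← pushforward_map_smulMod f hf, hG.2.1 n a ha, Functor.map_zero]
  · rcases hW with hW | hW
    · exact (Algz14.isTower_sect hG (haff W hW)).surj (Nat.le_succ n)
    · haveI := hzero n W.1 hW
      exact fun y => ⟨0, Subsingleton.elim (α := Γ(G.obj (op n), f ⁻¹ᵁ W.1)) _ _⟩
  · rcases hW with hW | hW
    · have h : (show Γ(G.obj (op (n + 1)), f ⁻¹ᵁ W.1) from x) ∈ IM (G.obj (op (n + 1))) (I ^ (n + 1)) (f ⁻¹ᵁ W.1) := by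
        have := (Algz14.isTower_sect hG (haff W hW)).ker (Nat.le_succ n) x hx
        rwa [← IM_eq] at this
      refine IM_induction (p := fun z : Γ(G.obj (op (n + 1)), f ⁻¹ᵁ W.1) =>
        (show Γ((Scheme.Modules.pushforward f).obj (G.obj (op (n + 1))), W.1) from z) ∈
          IM ((Scheme.Modules.pushforward f).obj (G.obj (op (n + 1)))) (I ^ (n + 1)) W.1) h (fun a ha m => ?_)
          (zero_mem _) (fun _ _ h₁ h₂ => add_mem h₁ h₂)
      have e := congrArg (fun φ => (Scheme.Modules.Hom.app φ W.1) m)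
        (pushforward_map_smulMod f hf (G.obj (op (n + 1))) a)
      exact Eq.mpr (congrArg (· ∈ IM _ _ _) e)
        (smul_mem_IM (M := (Scheme.Modules.pushforward f).obj (G.obj (op (n + 1)))) ha m)
    · haveI := hzero (n + 1) W.1 hW
      rw [show x = 0 from Subsingleton.elim (α := Γ(G.obj (op (n + 1)), f ⁻¹ᵁ W.1)) _ _]
      exact zero_mem _

theorem isIso_counit_immersion (N : X.Modules) :
    IsIso ((Scheme.Modules.pullbackPushforwardAdjunction f).counit.app N) := by
  have := GSS45.ClosedHom.full_pushforward f.liftCoborder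
  have := QC70.faithful_pushforward f.liftCoborder
  let e : Scheme.Modules.pushforward f.liftCoborder ⋙ Scheme.Modules.pushforward f.coborderRange.ι ≅
      Scheme.Modules.pushforward f :=
    Scheme.Modules.pushforwardComp f.liftCoborder f.coborderRange.ι ≪≫
      eqToIso (by rw [Scheme.Hom.liftCoborder_ι])
  haveI : (Scheme.Modules.pushforward f).Full := Functor.Full.of_iso e
  haveI : (Scheme.Modules.pushforward f).Faithful := Functor.Faithful.of_iso e
  infer_instance

end Push

/-- Existence with proper support on a scheme immersed in projective space. -/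
theorem exists_completion_of_immersion [IsNoetherianRing A] [IsAdicComplete I A]
    [LocallyOfFiniteType (X ↘ Spec (CommRingCat.of A))] {N : ℕ} (f : X ⟶ CohB1.ProjSpace N A) [IsImmersion f]
    (hf : f ≫ CohB1.ProjSpace.toSpec N A = X ↘ Spec (CommRingCat.of A))
    {G : ℕᵒᵖ ⥤ X.Modules} (hG : Formal.IsCohFormal I G)
    (hs : ClSub.IsProperOver (X ↘ Spec (CommRingCat.of A)) (CohB1.support (G.obj (op 0)))) :
    ∃ M : X.Modules, Coh.IsCoh M ∧ ClSub.IsProperOver (X ↘ Spec (CommRingCat.of A)) (CohB1.support M) ∧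
      Nonempty (Formal.completion I M ≅ G) := by
  let q := CohB1.ProjSpace.toSpec N A
  haveI : IsProper q := Serre71.isProper_projSpace N A
  letI : (CohB1.ProjSpace N A).Over (Spec (CommRingCat.of A)) := ⟨q⟩
  haveI : IsProper ((CohB1.ProjSpace N A) ↘ Spec (CommRingCat.of A)) := ‹IsProper q›
  haveI : IsLocallyNoetherian (CohB1.ProjSpace N A) :=
    LocallyOfFiniteType.isLocallyNoetherian (CohB1.ProjSpace.toSpec N A)
  have hTp : ClSub.IsProperOver q (f '' CohB1.support (G.obj (op 0))) :=
    Coh69.PO.image f hf hs fun R i _ hp => by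
      haveI : IsProper ((i ≫ f) ≫ q) := by rw [Category.assoc, hf]; exact hp
      haveI := IsProper.of_comp (i ≫ f) q
      infer_instance
  have hT : IsClosed (f '' CohB1.support (G.obj (op 0))) := hTp.1
  have hfU : ∀ x, f x ∈ f.coborderRange := fun x => by
    have h := (f.liftCoborder x).2
    have e : f.coborderRange.ι (f.liftCoborder x) = f x := by rw [← Scheme.Hom.comp_apply, f.liftCoborder_ι]
    exact e ▸ h
  have hTU : f '' CohB1.support (G.obj (op 0)) ⊆ (f.coborderRange : Set (CohB1.ProjSpace N A)) := by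
    rintro _ ⟨x, -, rfl⟩
    exact hfU x
  have hG' := isCohFormal_push_immersion f hf hG hT hTU (Set.subset_preimage_image _ _)
  obtain ⟨M, hM, ⟨e⟩⟩ := exists_completion_of_projective (I := I) (𝟙 (CohB1.ProjSpace N A)) hG'
  haveI := hM.1
  haveI := hM.2
  have hMU : CohB1.support M ⊆ (f.coborderRange : Set (CohB1.ProjSpace N A)) := by
    rw [← Set.sdiff_eq_empty]
    refine eq_empty_of_disjoint_zI (A := A) (I := I) ((QC70.isClosed_support M).sdiff f.coborderRange.2) ?_
    rw [← Set.subset_empty_iff]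
    rintro x ⟨⟨hx, hxU⟩, hxz⟩
    have h0 : x ∈ CohB1.support ((Formal.completion I M).obj (op 0)) := by
      rw [support_completion_zero hM]
      exact ⟨hx, hxz⟩
    exact hxU (hTU (support_pushforward_subset f _ hT (Set.subset_preimage_image _ _)
      (support_isoSubset (e.app (op 0)) h0)))
  have hu : ClSub.IsProperOver q (Set.univ : Set (CohB1.ProjSpace N A)) :=
    (Coh69.PO.iff_of_range (𝟙 _) (by simp)).2 (by rw [Category.id_comp]; infer_instance)
  obtain ⟨R, i, hi, -, hr, hp⟩ := Coh69.PO.exists_model (Coh69.PO.mono hu (QC70.isClosed_support M) (Set.subset_univ _))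
  let i' : R ⟶ f.coborderRange := IsOpenImmersion.lift f.coborderRange.ι i (by
    rw [hr, Scheme.Opens.range_ι]; exact hMU)
  have hi' : i' ≫ f.coborderRange.ι = i := IsOpenImmersion.lift_fac _ _ _
  haveI : IsClosedImmersion i' := by
    haveI : IsClosedImmersion (i' ≫ f.coborderRange.ι) := by rw [hi']; exact hi
    exact IsClosedImmersion.of_comp i' f.coborderRange.ι
  have hU : ClSub.IsProperOver (f.coborderRange.ι ≫ q) (Set.range i') :=
    (Coh69.PO.iff_of_range i' rfl).2 (by rw [← Category.assoc, hi']; exact hp)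
  have hpre : ClSub.IsProperOver (X ↘ Spec (CommRingCat.of A)) (f.liftCoborder ⁻¹' Set.range i') :=
    Coh69.PO.preimage f.liftCoborder (by rw [← Category.assoc, Scheme.Hom.liftCoborder_ι]; exact hf) hU
  have hsupp : CohB1.support ((Scheme.Modules.pullback f).obj M) ⊆ f.liftCoborder ⁻¹' Set.range i' := by
    rw [QCPull72.support_pullback f M]
    intro x hx
    have hx' : f x ∈ Set.range i := hr ▸ hx
    obtain ⟨r, hr'⟩ := hx'
    refine ⟨r, f.coborderRange.ι.isOpenEmbedding.injective ?_⟩
    rw [← Scheme.Hom.comp_apply, ← Scheme.Hom.comp_apply, hi', Scheme.Hom.liftCoborder_ι, hr']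
  have hM' : Coh.IsCoh ((Scheme.Modules.pullback f).obj M) := ZClos93.isCoh_pullback f M hM
  haveI := hM'.2
  obtain ⟨e₀⟩ := Algz14.completion_pullback f hf I M
  refine ⟨_, hM', Coh69.PO.mono hpre (QC70.isClosed_support _) hsupp, ⟨?_⟩⟩
  refine e₀ ≪≫ Functor.isoWhiskerRight e (Scheme.Modules.pullback f) ≪≫ ?_
  exact NatIso.ofComponents (fun n => @asIso _ _ _ _
      ((Scheme.Modules.pullbackPushforwardAdjunction f).counit.app (G.obj n)) (isIso_counit_immersion f _))
    (fun g => (Scheme.Modules.pullbackPushforwardAdjunction f).counit.naturality (G.map g))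

end Groth.Agent.GE14
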