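import Groth.Agent.Algz14.Pro
import Groth.Agent.Algz14.SectTower
import Groth.Agent.QCSupp72.Basic
import Groth.Agent.QCPull72.Support
import Groth.Agent.Coh69.ProperOver
import Groth.Agent.Coh69.PushOpen

/-!
Supports of coherent formal systems, and supports over a complete base.
-/

set_option autoImplicit false
set_option linter.style.haveILetI false
set_option linter.unusedSectionVars false
set_option backward.isDefEq.respectTransparency.types false

universe u

open CategoryTheory CategoryTheory.Limits AlgebraicGeometry Opposite TopologicalSpace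

noncomputable section

namespace Groth.Agent.GE14

open Formal27 Var76.LineBundle Var76.ZeroScheme

variable {A : Type u} [CommRing A] {X : Scheme.{u}} [X.Over (Spec (CommRingCat.of A))] {I : Ideal A}

/-- The closed set cut out by `I`. -/
def zI (I : Ideal A) (X : Scheme.{u}) [X.Over (Spec (CommRingCat.of A))] : Set X :=
  {x | ∀ a ∈ I, x ∉ X.basicOpen (gi A X ⊤ a)}

theorem mem_zI_iff {W : X.Opens} (hW : IsAffineOpen W) {x : X} (hx : x ∈ W) :
    x ∈ zI I X ↔ hW.primeIdealOf ⟨x, hx⟩ ∈ PrimeSpectrum.zeroLocus (I.map (gi A X W) : Set Γ(X, W)) := by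
  rw [PrimeSpectrum.mem_zeroLocus, SetLike.coe_subset_coe, Ideal.map_le_iff_le_comap]
  have key : ∀ a, x ∈ X.basicOpen (gi A X ⊤ a) ↔ gi A X W a ∉ (hW.primeIdealOf ⟨x, hx⟩).asIdeal := fun a => by
    rw [← QCSupp72.mem_basicOpen_iff_notMem hW hx, ← res_gi (le_top : W ≤ ⊤) a]
    show _ ↔ x ∈ X.basicOpen (X.presheaf.map (homOfLE (le_top : W ≤ ⊤)).op (gi A X ⊤ a))
    rw [Scheme.basicOpen_res]
    exact ⟨fun h => ⟨hx, h⟩, fun h => h.2⟩
  exact ⟨fun h a ha => by_contra fun hn => h a ha ((key a).2 hn), fun h a ha hn => (key a).1 hn (h ha)⟩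

variable {G : ℕᵒᵖ ⥤ X.Modules}

theorem support_formal_subset (hG : Formal.IsCohFormal I G) (n : ℕ) :
    CohB1.support (G.obj (op n)) ⊆ CohB1.support (G.obj (op 0)) := by
  intro x hx
  obtain ⟨_, ⟨W, hW, rfl⟩, hxW, -⟩ :=
    X.isBasis_affineOpens.exists_subset_of_mem_open (Set.mem_univ x) isOpen_univ
  haveI := (hG.1 n).1
  haveI := (hG.1 0).1
  haveI := Algz14.finite_sect hG hW n
  rw [← QCSupp72.mem_support_iff _ hW hxW] at hx ⊢
  have hT := Algz14.isTower_sect hG hW
  let J := I.map (gi A X W)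
  have hzero : hW.primeIdealOf ⟨x, hxW⟩ ∈ PrimeSpectrum.zeroLocus (J : Set Γ(X, W)) := by
    have h := (Module.mem_support_iff_of_finite.1 hx)
    rw [PrimeSpectrum.mem_zeroLocus, SetLike.coe_subset_coe]
    refine Ideal.IsPrime.le_of_pow_le (n := n + 1) fun r hr => h ?_
    exact Module.mem_annihilator.2 fun m => hT.kill n r hr m
  have h2 : hW.primeIdealOf ⟨x, hxW⟩ ∈
      Module.support Γ(X, W) (Γ(G.obj (op n), W) ⧸ (J • ⊤ : Submodule Γ(X, W) Γ(G.obj (op n), W))) := by
    rw [Module.support_quotient]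
    exact ⟨hx, hzero⟩
  let tr := Algz14.sectTr G W (Nat.zero_le n)
  have hker : LinearMap.ker tr ≤ J • ⊤ := fun y hy => by
    have := hT.ker (Nat.zero_le n) y hy
    rwa [zero_add, pow_one] at this
  let e := tr.quotKerEquivOfSurjective (hT.surj (Nat.zero_le n))
  exact Module.support_subset_of_surjective ((Submodule.mapQ (LinearMap.ker tr) (J • ⊤) LinearMap.id hker).comp
    e.symm.toLinearMap) ((Submodule.Quotient.mk_surjective _).forall.2 (fun y => ⟨e (Submodule.Quotient.mk y), by simp⟩)) h2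

theorem support_completion_zero {M : X.Modules} (hM : Coh.IsCoh M) :
    CohB1.support ((Formal.completion I M).obj (op 0)) = CohB1.support M ∩ zI I X := by
  ext x
  obtain ⟨_, ⟨W, hW, rfl⟩, hxW, -⟩ :=
    X.isBasis_affineOpens.exists_subset_of_mem_open (Set.mem_univ x) isOpen_univ
  haveI := hM.1
  haveI := hM.2
  haveI := QC70.finite_sections_of_isFiniteType M hW
  haveI : ((Formal.completion I M).obj (op 0)).IsQuasicoherent := isQuasicoherent_modPow M I (0 + 1)
  let J := I.map (gi A X W)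
  let p : Γ(M, W) →ₗ[Γ(X, W)] Γ((Formal.completion I M).obj (op 0), W) :=
    QC70.appLinear (Formal.modPowπ I (0 + 1) M) W
  have hker : LinearMap.ker p = J • ⊤ := by
    refine Submodule.ext fun y => (modPowπ_app_eq_zero_iff (M := M) hW y).trans ?_
    rw [IM, zero_add, pow_one]
  let e := (Submodule.quotEquivOfEq _ _ hker.symm).trans
    (p.quotKerEquivOfSurjective (modPowπ_app_surjective (M := M) I (0 + 1) hW))
  rw [Set.mem_inter_iff, ← QCSupp72.mem_support_iff M hW hxW, ← QCSupp72.mem_support_iff _ hW hxW,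
    mem_zI_iff hW hxW, ← e.support_eq, Module.support_quotient]
  rfl

/-- Over a complete base a closed set of a proper scheme missing the zero locus of `I` is empty. -/
theorem eq_empty_of_disjoint_zI [IsAdicComplete I A] [UniversallyClosed (X ↘ Spec (CommRingCat.of A))]
    {C : Set X} (hC : IsClosed C) (hd : C ∩ zI I X = ∅) : C = ∅ := by
  by_contra hne
  obtain ⟨x, hx⟩ := Set.nonempty_iff_ne_empty.2 hne
  let s := X ↘ Spec (CommRingCat.of A)
  have hcl := s.isClosedMap C hC
  obtain ⟨p, hp, hpc⟩ := IsClosed.exists_closed_singleton hcl ⟨s x, x, hx, rfl⟩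
  obtain ⟨y, hy, rfl⟩ := hp
  have hmax : (s y : PrimeSpectrum A).asIdeal.IsMaximal :=
    (PrimeSpectrum.isClosed_singleton_iff_isMaximal _).1 hpc
  have hIm : I ≤ (s y : PrimeSpectrum A).asIdeal :=
    (IsAdicComplete.le_jacobson_bot I).trans (sInf_le ⟨bot_le, hmax⟩)
  refine Set.eq_empty_iff_forall_notMem.1 hd y ⟨hy, fun a ha hb => ?_⟩
  have he : X.basicOpen (gi A X ⊤ a) = s ⁻¹ᵁ (PrimeSpectrum.basicOpen a : (Spec (CommRingCat.of A)).Opens) := by
    refine Eq.trans ?_ (congrArg (s ⁻¹ᵁ ·) (basicOpen_eq_of_affine (R := CommRingCat.of A) a))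
    refine Eq.trans ?_ (Scheme.preimage_basicOpen s _).symm
    refine congrArg _ ?_
    show (X.presheaf.map _).hom (Coh.toGlobal s a) = _
    simp [Coh.toGlobal]
    rfl
  rw [he] at hb
  exact hb (hIm ha)

/-- Vanishing of the sections over opens missing the support. -/
theorem support_pushforward_subset {Y : Scheme.{u}} (f : X ⟶ Y) (F : X.Modules) {T : Set Y} (hT : IsClosed T)
    (h : CohB1.support F ⊆ f ⁻¹' T) : CohB1.support ((Scheme.Modules.pushforward f).obj F) ⊆ T := by
  intro y hy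
  by_contra hyT
  refine hy (subsingleton_of_forall_eq 0 fun e => ?_)
  obtain ⟨W, hyW, s, rfl⟩ := QC70.germM_exist e
  let V : Y.Opens := W ⊓ ⟨Tᶜ, hT.isOpen_compl⟩
  haveI : Subsingleton Γ(F, f ⁻¹ᵁ V) := Coh69.subsingleton_sections_of_stalks F _ fun x hx =>
    QC70.notMem_support_iff.1 fun hxs => hx.2 (h hxs)
  rw [← QC70.germM_res (inf_le_left : V ≤ W) (show y ∈ V from ⟨hyW, hyT⟩) s]
  exact (congrArg (QC70.germM ((Scheme.Modules.pushforward f).obj F) V y ⟨hyW, hyT⟩)
    (Subsingleton.elim (α := Γ(F, f ⁻¹ᵁ V)) _ 0)).trans (QC70.germM_zero _)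

end Groth.Agent.GE14
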