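import Groth.Agent.Algz14.Tricky
import Groth.Agent.GE14.Support
import Groth.Agent.FF52.HomCompletion

/-!
Algebraization of formal systems with proper support mapping to a completion, up to an auxiliary ideal.
-/

set_option autoImplicit false
set_option linter.style.haveILetI false
set_option linter.unusedSectionVars false

universe u

open CategoryTheory CategoryTheory.Limits AlgebraicGeometry Opposite

noncomputable section

namespace Groth.Agent.GE14

theorem support_subset_of_epi {X : Scheme.{u}} {M N : X.Modules} (φ : M ⟶ N) [Epi φ] :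
    CohB1.support N ⊆ CohB1.support M := fun _ h => QC70.mem_support_of_epi φ h

theorem support_subset_of_mono {X : Scheme.{u}} {M N : X.Modules} (φ : M ⟶ N) [Mono φ] :
    CohB1.support M ⊆ CohB1.support N := fun _ h => QC70.mem_support_of_mono φ h

theorem support_biprod_subset {X : Scheme.{u}} (M N : X.Modules) :
    CohB1.support (M ⊞ N) ⊆ CohB1.support M ∪ CohB1.support N := fun x hx => by
  by_contra h
  rw [Set.mem_union, not_or, QC70.notMem_support_iff, QC70.notMem_support_iff] at h
  haveI := h.1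
  haveI := h.2
  refine hx (subsingleton_of_forall_eq 0 fun e => ?_)
  have e' := congrArg (fun f => QC70.stalkMapM f x e) (biprod.total (X := M) (Y := N))
  simp only [QC70.stalkMapM_add, QC70.stalkMapM_comp, QC70.stalkMapM_id] at e'
  rw [← e', Subsingleton.elim (QC70.stalkMapM (biprod.fst : M ⊞ N ⟶ M) x e) 0,
    Subsingleton.elim (QC70.stalkMapM (biprod.snd : M ⊞ N ⟶ N) x e) 0]
  exact (congrArg₂ (· + ·) (map_zero _) (map_zero _)).trans (add_zero _)

theorem isProperOver_union {X S : Scheme.{u}} {f : X ⟶ S} [LocallyOfFiniteType f] {Z Z' : Set X}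
    (h : ClSub.IsProperOver f Z) (h' : ClSub.IsProperOver f Z') : ClSub.IsProperOver f (Z ∪ Z') := by
  rw [Set.union_eq_iUnion]
  exact Coh69.PO.union fun b => by cases b <;> assumption

theorem mono_of_killedBy_pow_zero {A : Type u} [CommRing A] {X : Scheme.{u}} [X.Over (Spec (CommRingCat.of A))]
    {I : Ideal A} {M N : X.Modules} (a : M ⟶ N) (h : Formal.KilledBy (I ^ 0) (kernel a)) : Mono a := by
  refine Preadditive.mono_of_kernel_zero ((Category.comp_id _).symm.trans ?_)
  have h1 : Formal.smulMod A (kernel a) (1 : A) = 0 := h 1 (by rw [pow_zero, Ideal.one_eq_top]; trivial)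
  rw [Formal27.smulMod_one] at h1
  rw [show kernel.ι a = 𝟙 _ ≫ kernel.ι a from (Category.id_comp _).symm, h1, zero_comp, zero_comp]

end Groth.Agent.GE14

namespace Groth.Agent.Algz14

open Formal27

variable {A : Type u} [CommRing A] {X : Scheme.{u}} [X.Over (Spec (CommRingCat.of A))] {I : Ideal A}
variable [IsNoetherian X] (K : X.IdealSheafData) {F : ℕᵒᵖ ⥤ X.Modules} (hF : Formal.IsCohFormal I F)
variable {H : X.Modules} (hH : Coh.IsCoh H) (α : F ⟶ Formal.completion I H) {t : ℕ}

include hF hH in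
theorem exists_algebraization_tricky_support [IsNoetherianRing A] [IsAdicComplete I A]
    [LocallyOfFiniteType (X ↘ Spec (CommRingCat.of A))] [QuasiCompact (X ↘ Spec (CommRingCat.of A))]
    (hs0 : ClSub.IsProperOver (X ↘ Spec (CommRingCat.of A)) (CohB1.support (F.obj (op 0))))
    (hsH : ClSub.IsProperOver (X ↘ Spec (CommRingCat.of A)) (CohB1.support H))
    (h₁ : ∀ (e : ℕ) (G : ℕᵒᵖ ⥤ X.Modules), Formal.IsCohFormal I G →
      (∀ n : ℕ, ClSub.KilledByIdeal (K ^ e) (G.obj (op n))) →
      ClSub.IsProperOver (X ↘ Spec (CommRingCat.of A)) (CohB1.support (G.obj (op 0))) →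
      ∃ M : X.Modules, Coh.IsCoh M ∧ ClSub.KilledByIdeal (K ^ e) M ∧
        ClSub.IsProperOver (X ↘ Spec (CommRingCat.of A)) (CohB1.support M) ∧
        Nonempty (Formal.completion I M ≅ G))
    (hker : ∀ n : ℕ, ClSub.KilledByIdeal (K ^ (t + 1)) (kernel (α.app (op n))))
    (hcoker : ∀ n : ℕ, ClSub.KilledByIdeal (K ^ (t + 1)) (cokernel (α.app (op n)))) :
    ∃ M : X.Modules, Coh.IsCoh M ∧ ClSub.IsProperOver (X ↘ Spec (CommRingCat.of A)) (CohB1.support M) ∧
      Nonempty (Formal.completion I M ≅ F) := by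
  classical
  obtain ⟨S, hS⟩ := exists_cover (X := X)
  choose cW kW hsep using fun W : X.affineOpens => exists_separation K hF hH α hker W
  let c := S.sup cW
  haveI hqF : ∀ n : ℕ, (F.obj (op n)).IsQuasicoherent := fun n => (hF.1 n).1
  -- the quotient by a power of K
  let β := idealSysι (K ^ c) F
  have hqB : ∀ n : ℕ, ((idealSys (K ^ c) F).obj (op n)).IsQuasicoherent := fun n =>
    QC70.isQuasicoherent_idealMul (K ^ c) (F.obj (op n))
  have hC : Formal.IsCohFormal I (cokerSys β) := isCohFormal_cokerSys hqB (fun n => by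
    haveI := Formal27.epi_step hF n
    exact epi_idealMul_map (K ^ c) (sysMap F (Nat.le_succ n))) β hF
  obtain ⟨M, hM, hMk, hMs, ⟨eM⟩⟩ := h₁ c _ hC (fun n => killed_quotIdeal (K ^ c) (F.obj (op n)))
    (Coh69.PO.mono hs0 (haveI := (hC.1 0).2; QC70.isClosed_support _)
      (@GE14.support_subset_of_epi _ _ _ (cokernel.π (β.app (op 0))) coequalizer.π_epi))
  let π' : F ⟶ Formal.completion I M := cokerSysπ β ≫ eM.inv
  have hπ' : ∀ (W : X.affineOpens) (n : ℕ) (y : Γ(F.obj (op n), W.1)), (π'.app (op n)).app W.1 y = 0 →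
      y ∈ (K ^ c).ideal W • (⊤ : Submodule Γ(X, W.1) Γ(F.obj (op n), W.1)) := fun W n y hy => by
    refine (quotIdeal_app_eq_zero_iff (K ^ c) W y).1 ?_
    have h : (π'.app (op n) ≫ eM.hom.app (op n)).app W.1 y = 0 :=
      (congrArg ((eM.hom.app (op n)).app W.1) hy).trans (map_zero _)
    have e : π'.app (op n) ≫ eM.hom.app (op n) = (cokerSysπ β).app (op n) :=
      (Category.assoc _ _ _).trans ((congrArg (_ ≫ ·) (eM.inv_hom_id_app (op n))).trans (Category.comp_id _))
    rw [e] at h
    exact h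
  -- the pair
  let N : X.Modules := M ⊞ H
  have hN : Coh.IsCoh N :=
    let S' := ShortComplex.mk (biprod.inl : M ⟶ M ⊞ H) biprod.snd biprod.inl_snd
    QC70.isCoh_X₂ S' (ShortComplex.Splitting.ofHasBinaryBiproduct _ _).shortExact hM hH
  haveI := hN.1
  let γ : F ⟶ Formal.completion I N :=
    π' ≫ complMap (biprod.inl : M ⟶ N) + α ≫ complMap (biprod.inr : H ⟶ N)
  have hfst' : γ ≫ complMap (biprod.fst : N ⟶ M) = π' := by
    show (π' ≫ complMap (biprod.inl : M ⟶ M ⊞ H) + α ≫ complMap (biprod.inr : H ⟶ M ⊞ H)) ≫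
      complMap (biprod.fst : M ⊞ H ⟶ M) = π'
    rw [Preadditive.add_comp, Category.assoc π', Category.assoc α, ← complMap_comp, ← complMap_comp, biprod.inl_fst,
      biprod.inr_fst, complMap_id, complMap_zero, comp_zero, add_zero, Category.comp_id]
  have hsnd' : γ ≫ complMap (biprod.snd : N ⟶ H) = α := by
    show (π' ≫ complMap (biprod.inl : M ⟶ M ⊞ H) + α ≫ complMap (biprod.inr : H ⟶ M ⊞ H)) ≫
      complMap (biprod.snd : M ⊞ H ⟶ H) = α
    rw [Preadditive.add_comp, Category.assoc π', Category.assoc α, ← complMap_comp, ← complMap_comp, biprod.inl_snd,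
      biprod.inr_snd, complMap_id, complMap_zero, comp_zero, zero_add, Category.comp_id]
  have hfst : ∀ n : ℕ, γ.app (op n) ≫ (complMap (biprod.fst : N ⟶ M)).app (op n) = π'.app (op n) := fun n =>
    congr_arg (fun t => NatTrans.app t (op n)) hfst'
  have hsnd : ∀ n : ℕ, γ.app (op n) ≫ (complMap (biprod.snd : N ⟶ H)).app (op n) = α.app (op n) := fun n =>
    congr_arg (fun t => NatTrans.app t (op n)) hsnd'
  -- the cokernel of the pair
  haveI hqN : ∀ n : ℕ, ((Formal.completion I N).obj (op n)).IsQuasicoherent := fun n =>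
    isQuasicoherent_modPow N I (n + 1)
  have hC₀ : Formal.IsCohFormal I (cokerSys γ) :=
    isCohFormal_cokerSys hqF (fun n => Formal27.epi_step hF n) γ (isCohFormal_completion I _ hN)
  let e₀ := t + 1
  have hC₀k : ∀ n : ℕ, ClSub.KilledByIdeal (K ^ (c + e₀)) ((cokerSys γ).obj (op n)) := by
    intro n W a ha z
    haveI : (cokernel (γ.app (op n))).IsQuasicoherent := (hC₀.1 n).1
    obtain ⟨z, rfl⟩ := app_surjective_of_epi (cokernel.π (γ.app (op n))) W.2 z
    refine (Scheme.Modules.Hom.app_smul (cokernel.π (γ.app (op n))) a z).symm.trans ?_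
    have hrange : a • z ∈ LinearMap.range (QC70.appLinear (γ.app (op n)) W.1) := by
      rw [Scheme.IdealSheafData.ideal_pow, pow_add] at ha
      refine Submodule.mul_induction_on ha (fun a₁ h₁' a₂ h₂' => ?_) fun a b ha hb => by
        rw [add_smul]; exact add_mem ha hb
      rw [← Scheme.IdealSheafData.ideal_pow] at h₁' h₂'
      let zm := ((complMap (I := I) (biprod.fst : N ⟶ M)).app (op n)).app W.1 z
      let zh := ((complMap (I := I) (biprod.snd : N ⟶ H)).app (op n)).app W.1 z
      have hz : z = ((complMap (I := I) (biprod.inl : M ⟶ N)).app (op n)).app W.1 zm +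
          ((complMap (I := I) (biprod.inr : H ⟶ N)).app (op n)).app W.1 zh := by
        have e' : complMap (I := I) (biprod.fst : N ⟶ M) ≫ complMap (biprod.inl : M ⟶ N) +
            complMap (biprod.snd : N ⟶ H) ≫ complMap (biprod.inr : H ⟶ N) = 𝟙 _ := by
          rw [← complMap_comp, ← complMap_comp, ← complMap_add, biprod.total, complMap_id]
        have e : (complMap (I := I) (biprod.fst : N ⟶ M)).app (op n) ≫ (complMap (biprod.inl : M ⟶ N)).app (op n) +
            (complMap (biprod.snd : N ⟶ H)).app (op n) ≫ (complMap (biprod.inr : H ⟶ N)).app (op n) = 𝟙 _ :=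
          congr_arg (fun t => NatTrans.app t (op n)) e'
        exact (congrArg (fun φ => (Scheme.Modules.Hom.app φ W.1) z) e).symm
      have hγ : ∀ y : Γ(F.obj (op n), W.1), (γ.app (op n)).app W.1 y =
          ((complMap (I := I) (biprod.inl : M ⟶ N)).app (op n)).app W.1 ((π'.app (op n)).app W.1 y) +
            ((complMap (I := I) (biprod.inr : H ⟶ N)).app (op n)).app W.1 ((α.app (op n)).app W.1 y) := fun y => rfl
      have hqM : ∀ n : ℕ, ((Formal.completion I M).obj (op n)).IsQuasicoherent := fun n =>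
        (isCohFormal_completion I _ hM).1 n |>.1
      have hkillM : ∀ {b : Γ(X, W.1)}, b ∈ (K ^ c).ideal W → ∀ x : Γ((Formal.completion I M).obj (op n), W.1),
          b • x = 0 := fun {b} hb x => by
        haveI := hM.1
        obtain ⟨x, rfl⟩ := modPowπ_app_surjective (M := M) I (n + 1) W.2 x
        refine (Scheme.Modules.Hom.app_smul (Formal.modPowπ I (n + 1) M) b x).symm.trans ?_
        rw [killed_app (K ^ c) hMk W hb x]
        exact map_zero _
      -- the component in H
      have hinr : ∀ x : Γ((Formal.completion I H).obj (op n), W.1),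
          (a₁ * a₂) • ((complMap (I := I) (biprod.inr : H ⟶ N)).app (op n)).app W.1 x ∈
            LinearMap.range (QC70.appLinear (γ.app (op n)) W.1) := fun x => by
        haveI : ((Formal.completion I H).obj (op n)).IsQuasicoherent := (isCohFormal_completion I _ hH).1 n |>.1
        obtain ⟨y, hy⟩ := killed_coker_app (K ^ e₀) (α.app (op n)) (hcoker n) W h₂' x
        refine ⟨a₁ • y, ?_⟩
        rw [map_smul]
        show a₁ • (γ.app (op n)).app W.1 y = _
        rw [hγ, smul_add, hy, ← Scheme.Modules.Hom.app_smul, hkillM h₁', map_zero, zero_add, mul_smul]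
        exact congrArg (a₁ • ·) (Scheme.Modules.Hom.app_smul ((complMap (I := I) (biprod.inr : H ⟶ N)).app (op n)) a₂ x)
      rw [hz, smul_add]
      refine add_mem ?_ (hinr zh)
      haveI := hqM n
      haveI : (cokernel (β.app (op n))).IsQuasicoherent := (hC.1 n).1
      obtain ⟨y, hy⟩ := app_surjective_of_epi (cokernel.π (β.app (op n))) W.2 ((eM.hom.app (op n)).app W.1 zm)
      have hy' : (π'.app (op n)).app W.1 y = zm := by
        show (eM.inv.app (op n)).app W.1 ((cokernel.π (β.app (op n))).app W.1 y) = zm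
        rw [hy]
        exact congrArg (fun φ => (Scheme.Modules.Hom.app φ W.1) zm) (eM.hom_inv_id_app (op n))
      have h3 := hγ y
      rw [hy'] at h3
      rw [eq_sub_of_add_eq h3.symm, smul_sub]
      exact sub_mem (Submodule.smul_mem _ _ (LinearMap.mem_range_self (QC70.appLinear (γ.app (op n)) W.1) y))
        (hinr _)
    obtain ⟨y, hy⟩ := hrange
    rw [← hy]
    exact QC70.app_f_g (ShortComplex.mk (γ.app (op n)) (cokernel.π (γ.app (op n))) (cokernel.condition _)) W.1 y
  have hNs : ClSub.IsProperOver (X ↘ Spec (CommRingCat.of A)) (CohB1.support N) := by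
    haveI := hN.2
    exact Coh69.PO.mono (GE14.isProperOver_union hMs hsH) (QC70.isClosed_support N) (GE14.support_biprod_subset M H)
  have hCs : CohB1.support ((cokerSys γ).obj (op 0)) ⊆ CohB1.support N :=
    (GE14.support_subset_of_epi (cokernel.π (γ.app (op 0)))).trans
      (by
        exact @GE14.support_subset_of_epi _ _ _ (Formal.modPowπ I (0 + 1) N) coequalizer.π_epi)
  obtain ⟨M₀, hM₀, hM₀k, -, ⟨e₁⟩⟩ := h₁ (c + e₀) _ hC₀ hC₀k
    (Coh69.PO.mono hNs (haveI := (hC₀.1 0).2; QC70.isClosed_support _) hCs)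
  -- algebraize the projection
  let ψ₀ : Formal.completion I N ⟶ Formal.completion I M₀ := cokerSysπ γ ≫ e₁.inv
  let J₀ := K ^ (c + e₀)
  have hM₀n : ∀ n : ℕ, ClSub.KilledByIdeal J₀ (Formal.modPow I (n + 1) M₀) := fun n W a ha x => by
    haveI := hM₀.1
    obtain ⟨x, rfl⟩ := modPowπ_app_surjective (M := M₀) I (n + 1) W.2 x
    refine (Scheme.Modules.Hom.app_smul (Formal.modPowπ I (n + 1) M₀) a x).symm.trans ?_
    rw [killed_app J₀ hM₀k W ha x]
    exact map_zero _
  let g : ∀ n : ℕ, N ⟶ Formal.modPow I (n + 1) M₀ := fun n => Formal.modPowπ I (n + 1) N ≫ ψ₀.app (op n)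
  let g' : ∀ n : ℕ, quotIdeal J₀ N ⟶ Formal.modPow I (n + 1) M₀ := fun n =>
    cokernel.desc _ (g n) (idealMulι_comp_of_killed J₀ (g n) (hM₀n n))
  have hg0 : ∀ n, ∀ a ∈ I ^ (n + 1), Formal.smulMod A (quotIdeal J₀ N) a ≫ g' n = 0 := fun n a ha => by
    rw [← smulMod_comp, show Formal.smulMod A (Formal.modPow I (n + 1) M₀) a = 0 from
      (isCohFormal_completion I _ hM₀).2.1 n a ha, comp_zero]
  let ψ₁ : Formal.completion I (quotIdeal J₀ N) ⟶ Formal.completion I M₀ :=
    { app := fun n => cokernel.desc _ (g' n.unop) (smulFamily_comp_eq_zero _ (hg0 n.unop))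
      naturality := by
        rintro ⟨m⟩ ⟨n⟩ φ
        obtain ⟨h⟩ : Nonempty (n ≤ m) := ⟨leOfHom φ.unop⟩
        rw [show φ = (homOfLE h).op from Subsingleton.elim _ _]
        refine (cancel_epi (Formal.modPowπ I (m + 1) (quotIdeal J₀ N))).1 ?_
        refine ((Category.assoc _ _ _).symm.trans ((congrArg (· ≫ _) (completion_map_π _ h)).trans
          (cokernel.π_desc _ _ _))).trans ?_
        refine Eq.trans ?_ ((Category.assoc _ _ _).symm.trans
          (congrArg (· ≫ sysMap (Formal.completion I M₀) h) (cokernel.π_desc _ _ _))).symm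
        refine (cancel_epi (cokernel.π (Dual3.idealMulι J₀ N))).1 ?_
        refine (cokernel.π_desc _ _ _).trans ?_
        refine Eq.trans ?_ ((Category.assoc _ _ _).symm.trans
          (congrArg (· ≫ sysMap (Formal.completion I M₀) h) (cokernel.π_desc _ _ _))).symm
        exact (congrArg (· ≫ ψ₀.app (op n)) (completion_map_π N h)).symm.trans ((Category.assoc _ _ _).trans
          ((congrArg (_ ≫ ·) (ψ₀.naturality (homOfLE h).op)).trans (Category.assoc _ _ _).symm)) }
  haveI := hN.1
  obtain ⟨φ, hφ, -⟩ := FF52.HomCompletion.existsUnique_of_proper_inter I (isCoh_quotIdeal J₀ hN) hM₀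
    (Coh69.PO.mono hNs
      ((haveI := (isCoh_quotIdeal J₀ hN).2; QC70.isClosed_support _).inter (haveI := hM₀.2; QC70.isClosed_support _))
      (Set.inter_subset_left.trans (GE14.support_subset_of_epi (cokernel.π (Dual3.idealMulι J₀ N))))) ψ₁
  let ψ : N ⟶ M₀ := cokernel.π (Dual3.idealMulι J₀ N) ≫ φ
  have hψ : ∀ n : ℕ, Formal.modPowπ I (n + 1) N ≫ ψ₀.app (op n) = ψ ≫ Formal.modPowπ I (n + 1) M₀ := fun n => by
    refine Eq.trans ?_ ((congrArg (cokernel.π (Dual3.idealMulι J₀ N) ≫ ·) (hφ n)).trans (Category.assoc _ _ _).symm)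
    refine Eq.trans ?_ (congrArg (cokernel.π (Dual3.idealMulι J₀ N) ≫ ·) (cokernel.π_desc _ _ _)).symm
    exact (cokernel.π_desc _ _ _).symm
  have hexact : ∀ (W : X.affineOpens) (n : ℕ) (x : Γ(N, W.1)),
      (∃ y, (γ.app (op n)).app W.1 y = (Formal.modPowπ I (n + 1) N).app W.1 x) ↔
        (Formal.modPowπ I (n + 1) M₀).app W.1 (ψ.app W.1 x) = 0 := fun W n x => by
    have e : (Formal.modPowπ I (n + 1) M₀).app W.1 (ψ.app W.1 x) =
        (e₁.inv.app (op n)).app W.1 ((cokernel.π (γ.app (op n))).app W.1 ((Formal.modPowπ I (n + 1) N).app W.1 x)) :=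
      congrArg (fun φ => (Scheme.Modules.Hom.app φ W.1) x) (hψ n).symm
    rw [e]
    constructor
    · rintro ⟨y, hy⟩
      rw [← hy, show (cokernel.π (γ.app (op n))).app W.1 ((γ.app (op n)).app W.1 y) = 0 from
        QC70.app_f_g (ShortComplex.mk (γ.app (op n)) (cokernel.π (γ.app (op n))) (cokernel.condition _)) W.1 y]
      exact map_zero _
    · intro h
      refine exists_app_eq_of_cokernel_π (γ.app (op n)) W.2 ?_
      exact QC70.app_injective_of_mono (e₁.inv.app (op n)) W.1 (h.trans (map_zero _).symm)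
  -- the kernel
  let P : X.Modules := kernel ψ
  have hP : Coh.IsCoh P := QC70.isCoh_kernel ψ hN hM₀.1
  haveI := hM₀.1
  let d : RelData I X :=
    { F := F
      hF := hF
      G := P
      hG := hP
      B := Formal.completion I N
      hB := hqN
      μ := γ
      ν := fun n => kernel.ι ψ ≫ Formal.modPowπ I (n + 1) N
      hν := fun h => (Category.assoc _ _ _).trans (congrArg (kernel.ι ψ ≫ ·) (completion_map_π N h)) }
  have hrel : ∀ W ∈ S, ∃ k, d.SecRel W.1 0 k := by
    intro W hW
    haveI : IsNoetherianRing Γ(X, W.1) := IsLocallyNoetherian.component_noetherian W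
    haveI := hN.2
    haveI := hM₀.2
    haveI : Module.Finite Γ(X, W.1) Γ(N, W.1) := QC70.finite_sections_of_isFiniteType N W.2
    haveI : Module.Finite Γ(X, W.1) Γ(M₀, W.1) := QC70.finite_sections_of_isFiniteType M₀ W.2
    let J := I.map (gi A X W.1)
    let ιl : Γ(P, W.1) →ₗ[Γ(X, W.1)] Γ(N, W.1) := QC70.appLinear (kernel.ι ψ) W.1
    let ψl : Γ(N, W.1) →ₗ[Γ(X, W.1)] Γ(M₀, W.1) := QC70.appLinear ψ W.1
    obtain ⟨k₁, hk₁⟩ := J.exists_pow_inf_eq_pow_smul (LinearMap.range ιl)
    obtain ⟨k₂, hk₂⟩ := J.exists_pow_inf_eq_pow_smul (LinearMap.range ψl)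
    refine ⟨k₁ + k₂ + kW W, ⟨fun h y g hy => d.rel_mono h y g hy, fun n y => ?_, fun n g hg => ?_,
      fun n g hg => d.rel_zero (fun n a ha g => ?_) n hg, fun n y hy r _ => ?_, fun n g r _ => ?_⟩⟩
    · change Γ(F.obj (op (n + (k₁ + k₂ + kW W))), W.1) at y
      let m := n + (k₁ + k₂ + kW W)
      obtain ⟨x, hx⟩ := modPowπ_app_surjective (M := N) I (m + 1) W.2 ((γ.app (op m)).app W.1 y)
      have h1 : ψl x ∈ J ^ (m + 1) • (⊤ : Submodule Γ(X, W.1) Γ(M₀, W.1)) ⊓ LinearMap.range ψl := by
        refine ⟨?_, LinearMap.mem_range_self _ x⟩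
        rw [← IM_eq]
        exact (modPowπ_app_eq_zero_iff W.2 _).1 ((hexact W m x).1 ⟨y, hx.symm⟩)
      rw [hk₂ _ (by omega)] at h1
      have h2 : ψl x ∈ J ^ (n + 1) • LinearMap.range ψl :=
        Submodule.smul_mono (Ideal.pow_le_pow_right (by omega)) inf_le_right h1
      rw [← Submodule.map_top, ← Submodule.map_smul''] at h2
      obtain ⟨δ, hδ, hδe⟩ := h2
      obtain ⟨g, hg⟩ := QC70.exists_kernel_app_eq ψ W.1 (x - δ) (by
        show ψl (x - δ) = 0
        rw [map_sub, hδe, sub_self])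
      refine ⟨g, ?_⟩
      show (γ.app (op n)).app W.1 ((sysMap F (Nat.le_add_right n (k₁ + k₂ + kW W))).app W.1 y) =
        (Formal.modPowπ I (n + 1) N).app W.1 ((kernel.ι ψ).app W.1 g)
      rw [hg, map_sub, show (Formal.modPowπ I (n + 1) N).app W.1 δ = 0 from
        modPowπ_app_eq_zero_of_mem (by rw [IM_eq]; exact hδ)]
      refine Eq.trans ?_ (sub_zero _).symm
      refine (congrArg (fun φ => (Scheme.Modules.Hom.app φ W.1) y)
        (γ.naturality (homOfLE (Nat.le_add_right n (k₁ + k₂ + kW W))).op)).trans ?_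
      change (sysMap (Formal.completion I N) _).app W.1 ((γ.app (op m)).app W.1 y) = _
      rw [← hx]
      exact congrArg (fun φ => (Scheme.Modules.Hom.app φ W.1) x) (completion_map_π N _)
    · change Γ(P, W.1) at g
      have h0 : (Formal.modPowπ I (n + (k₁ + k₂ + kW W) + 1) N).app W.1 ((kernel.ι ψ).app W.1 g) = 0 :=
        ((show (γ.app (op (n + (k₁ + k₂ + kW W)))).app W.1 0 = _ from hg).symm).trans (map_zero _)
      have h1 : ιl g ∈ J ^ (n + (k₁ + k₂ + kW W) + 1) • (⊤ : Submodule Γ(X, W.1) Γ(N, W.1)) ⊓ LinearMap.range ιl := by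
        refine ⟨?_, LinearMap.mem_range_self _ g⟩
        rw [← IM_eq]
        exact (modPowπ_app_eq_zero_iff W.2 _).1 h0
      rw [hk₁ _ (by omega)] at h1
      have h2 : ιl g ∈ J ^ (n + 1) • LinearMap.range ιl :=
        Submodule.smul_mono (Ideal.pow_le_pow_right (by omega)) inf_le_right h1
      rw [← Submodule.map_top, ← Submodule.map_smul''] at h2
      obtain ⟨g', hg', hge⟩ := h2
      rwa [← QC70.app_injective_of_mono (kernel.ι ψ) W.1 hge]
    · show (kernel.ι ψ ≫ Formal.modPowπ I (n + 1) N).app W.1 (gi A X W.1 a • g) = 0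
      exact (congrArg ((Formal.modPowπ I (n + 1) N).app W.1)
        (Scheme.Modules.Hom.app_smul (kernel.ι ψ) (gi A X W.1 a) g)).trans (modPowπ_app_smul ha _)
    · change Γ(F.obj (op (n + (k₁ + k₂ + kW W))), W.1) at y
      have hγy : (γ.app (op (n + (k₁ + k₂ + kW W)))).app W.1 y = 0 :=
        (show _ = (kernel.ι ψ ≫ Formal.modPowπ I (n + (k₁ + k₂ + kW W) + 1) N).app W.1 0 from hy).trans (map_zero _)
      have hπy : (π'.app (op (n + (k₁ + k₂ + kW W)))).app W.1 y = 0 := by
        rw [← hfst]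
        exact (congrArg (((complMap (I := I) (biprod.fst : N ⟶ M)).app (op (n + (k₁ + k₂ + kW W)))).app W.1) hγy).trans (map_zero _)
      have hαy : (α.app (op (n + (k₁ + k₂ + kW W)))).app W.1 y = 0 := by
        rw [← hsnd]
        exact (congrArg (((complMap (I := I) (biprod.snd : N ⟶ H)).app (op (n + (k₁ + k₂ + kW W)))).app W.1) hγy).trans (map_zero _)
      have hle : n + kW W ≤ n + (k₁ + k₂ + kW W) := by omega
      have h1 := hsep W c (Finset.le_sup hW) n (sectTr F W.1 hle y) (by
        refine (congrArg (fun φ => (Scheme.Modules.Hom.app φ W.1) y) (α.naturality (homOfLE hle).op)).trans ?_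
        exact (congrArg ((sysMap (Formal.completion I H) hle).app W.1) hαy).trans (map_zero _)) (by
        have h2 := Submodule.mem_map_of_mem (f := sectTr F W.1 hle) (hπ' W _ y hπy)
        rw [Submodule.map_smul''] at h2
        exact Submodule.smul_mono le_rfl le_top h2)
      rw [(isTower_sect hF W.2).comp] at h1
      show r • sectTr F W.1 (Nat.le_add_right n (k₁ + k₂ + kW W)) y = 0
      rw [h1, smul_zero]
    · obtain ⟨y, hy⟩ := (hexact W n ((kernel.ι ψ).app W.1 (r • g))).2 (by
        rw [show ψ.app W.1 ((kernel.ι ψ).app W.1 (r • g)) = 0 from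
          QC70.app_f_g (ShortComplex.mk (kernel.ι ψ) ψ (kernel.condition ψ)) W.1 _, map_zero])
      exact ⟨y, hy⟩
  obtain ⟨F', a', b, hF', ha', -, -, -⟩ := d.exists_algebraization S hS 0 hrel
  haveI : Mono a' := GE14.mono_of_killedBy_pow_zero a' ha'
  exact ⟨F', hF', Coh69.PO.mono hNs (haveI := hF'.2; QC70.isClosed_support F')
    ((GE14.support_subset_of_mono a').trans (GE14.support_subset_of_mono (kernel.ι ψ))), ⟨b.symm⟩⟩

end Groth.Agent.Algz14
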