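import Groth.Agent.GE14.ClosedTransfer
import Groth.Agent.GE14.TrickySupport
import Groth.Agent.GE14.OpenExtend
import Groth.Agent.GE14.Devissage

/-!
Grothendieck existence for systems with proper support, by Chow's lemma and dévissage.
-/

set_option autoImplicit false
set_option linter.style.haveILetI false
set_option linter.unusedSectionVars false
set_option backward.isDefEq.respectTransparency.types false
set_option maxSynthPendingDepth 6

universe u

open CategoryTheory CategoryTheory.Limits AlgebraicGeometry Opposite TopologicalSpace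

noncomputable section

namespace Groth.Agent.GE14

variable {A : Type u} [CommRing A] [IsNoetherianRing A] {I : Ideal A}

/-- The completion of an isomorphism. -/
def complIso {X : Scheme.{u}} [X.Over (Spec (CommRingCat.of A))] {M N : X.Modules} (e : M ≅ N) :
    Formal.completion I M ≅ Formal.completion I N where
  hom := Algz14.complMap e.hom
  inv := Algz14.complMap e.inv
  hom_inv_id := by rw [← Algz14.complMap_comp, e.hom_inv_id, Algz14.complMap_id]
  inv_hom_id := by rw [← Algz14.complMap_comp, e.inv_hom_id, Algz14.complMap_id]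

section Closed

variable {Z X : Scheme.{u}} [X.Over (Spec (CommRingCat.of A))] [Z.Over (Spec (CommRingCat.of A))]
  [QuasiCompact (X ↘ Spec (CommRingCat.of A))] [LocallyOfFiniteType (X ↘ Spec (CommRingCat.of A))]
  [LocallyOfFiniteType (Z ↘ Spec (CommRingCat.of A))]
  [AlgebraicGeometry.IsNoetherian X] (i : Z ⟶ X) [IsClosedImmersion i]
  (hi : i ≫ (X ↘ Spec (CommRingCat.of A)) = Z ↘ Spec (CommRingCat.of A))

include hi in
theorem exists_algebraization_closed_support {G : ℕᵒᵖ ⥤ X.Modules} (hG : Formal.IsCohFormal I G)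
    (hk : ∀ n : ℕ, ClSub.KilledByIdeal i.ker (G.obj (op n)))
    (hs : ClSub.IsProperOver (X ↘ Spec (CommRingCat.of A)) (CohB1.support (G.obj (op 0))))
    (hZ : ∀ G' : ℕᵒᵖ ⥤ Z.Modules, Formal.IsCohFormal I G' →
      ClSub.IsProperOver (Z ↘ Spec (CommRingCat.of A)) (CohB1.support (G'.obj (op 0))) →
      ∃ M : Z.Modules, Coh.IsCoh M ∧ ClSub.IsProperOver (Z ↘ Spec (CommRingCat.of A)) (CohB1.support M) ∧
        Nonempty (Formal.completion I M ≅ G')) :
    ∃ M : X.Modules, Coh.IsCoh M ∧ ClSub.KilledByIdeal i.ker M ∧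
      ClSub.IsProperOver (X ↘ Spec (CommRingCat.of A)) (CohB1.support M) ∧
      Nonempty (Formal.completion I M ≅ G) := by
  haveI := (hG.1 0).1
  obtain ⟨M', hM', hM's, ⟨e⟩⟩ := hZ _ (Formal27.isCohFormal_pullback i hi G hG
    fun n => ZClos93.isCoh_pullback i _ (hG.1 n)) (by
      show ClSub.IsProperOver _ (CohB1.support ((Scheme.Modules.pullback i).obj (G.obj (op 0))))
      haveI := (hG.1 0).2
      rw [QCPull72.support_pullback i (G.obj (op 0))]
      exact Coh69.PO.preimage i hi hs)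
  haveI := hM'.1
  let M := (Coh.push i).obj M'
  have hM : Coh.IsCoh M := QC70.isCoh_pushforward i M' hM'
  haveI := hM.1
  haveI := hM.2
  have himg : ClSub.IsProperOver (X ↘ Spec (CommRingCat.of A)) (i '' CohB1.support M') :=
    Coh69.PO.image i hi hM's fun R j _ _ => inferInstance
  refine ⟨M, hM, killed_pushforward i M', Coh69.PO.mono himg (QC70.isClosed_support M)
    (support_pushforward_subset i M' himg.1 (Set.subset_preimage_image _ _)), ?_⟩
  let adj := Scheme.Modules.pullbackPushforwardAdjunction i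
  have hdesc : ∀ H : ℕᵒᵖ ⥤ X.Modules, Formal.IsCohFormal I H →
      (∀ n : ℕ, ClSub.KilledByIdeal i.ker (H.obj (op n))) →
      Nonempty (H ≅ (H ⋙ Scheme.Modules.pullback i) ⋙ Scheme.Modules.pushforward i) := fun H hH hHk => by
    haveI hu : ∀ n : ℕᵒᵖ, IsIso (adj.unit.app (H.obj n)) := fun n => by
      haveI := (hH.1 n.unop).1
      haveI : (H.obj n).IsQuasicoherent := (hH.1 n.unop).1
      have := GSS45.ClosedHom.full_pushforward i
      have := QC70.faithful_pushforward i
      exact adj.isIso_unit_app_of_iso (GSS45.Descend.descIso (show GSS45.Descend.IsKilled i (H.obj n) from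
        fun U a ha s => hHk n.unop U a ha s)).symm
    exact ⟨NatIso.ofComponents (fun n => @asIso _ _ _ _ (adj.unit.app (H.obj n)) (hu n))
      (fun f => adj.unit.naturality (H.map f))⟩
  obtain ⟨e₁⟩ := hdesc G hG hk
  obtain ⟨e₂⟩ := hdesc (Formal.completion I M) (Algz14.isCohFormal_completion I M hM) fun n W a ha x => by
    obtain ⟨x, rfl⟩ := Formal27.modPowπ_app_surjective (M := M) I (n + 1) W.2 x
    refine (Scheme.Modules.Hom.app_smul (Formal.modPowπ I (n + 1) M) a x).symm.trans ?_
    rw [Algz14.killed_app i.ker (killed_pushforward i M') W ha x]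
    exact map_zero _
  obtain ⟨e₀⟩ := Algz14.completion_pullback i hi I M
  haveI : IsIso (adj.counit.app M') := isIso_counit_immersion i M'
  exact ⟨e₂ ≪≫ Functor.isoWhiskerRight (e₀.symm ≪≫ complIso (asIso (adj.counit.app M')) ≪≫ e)
    (Scheme.Modules.pushforward i) ≪≫ e₁.symm⟩

end Closed

theorem exists_algebraization_of_isEmpty_support {Z : Scheme.{u}} [Z.Over (Spec (CommRingCat.of A))] [IsEmpty Z]
    [IsAdicComplete I A] [LocallyOfFiniteType (Z ↘ Spec (CommRingCat.of A))]
    {G : ℕᵒᵖ ⥤ Z.Modules} (hG : Formal.IsCohFormal I G)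
    (hs : ClSub.IsProperOver (Z ↘ Spec (CommRingCat.of A)) (CohB1.support (G.obj (op 0)))) :
    ∃ M : Z.Modules, Coh.IsCoh M ∧ ClSub.IsProperOver (Z ↘ Spec (CommRingCat.of A)) (CohB1.support M) ∧
      Nonempty (Formal.completion I M ≅ G) := by
  obtain ⟨M, hM, e⟩ := exists_algebraization_of_isEmpty hG
  haveI := hM.2
  exact ⟨M, hM, Coh69.PO.mono hs (QC70.isClosed_support M) fun x _ => isEmptyElim x, e⟩

/-- Grothendieck existence for systems whose first term has proper support. -/
theorem exists_completion_of_proper_support [IsAdicComplete I A] (Z : Scheme.{u})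
    [Z.Over (Spec (CommRingCat.of A))] [IsSeparated (Z ↘ Spec (CommRingCat.of A))]
    [LocallyOfFiniteType (Z ↘ Spec (CommRingCat.of A))] [QuasiCompact (Z ↘ Spec (CommRingCat.of A))]
    {G : ℕᵒᵖ ⥤ Z.Modules} (hG : Formal.IsCohFormal I G)
    (hs : ClSub.IsProperOver (Z ↘ Spec (CommRingCat.of A)) (CohB1.support (G.obj (op 0)))) :
    ∃ M : Z.Modules, Coh.IsCoh M ∧ ClSub.IsProperOver (Z ↘ Spec (CommRingCat.of A)) (CohB1.support M) ∧
      Nonempty (Formal.completion I M ≅ G) := by
  classical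
  have hnoeth : ∀ (W : Scheme.{u}) [W.Over (Spec (CommRingCat.of A))]
      [LocallyOfFiniteType (W ↘ Spec (CommRingCat.of A))] [QuasiCompact (W ↘ Spec (CommRingCat.of A))],
      AlgebraicGeometry.IsNoetherian W := fun W _ _ _ => by
    haveI : IsLocallyNoetherian W := LocallyOfFiniteType.isLocallyNoetherian (W ↘ Spec (CommRingCat.of A))
    haveI : CompactSpace W := QuasiCompact.compactSpace_of_compactSpace (W ↘ Spec (CommRingCat.of A))
    exact {}
  haveI := hnoeth Z
  suffices key : ∀ (T : Closeds Z) (W : Scheme.{u}) (i : W ⟶ Z) [IsClosedImmersion i],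
      Set.range i ⊆ T → letI : W.Over (Spec (CommRingCat.of A)) := ⟨i ≫ (Z ↘ Spec (CommRingCat.of A))⟩
      ∀ G : ℕᵒᵖ ⥤ W.Modules, Formal.IsCohFormal I G →
        ClSub.IsProperOver (W ↘ Spec (CommRingCat.of A)) (CohB1.support (G.obj (op 0))) →
        ∃ M : W.Modules, Coh.IsCoh M ∧ ClSub.IsProperOver (W ↘ Spec (CommRingCat.of A)) (CohB1.support M) ∧
          Nonempty (Formal.completion I M ≅ G) by
    have h := key ⊤ Z (𝟙 Z) (fun x _ => trivial)
    rw [show (⟨𝟙 Z ≫ (Z ↘ Spec (CommRingCat.of A))⟩ : Z.Over (Spec (CommRingCat.of A))) =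
      (inferInstance : Z.Over (Spec (CommRingCat.of A))) by simp only [Category.id_comp]; rfl] at h
    exact h G hG hs
  clear hs hG G
  intro T
  induction T using WellFoundedLT.induction with
  | ind T ih =>
  intro W i _ hT
  letI : W.Over (Spec (CommRingCat.of A)) := ⟨i ≫ (Z ↘ Spec (CommRingCat.of A))⟩
  haveI : IsSeparated (W ↘ Spec (CommRingCat.of A)) := inferInstanceAs (IsSeparated (i ≫ _))
  haveI : LocallyOfFiniteType (W ↘ Spec (CommRingCat.of A)) := inferInstanceAs (LocallyOfFiniteType (i ≫ _))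
  haveI : QuasiCompact (W ↘ Spec (CommRingCat.of A)) := inferInstanceAs (QuasiCompact (i ≫ _))
  haveI := hnoeth W
  intro G hG hs
  by_cases hW : IsEmpty W
  · exact exists_algebraization_of_isEmpty_support hG hs
  obtain ⟨n, W', π, j, hj, hjb, hπp, hπs, U, hU, hπU⟩ :=
    Approx60.Chow.chow_noetherian (W ↘ Spec (CommRingCat.of A))
  letI : W'.Over (Spec (CommRingCat.of A)) := ⟨π ≫ (W ↘ Spec (CommRingCat.of A))⟩
  haveI : IsSeparated (W' ↘ Spec (CommRingCat.of A)) := inferInstanceAs (IsSeparated (π ≫ _))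
  haveI : LocallyOfFiniteType (W' ↘ Spec (CommRingCat.of A)) := inferInstanceAs (LocallyOfFiniteType (π ≫ _))
  haveI : QuasiCompact (W' ↘ Spec (CommRingCat.of A)) := inferInstanceAs (QuasiCompact (π ≫ _))
  haveI := hnoeth W'
  obtain ⟨e₀, he₀⟩ := exists_iso_projSpace A n
  let ι : W' ⟶ CohB1.ProjSpace n A := j ≫ e₀.hom
  have hι : ι ≫ CohB1.ProjSpace.toSpec n A = W' ↘ Spec (CommRingCat.of A) := by
    show (j ≫ e₀.hom) ≫ _ = _
    rw [Category.assoc, he₀]
    exact hjb
  haveI : IsImmersion ι := inferInstanceAs (IsImmersion (j ≫ e₀.hom))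
  have hs' : ClSub.IsProperOver (W' ↘ Spec (CommRingCat.of A))
      (CohB1.support ((Scheme.Modules.pullback π).obj (G.obj (op 0)))) := by
    haveI := (hG.1 0).1
    haveI := (hG.1 0).2
    rw [QCPull72.support_pullback π (G.obj (op 0))]
    exact Coh69.PO.preimage π rfl hs
  obtain ⟨F, hF, hFs, ⟨eF⟩⟩ := exists_completion_of_immersion (I := I) ι hι
    (Formal27.isCohFormal_pullback π rfl G hG fun k => ZClos93.isCoh_pullback π _ (hG.1 k)) hs'
  let C : Closeds W := ⟨(U : Set W)ᶜ, U.2.isClosed_compl⟩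
  let K := Scheme.IdealSheafData.vanishingIdeal C
  have hK : (K.support : Set W) = (U : Set W)ᶜ := Scheme.IdealSheafData.coe_support_vanishingIdeal C
  have hKU : K.support.compl = U := by
    ext x
    show x ∈ ((K.support : Set W))ᶜ ↔ x ∈ (U : Set W)
    rw [hK, compl_compl]
  obtain ⟨α, hα⟩ := exists_push_pull (f := π) rfl hG hF eF.symm K (hKU.symm ▸ hπU)
  have hH := FlatMor67.DescFree.isCoh_pushforward π hF
  have himg : ClSub.IsProperOver (W ↘ Spec (CommRingCat.of A)) (π '' CohB1.support F) :=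
    Coh69.PO.image π rfl hFs fun R r _ hp => by
      haveI : IsProper ((r ≫ π) ≫ (W ↘ Spec (CommRingCat.of A))) := by rw [Category.assoc]; exact hp
      haveI := IsProper.of_comp (r ≫ π) (W ↘ Spec (CommRingCat.of A))
      infer_instance
  have hsH : ClSub.IsProperOver (W ↘ Spec (CommRingCat.of A))
      (CohB1.support ((Scheme.Modules.pushforward π).obj F)) := by
    haveI := hH.2
    exact Coh69.PO.mono himg (QC70.isClosed_support _)
      (support_pushforward_subset π F himg.1 (Set.subset_preimage_image _ _))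
  refine Algz14.exists_algebraization_tricky_support K hG hH α
    (t := hα.choose) hs hsH (fun e G' hG' hk' hs'' => ?_)
    (fun n => (hα.choose_spec n).1) (fun n => (hα.choose_spec n).2)
  let i' := (K ^ e).subschemeι
  letI : (K ^ e).subscheme.Over (Spec (CommRingCat.of A)) := ⟨i' ≫ (W ↘ Spec (CommRingCat.of A))⟩
  haveI : LocallyOfFiniteType ((K ^ e).subscheme ↘ Spec (CommRingCat.of A)) :=
    inferInstanceAs (LocallyOfFiniteType (i' ≫ _))
  have hsub : ((K ^ e).support : Set W) ⊆ (U : Set W)ᶜ := by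
    rcases Nat.eq_zero_or_pos e with rfl | he
    · intro x hx
      exfalso
      obtain ⟨_, ⟨V, hV, rfl⟩, hxV, -⟩ := W.isBasis_affineOpens.exists_subset_of_mem_open (Set.mem_univ x) isOpen_univ
      have h : x ∈ ((K ^ 0).support : Set W) ∩ V := ⟨hx, hxV⟩
      rw [(K ^ 0).coe_support_inter ⟨V, hV⟩] at h
      refine (W.mem_zeroLocus_iff _ x).1 h.1 1 ?_ ?_
      · rw [Scheme.IdealSheafData.ideal_pow, Pi.pow_apply, pow_zero, Ideal.one_eq_top]
        trivial
      · rw [Scheme.basicOpen_of_isUnit _ isUnit_one]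
        exact hxV
    · rw [Scheme.IdealSheafData.support_pow _ _ he.ne', hK]
  let T' : Closeds Z := ⟨i '' (U : Set W)ᶜ, i.isClosedEmbedding.isClosedMap _ U.2.isClosed_compl⟩
  have hlt : T' < T := by
    obtain ⟨x₀⟩ := not_isEmpty_iff.1 hW
    obtain ⟨x, hx⟩ : (U : Set W).Nonempty := by
      haveI : Nonempty W := ⟨x₀⟩
      exact hU.nonempty
    refine lt_of_le_of_ne (fun z hz => ?_) fun h => ?_
    · obtain ⟨w, -, rfl⟩ := hz
      exact hT ⟨w, rfl⟩
    · obtain ⟨w, hw, hwx⟩ : i x ∈ (T' : Set Z) := h ▸ hT ⟨x, rfl⟩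
      exact hw (i.isClosedEmbedding.injective hwx ▸ hx)
  have hsmall : ∀ G'' : ℕᵒᵖ ⥤ (K ^ e).subscheme.Modules, Formal.IsCohFormal I G'' →
      ClSub.IsProperOver ((K ^ e).subscheme ↘ Spec (CommRingCat.of A)) (CohB1.support (G''.obj (op 0))) →
      ∃ M : (K ^ e).subscheme.Modules, Coh.IsCoh M ∧
        ClSub.IsProperOver ((K ^ e).subscheme ↘ Spec (CommRingCat.of A)) (CohB1.support M) ∧
        Nonempty (Formal.completion I M ≅ G'') := by
    have h := ih T' hlt (K ^ e).subscheme (i' ≫ i) (by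
      rintro _ ⟨w, rfl⟩
      refine ⟨i' w, hsub ?_, rfl⟩
      rw [← Scheme.IdealSheafData.range_subschemeι]
      exact ⟨w, rfl⟩)
    rw [show (⟨(i' ≫ i) ≫ (Z ↘ Spec (CommRingCat.of A))⟩ : (K ^ e).subscheme.Over (Spec (CommRingCat.of A))) =
      ⟨i' ≫ (W ↘ Spec (CommRingCat.of A))⟩ by rw [Category.assoc]; rfl] at h
    exact h
  obtain ⟨M, hM, hMk, hMs, e'⟩ := exists_algebraization_closed_support (I := I) i' rfl hG'
    (fun m => by rw [Scheme.IdealSheafData.ker_subschemeι]; exact hk' m) hs'' hsmall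
  rw [Scheme.IdealSheafData.ker_subschemeι] at hMk
  exact ⟨M, hM, hMk, hMs, e'⟩

end Groth.Agent.GE14
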