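import Groth.Agent.GE14.Chart
import Groth.Agent.GE14.ProjExist
import Groth.Agent.Algz14.Transfer
import Groth.Agent.Algz14.Existence
import Groth.Agent.ZClos93.Flat

/-!
Kernel and cokernel bounds for the comparison of a formal system on an affine base with the reductions
of a coherent module on a proper scheme, iso over a basic open.
-/

set_option autoImplicit false
set_option linter.style.haveILetI false
set_option linter.unusedSectionVars false
set_option backward.isDefEq.respectTransparency.types false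
set_option maxSynthPendingDepth 6

universe u

open CategoryTheory CategoryTheory.Limits AlgebraicGeometry Opposite TopologicalSpace

noncomputable section

namespace Groth.Agent.GE14

open Formal27 Var76.LineBundle Var76.ZeroScheme Amp73

theorem exists_completion_adjIso' {A B : Type u} [CommRing A] [CommRing B] {X' X : Scheme.{u}}
    [X'.Over (Spec (CommRingCat.of B))] [X.Over (Spec (CommRingCat.of A))] (φ : A →+* B)
    {Φ : X.Modules ⥤ X'.Modules} {Ψ : X'.Modules ⥤ X.Modules} (adj : Φ ⊣ Ψ) [Φ.PreservesZeroMorphisms]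
    [Ψ.PreservesZeroMorphisms]
    (hΦ : ∀ (M : X.Modules) (a : A), Φ.map (Formal.smulMod A M a) = Formal.smulMod B (Φ.obj M) (φ a))
    (J : Ideal A) (J' : Ideal B) (hJ : J.map φ = J') (M : X.Modules) :
    ∃ e : Formal.completion J' (Φ.obj M) ≅ Formal.completion J M ⋙ Φ,
      ∀ n, Formal.modPowπ J' (n + 1) (Φ.obj M) ≫ e.hom.app (op n) = Φ.map (Formal.modPowπ J (n + 1) M) := by
  subst hJ
  exact exists_completion_adjIso φ adj hΦ J M

section Square

variable {P Q S T : Scheme.{u}} {a : P ⟶ Q} {b : Q ⟶ T} {c : P ⟶ S} {d : S ⟶ T}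

/-- The two ways around a square. -/
def squareIso (h : a ≫ b = c ≫ d) :
    Scheme.Modules.pullback b ⋙ Scheme.Modules.pullback a ≅
      Scheme.Modules.pullback d ⋙ Scheme.Modules.pullback c :=
  Scheme.Modules.pullbackComp a b ≪≫ Scheme.Modules.pullbackCongr h ≪≫ (Scheme.Modules.pullbackComp c d).symm

theorem pullbackComp_pullS (g : P ⟶ Q) (g' : Q ⟶ T) (M : T.Modules) (U : T.Opens) (m : Γ(M, U)) :
    ((Scheme.Modules.pullbackComp g g').hom.app M).app (g ⁻¹ᵁ (g' ⁻¹ᵁ U))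
      (pullS g ((Scheme.Modules.pullback g').obj M) (g' ⁻¹ᵁ U) (pullS g' M U m)) = pullS (g ≫ g') M U m := by
  rw [← Props58.PullTensor.pullS_comp]
  exact ConcreteCategory.congr_hom (congrArg (fun g'' => Scheme.Modules.Hom.app g'' ((g ≫ g') ⁻¹ᵁ U))
    ((Scheme.Modules.pullbackComp g g').inv_hom_id_app M)) _

theorem squareIso_pullS (h : a ≫ b = c ≫ d) (M : T.Modules) (U : T.Opens) (m : Γ(M, U)) :
    ((squareIso h).hom.app M).app (a ⁻¹ᵁ (b ⁻¹ᵁ U))
        (pullS a ((Scheme.Modules.pullback b).obj M) (b ⁻¹ᵁ U) (pullS b M U m)) =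
      res ((Scheme.Modules.pullback c).obj ((Scheme.Modules.pullback d).obj M))
        (show a ⁻¹ᵁ (b ⁻¹ᵁ U) ≤ c ⁻¹ᵁ (d ⁻¹ᵁ U) from le_of_eq (congrArg (fun g : P ⟶ T => g ⁻¹ᵁ U) h))
        (pullS c ((Scheme.Modules.pullback d).obj M) (d ⁻¹ᵁ U) (pullS d M U m)) := by
  have h1 := congrArg (((Scheme.Modules.pullbackCongr h).hom.app M).app (a ⁻¹ᵁ (b ⁻¹ᵁ U)))
    (pullbackComp_pullS a b M U m)
  have h2 := congrArg (((Scheme.Modules.pullbackComp c d).inv.app M).app (a ⁻¹ᵁ (b ⁻¹ᵁ U)))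
    (h1.trans (Csa25.pullbackCongr_app_pullS h M U m))
  have h3 := (Mero90.app_res ((Scheme.Modules.pullbackComp c d).inv.app M)
    (show a ⁻¹ᵁ (b ⁻¹ᵁ U) ≤ (c ≫ d) ⁻¹ᵁ U from le_of_eq (congrArg (fun g : P ⟶ T => g ⁻¹ᵁ U) h))
    (pullS (c ≫ d) M U m)).trans
      (congrArg _ (Props58.PullTensor.pullS_comp c d M U m))
  rw [squareIso, Iso.trans_hom, Iso.trans_hom, NatTrans.comp_app, NatTrans.comp_app, Iso.symm_hom,
    Scheme.Modules.Hom.comp_app, Scheme.Modules.Hom.comp_app]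
  exact h2.trans h3

end Square

variable {R : Type u} [CommRing R] [IsNoetherianRing R] {J : Ideal R} {Z : Scheme.{u}}
  [Z.Over (Spec (CommRingCat.of R))] [IsProper (Z ↘ Spec (CommRingCat.of R))]

theorem isIso_restrict_dOpen {B : Type u} [CommRing B] [IsNoetherianRing B] (φ : R →+* B) (g : R)
    [IsIso ((Z ↘ Spec (CommRingCat.of R)) ∣_ dOpen g)] :
    letI := φ.toAlgebra
    IsIso ((FF71.bc R Z B ↘ Spec (CommRingCat.of B)) ∣_ dOpen (φ g)) := by
  letI := φ.toAlgebra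
  letI : (Spec (CommRingCat.of R)).Over (Spec (CommRingCat.of R)) := ⟨𝟙 _⟩
  letI : (Spec (CommRingCat.of B)).Over (Spec (CommRingCat.of B)) := ⟨𝟙 _⟩
  let c := Spec.map (CommRingCat.ofHom φ)
  have hc : dOpen (φ g) = c ⁻¹ᵁ dOpen g := by
    refine Eq.trans ?_ (Scheme.preimage_basicOpen c _).symm
    refine congrArg _ (app_gi c φ ?_ ⊤ g).symm
    show 𝟙 _ ≫ _ = c ≫ 𝟙 _
    rw [Category.id_comp, Category.comp_id]
  rw [hc]
  let s := Z ↘ Spec (CommRingCat.of R)
  let s' := FF71.bc R Z B ↘ Spec (CommRingCat.of B)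
  have H : IsPullback (FF71.bcπ R Z B) s' s c := IsPullback.of_hasPullback _ _
  have big := (isPullback_morphismRestrict s' (c ⁻¹ᵁ dOpen g)).flip.paste_horiz H
  have hsq : (s' ∣_ (c ⁻¹ᵁ dOpen g)) ≫ (c ∣_ dOpen g) ≫ (dOpen g).ι =
      ((s' ⁻¹ᵁ (c ⁻¹ᵁ dOpen g)).ι ≫ FF71.bcπ R Z B) ≫ s := by
    rw [morphismRestrict_ι, morphismRestrict_ι_assoc, Category.assoc, H.w]
  let k := (isPullback_morphismRestrict s (dOpen g)).lift ((s' ∣_ (c ⁻¹ᵁ dOpen g)) ≫ (c ∣_ dOpen g))
    ((s' ⁻¹ᵁ (c ⁻¹ᵁ dOpen g)).ι ≫ FF71.bcπ R Z B) (by rw [Category.assoc]; exact hsq)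
  have hk : k ≫ (s ⁻¹ᵁ dOpen g).ι = (s' ⁻¹ᵁ (c ⁻¹ᵁ dOpen g)).ι ≫ FF71.bcπ R Z B :=
    IsPullback.lift_snd _ _ _ _
  have hk' : k ≫ (s ∣_ dOpen g) = (s' ∣_ (c ⁻¹ᵁ dOpen g)) ≫ (c ∣_ dOpen g) := IsPullback.lift_fst _ _ _ _
  have small : IsPullback k (s' ∣_ (c ⁻¹ᵁ dOpen g)) (s ∣_ dOpen g) (c ∣_ dOpen g) := by
    refine IsPullback.of_right ?_ hk' (isPullback_morphismRestrict s (dOpen g)).flip
    rw [hk, morphismRestrict_ι]
    exact big
  exact MorphismProperty.of_isPullback (P := MorphismProperty.isomorphisms Scheme.{u}) small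
    (inferInstanceAs (IsIso (s ∣_ dOpen g)))

theorem comp_eq_id_of_completion {B : Type u} [CommRing B] [IsNoetherianRing B] {I : Ideal B} [IsAdicComplete I B]
    {W : Scheme.{u}} [W.Over (Spec (CommRingCat.of B))] [IsProper (W ↘ Spec (CommRingCat.of B))]
    {M N : W.Modules} (hM : Coh.IsCoh M) (ψ : Formal.completion I M ≅ Formal.completion I N)
    (φ₀ : M ⟶ N) (φ₁ : N ⟶ M)
    (h₀ : ∀ n : ℕ, Formal.modPowπ I (n + 1) M ≫ ψ.hom.app (op n) = φ₀ ≫ Formal.modPowπ I (n + 1) N)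
    (h₁ : ∀ n : ℕ, Formal.modPowπ I (n + 1) N ≫ ψ.inv.app (op n) = φ₁ ≫ Formal.modPowπ I (n + 1) M) :
    φ₀ ≫ φ₁ = 𝟙 _ := by
  refine (existsUnique_of_isProper (I := I) hM hM (𝟙 _)).unique (fun n => ?_)
    (fun n => (Category.comp_id _).trans (Category.id_comp _).symm)
  refine Eq.trans ?_ (Category.assoc _ _ _).symm
  refine Eq.trans ?_ (congrArg (φ₀ ≫ ·) (h₁ n))
  refine Eq.trans ?_ (Category.assoc _ _ _)
  refine Eq.trans ?_ (congrArg (· ≫ ψ.inv.app (op n)) (h₀ n))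
  refine Eq.trans ?_ (Category.assoc _ _ _).symm
  exact congrArg (Formal.modPowπ I (n + 1) M ≫ ·) (congr_arg (fun t => NatTrans.app t (op n)) ψ.hom_inv_id).symm

variable {F : Z.Modules} {G : ℕᵒᵖ ⥤ (Spec (CommRingCat.of R)).Modules}

/-- The comparison on global sections. -/
def vSec (β : G ⋙ Scheme.Modules.pullback (Z ↘ Spec (CommRingCat.of R)) ≅ Formal.completion J F) (n : ℕ)
    (x : Γ(G.obj (op n), (⊤ : (Spec (CommRingCat.of R)).Opens))) :
    Γ(Formal.modPow J (n + 1) F, (⊤ : Z.Opens)) :=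
  (β.hom.app (op n)).app ⊤ (pullS (Z ↘ Spec (CommRingCat.of R)) (G.obj (op n)) ⊤ x)

theorem exists_completion_model (hG : @Formal.IsCohFormal R _ (Spec (CommRingCat.of R)) ⟨𝟙 _⟩ J G)
    {B : Type u} [CommRing B] [IsNoetherianRing B] (φ : R →+* B) [IsAdicComplete (J.map φ) B] :
    letI : (Spec (CommRingCat.of B)).Over (Spec (CommRingCat.of B)) := ⟨𝟙 _⟩
    Formal.IsCohFormal (J.map φ) (G ⋙ Scheme.Modules.pullback (Spec.map (CommRingCat.ofHom φ))) ∧
      ∃ N : (Spec (CommRingCat.of B)).Modules, Coh.IsCoh N ∧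
        Nonempty (Formal.completion (J.map φ) N ≅ G ⋙ Scheme.Modules.pullback (Spec.map (CommRingCat.ofHom φ))) := by
  have h1 : @Formal.IsCohFormal B _ (Spec (CommRingCat.of B)) ⟨𝟙 _⟩ (J.map φ) (G ⋙ Scheme.Modules.pullback (Spec.map (CommRingCat.ofHom φ))) := by
    refine Algz14.isCohFormal_map φ J _ ?_
    letI : (Spec (CommRingCat.of R)).Over (Spec (CommRingCat.of R)) := ⟨𝟙 _⟩
    letI : (Spec (CommRingCat.of B)).Over (Spec (CommRingCat.of R)) := ⟨Spec.map (CommRingCat.ofHom φ)⟩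
    exact Formal27.isCohFormal_pullback (Spec.map (CommRingCat.ofHom φ)) (Category.comp_id _) G hG
      fun n => ZClos93.isCoh_pullback _ _ (hG.1 n)
  exact ⟨h1, Algz14.exists_completion_iso (J.map φ) _ h1⟩

set_option maxHeartbeats 800000 in
theorem local_bounds (hF : Coh.IsCoh F)
    (hG : @Formal.IsCohFormal R _ (Spec (CommRingCat.of R)) ⟨𝟙 _⟩ J G)
    (β : G ⋙ Scheme.Modules.pullback (Z ↘ Spec (CommRingCat.of R)) ≅ Formal.completion J F) (g : R)
    [IsIso ((Z ↘ Spec (CommRingCat.of R)) ∣_ dOpen g)] :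
    letI : (Spec (CommRingCat.of R)).Over (Spec (CommRingCat.of R)) := ⟨𝟙 _⟩
    ∃ e d : ℕ, (∀ k (y : Γ(F, (⊤ : Z.Opens))), ∃ x,
        vSec β k x = gi R Z ⊤ (g ^ e) • (Formal.modPowπ J (k + 1) F).app ⊤ y) ∧
      ∀ k x, vSec β k x = 0 → ∀ j (h : j ≤ k), j + d ≤ k →
        gi R (Spec (CommRingCat.of R)) ⊤ (g ^ e) • (sysMap G h).app ⊤ x = 0 := by
  obtain ⟨B, _, _, φ, hcomp, hθ⟩ := exists_completion_ring R J
  letI := φ.toAlgebra
  letI : (Spec (CommRingCat.of R)).Over (Spec (CommRingCat.of R)) := ⟨𝟙 _⟩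
  letI : (Spec (CommRingCat.of B)).Over (Spec (CommRingCat.of B)) := ⟨𝟙 _⟩
  obtain ⟨hG', N, hN, ⟨eN⟩⟩ := exists_completion_model hG φ
  let c := Spec.map (CommRingCat.ofHom φ)
  let Z' := FF71.bc R Z B
  let q : Z' ⟶ Z := FF71.bcπ R Z B
  let s' := Z' ↘ Spec (CommRingCat.of B)
  let s := Z ↘ Spec (CommRingCat.of R)
  have hsq : s' ≫ c = q ≫ s := pullback.condition.symm
  haveI := isIso_restrict_dOpen (Z := Z) φ g
  haveI := hF.1; haveI := hN.1; haveI := hN.2
  haveI : IsLocallyNoetherian Z := LocallyOfFiniteType.isLocallyNoetherian s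
  haveI : IsLocallyNoetherian Z' := LocallyOfFiniteType.isLocallyNoetherian s'
  have hqF : Coh.IsCoh ((Scheme.Modules.pullback q).obj F) := ZClos93.isCoh_pullback q F hF
  have hsN : Coh.IsCoh ((Scheme.Modules.pullback s').obj N) := ZClos93.isCoh_pullback s' N hN
  obtain ⟨e1, he1⟩ := exists_completion_adjIso' (RingHom.id B)
    (Scheme.Modules.pullbackPushforwardAdjunction s')
    (pullback_map_smulMod' s' (RingHom.id B) (by
      show s' ≫ Spec.map (𝟙 (CommRingCat.of B)) = s' ≫ 𝟙 _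
      rw [Spec.map_id]))
    (J.map φ) (J.map φ) (Ideal.map_id _) N
  obtain ⟨e2, he2⟩ := exists_completion_adjIso' φ (Scheme.Modules.pullbackPushforwardAdjunction q)
    (pullback_map_smulMod' q φ hsq) J (J.map φ) rfl F
  let ψ : Formal.completion (J.map φ) ((Scheme.Modules.pullback s').obj N) ≅
      Formal.completion (J.map φ) ((Scheme.Modules.pullback q).obj F) :=
    e1 ≪≫ Functor.isoWhiskerRight eN (Scheme.Modules.pullback s') ≪≫
      Functor.isoWhiskerLeft G (squareIso hsq) ≪≫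
      Functor.isoWhiskerRight β (Scheme.Modules.pullback q) ≪≫ e2.symm
  obtain ⟨φ₀, hφ₀, -⟩ := existsUnique_of_isProper (I := J.map φ) hsN hqF ψ.hom
  obtain ⟨φ₁, hφ₁, -⟩ := existsUnique_of_isProper (I := J.map φ) hqF hsN ψ.inv
  have h01 : φ₀ ≫ φ₁ = 𝟙 _ := comp_eq_id_of_completion hsN ψ φ₀ φ₁ hφ₀ hφ₁
  -- the map `u : Γ(N) → Γ(q^*F)`
  let u : Γ(N, (⊤ : (Spec (CommRingCat.of B)).Opens)) →+ Γ((Scheme.Modules.pullback q).obj F, (⊤ : Z'.Opens)) :=
    { toFun := fun m => φ₀.app ⊤ (pullS s' N ⊤ m)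
      map_zero' := (congrArg _ (map_zero (((Scheme.Modules.pullbackPushforwardAdjunction s').unit.app N).app ⊤).hom)).trans
        (map_zero _)
      map_add' := fun a b => (congrArg _ (map_add (((Scheme.Modules.pullbackPushforwardAdjunction s').unit.app N).app ⊤).hom a b)).trans
        (map_add _ _ _) }
  have hu : ∀ (b : B) m, u (gi B (Spec (CommRingCat.of B)) ⊤ b • m) = gi B Z' ⊤ b • u m := fun b m => by
    show φ₀.app ⊤ (pullS s' N ⊤ (gi B (Spec (CommRingCat.of B)) ⊤ b • m)) = gi B Z' ⊤ b • φ₀.app ⊤ (pullS s' N ⊤ m)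
    rw [pullS_smul]
    refine (Scheme.Modules.Hom.app_smul φ₀ _ _).trans ?_
    exact congrArg (· • _) (app_gi_self (Z := Z') ⊤ b)
  have hinj : ∀ m, u m = 0 → pullS s' N ⊤ m = 0 := fun m hm => by
    have := congrArg (φ₁.app (⊤ : Z'.Opens)) hm
    refine Eq.trans ?_ (this.trans (map_zero _))
    exact (ConcreteCategory.congr_hom (congrArg (fun f => Scheme.Modules.Hom.app f (⊤ : Z'.Opens)) h01) _).symm
  have hkill : ∀ k, Formal.KilledBy (J ^ (k + 1)) (G.obj (op k)) := hG.2.1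
  have key : ∀ k m x, (eN.hom.app (op k)).app ⊤ ((Formal.modPowπ (J.map φ) (k + 1) N).app ⊤ m) =
      pullS c (G.obj (op k)) ⊤ x →
      (Formal.modPowπ (J.map φ) (k + 1) ((Scheme.Modules.pullback q).obj F) ≫ e2.hom.app (op k)).app ⊤ (u m) =
        pullS q (Formal.modPow J (k + 1) F) ⊤ (vSec β k x) := fun k m x hmx => by
    have hnat : φ₀ ≫ (Formal.modPowπ (J.map φ) (k + 1) ((Scheme.Modules.pullback q).obj F) ≫ e2.hom.app (op k)) =
        (Scheme.Modules.pullback s').map (Formal.modPowπ (J.map φ) (k + 1) N ≫ eN.hom.app (op k)) ≫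
          (squareIso hsq).hom.app (G.obj (op k)) ≫ (Scheme.Modules.pullback q).map (β.hom.app (op k)) := by
      have hψ : ψ.hom.app (op k) ≫ e2.hom.app (op k) = e1.hom.app (op k) ≫
          (Scheme.Modules.pullback s').map (eN.hom.app (op k)) ≫
            (squareIso hsq).hom.app (G.obj (op k)) ≫ (Scheme.Modules.pullback q).map (β.hom.app (op k)) := by
        simp only [ψ, Iso.trans_hom, Iso.symm_hom, NatTrans.comp_app, Functor.isoWhiskerRight_hom,
          Functor.isoWhiskerLeft_hom, Functor.whiskerRight_app, Functor.whiskerLeft_app, Category.assoc,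
          Iso.inv_hom_id_app]
        simp only [Functor.comp_obj, Category.comp_id]
      refine (Category.assoc _ _ _).symm.trans ((congrArg (· ≫ e2.hom.app (op k)) (hφ₀ k).symm).trans ?_)
      refine (Category.assoc _ _ _).trans ((congrArg _ hψ).trans ?_)
      refine (Category.assoc _ _ _).symm.trans ((congrArg (· ≫ _) (he1 k)).trans ?_)
      refine (Category.assoc _ _ _).symm.trans (congrArg (· ≫ _) ?_)
      exact ((Scheme.Modules.pullback s').map_comp _ _).symm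
    refine (ConcreteCategory.congr_hom (congrArg (fun f => Scheme.Modules.Hom.app f (⊤ : Z'.Opens)) hnat)
      (pullS s' N ⊤ m)).trans ?_
    refine (congrArg (fun z => (((squareIso hsq).hom.app (G.obj (op k)) ≫
      (Scheme.Modules.pullback q).map (β.hom.app (op k))).app (⊤ : Z'.Opens)) z)
      ((map_app_pullS s' (Formal.modPowπ (J.map φ) (k + 1) N ≫ eN.hom.app (op k)) ⊤ m).trans
        (congrArg (pullS s' _ ⊤) hmx))).trans ?_
    refine (congrArg (fun z => ((Scheme.Modules.pullback q).map (β.hom.app (op k))).app (⊤ : Z'.Opens) z)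
      (squareIso_pullS hsq (G.obj (op k)) ⊤ x)).trans ?_
    refine (congrArg (fun z => ((Scheme.Modules.pullback q).map (β.hom.app (op k))).app (⊤ : Z'.Opens) z)
      (res_self _ _)).trans ?_
    exact map_app_pullS q (β.hom.app (op k)) ⊤ _
  -- uniform exponent for the cokernel of `u`
  obtain ⟨r, ge, hge⟩ := exists_gen_sections (B := B) (Z := Z') (M := (Scheme.Modules.pullback q).obj F) hqF
  have hgen : ∀ i : Fin r, ∃ k m, gi B Z' ⊤ (φ g ^ k) • ge i = u m := fun i => by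
    obtain ⟨k, m, hm⟩ := exists_pow_coker_pullS (Z := Z') (N := N) (φ g) (φ₁.app ⊤ (ge i))
    refine ⟨k, m, ?_⟩
    show _ = φ₀.app ⊤ (pullS s' N ⊤ m)
    rw [← hm, Scheme.Modules.Hom.app_smul]
    refine congrArg (gi B Z' ⊤ (φ g ^ k) • ·) ?_
    have h10 : φ₁ ≫ φ₀ = 𝟙 _ := comp_eq_id_of_completion hqF ψ.symm φ₁ φ₀ hφ₁ hφ₀
    exact (ConcreteCategory.congr_hom (congrArg (fun f => Scheme.Modules.Hom.app f (⊤ : Z'.Opens)) h10) _).symm
  choose ki mi hki using hgen
  let N₁ := Finset.univ.sup ki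
  have hcoker : ∀ z, ∃ m, gi B Z' ⊤ (φ g ^ N₁) • z = u m := fun z => by
    obtain ⟨b, rfl⟩ := hge z
    choose li hli using fun i : Fin r => Nat.exists_eq_add_of_le (Finset.le_sup (f := ki) (Finset.mem_univ i))
    refine ⟨∑ i, gi B (Spec (CommRingCat.of B)) ⊤ (b i * φ g ^ li i) • mi i, ?_⟩
    rw [map_sum, Finset.smul_sum]
    refine Finset.sum_congr rfl fun i _ => ?_
    rw [hu, ← hki, ← mul_smul, ← mul_smul, ← map_mul, ← map_mul]
    refine congrArg (fun b => gi B Z' ⊤ b • ge i) ?_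
    show φ g ^ N₁ * b i = b i * φ g ^ li i * φ g ^ ki i
    rw [show N₁ = ki i + li i from hli i, pow_add]
    ring
  -- uniform exponent for the kernel of `u`
  haveI : IsNoetherianRing Γ(Spec (CommRingCat.of B), (⊤ : (Spec (CommRingCat.of B)).Opens)) :=
    IsLocallyNoetherian.component_noetherian ⟨⊤, isAffineOpen_top _⟩
  haveI := QC70.finite_sections_of_isFiniteType N (isAffineOpen_top (Spec (CommRingCat.of B)))
  let ul : Γ(N, (⊤ : (Spec (CommRingCat.of B)).Opens)) →+ Γ((Scheme.Modules.pullback s').obj N, s' ⁻¹ᵁ ⊤) :=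
    (((Scheme.Modules.pullbackPushforwardAdjunction s').unit.app N).app ⊤).hom
  let K : Submodule Γ(Spec (CommRingCat.of B), (⊤ : (Spec (CommRingCat.of B)).Opens))
      Γ(N, (⊤ : (Spec (CommRingCat.of B)).Opens)) :=
    { carrier := {m | ul m = 0}
      zero_mem' := map_zero ul
      add_mem' := fun {a b} ha hb => (map_add ul a b).trans ((congrArg₂ (· + ·) ha hb).trans (add_zero _))
      smul_mem' := fun b m hm => (pullS_smul s' N ⊤ b m).trans ((congrArg _ hm).trans (smul_zero _)) }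
  obtain ⟨kr, kgen, hkgen⟩ := (Submodule.fg_iff_exists_fin_generating_family (R := _) (N := K)).1 (IsNoetherian.noetherian K)
  choose ke hke using fun i : Fin kr => exists_pow_ker_pullS (Z := Z') (N := N) (φ g) (kgen i)
    (show kgen i ∈ K by rw [← hkgen]; exact Submodule.subset_span ⟨i, rfl⟩)
  let N₂ := Finset.univ.sup ke
  have hker : ∀ m, u m = 0 → gi B (Spec (CommRingCat.of B)) ⊤ (φ g ^ N₂) • m = 0 := fun m hm => by
    have hmK : m ∈ Submodule.span Γ(Spec (CommRingCat.of B), (⊤ : (Spec (CommRingCat.of B)).Opens)) (Set.range kgen) := by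
      rw [hkgen]; exact hinj m hm
    clear hm
    induction hmK using Submodule.span_induction with
    | mem x hx =>
      obtain ⟨i, rfl⟩ := hx
      obtain ⟨l, hl⟩ := Nat.exists_eq_add_of_le' (Finset.le_sup (f := ke) (Finset.mem_univ i))
      rw [show N₂ = l + ke i from hl, pow_add, map_mul, mul_smul, hke i, smul_zero]
    | zero => exact smul_zero _
    | add x y _ _ hx hy => rw [smul_add, hx, hy, add_zero]
    | smul c x _ hx => rw [smul_comm, hx, smul_zero]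
  obtain ⟨d, hd⟩ := exists_sect_ker_bound (Z := Z') (J.map φ) hqF
  refine ⟨N₁ + N₂, d, fun k y => ?_, fun k x hx j h hjk => ?_⟩
  · haveI := (hG.1 k).1
    obtain ⟨m, hm⟩ := hcoker (pullS q F ⊤ y)
    obtain ⟨θ, hθ1, hθ2⟩ := hθ (k + 1)
    obtain ⟨x, hx⟩ := pullS_specMap_surjective φ θ hθ1 hθ2 (G.obj (op k))
      (by rw [Ideal.map_pow]; exact hG'.2.1 k)
      ((eN.hom.app (op k)).app ⊤ ((Formal.modPowπ (J.map φ) (k + 1) N).app ⊤ m))
    refine ⟨gi R (Spec (CommRingCat.of R)) ⊤ (g ^ N₂) • x, ?_⟩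
    haveI : (Formal.modPow J (k + 1) F).IsQuasicoherent := isQuasicoherent_modPow F J (k + 1)
    have h1 : vSec β k x = gi R Z ⊤ (g ^ N₁) • (Formal.modPowπ J (k + 1) F).app ⊤ y := by
      refine pullS_bc_injective φ θ hθ1 (Formal.modPow J (k + 1) F) (fun a ha => (Algz14.isCohFormal_completion J F hF).2.1 k a ha) ?_
      refine (key k m x hx.symm).symm.trans ?_
      rw [he2 k, ← hm, Scheme.Modules.Hom.app_smul]
      refine (congrArg (fun z : Γ((Scheme.Modules.pullback q).obj (Formal.modPow J (k + 1) F), (⊤ : Z'.Opens)) =>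
        gi B Z' ⊤ (φ g ^ N₁) • z) (map_app_pullS q (Formal.modPowπ J (k + 1) F) ⊤ y)).trans ?_
      refine Eq.trans ?_ (pullS_smul q _ ⊤ _ _).symm
      have e0 : gi B Z' ⊤ (φ g ^ N₁) = q.app ⊤ (gi R Z ⊤ (g ^ N₁)) :=
        ((congrArg (gi B Z' ⊤) (map_pow φ g N₁).symm)).trans (app_gi q φ hsq ⊤ _).symm
      exact congrArg (fun r : Γ(Z', (⊤ : Z'.Opens)) => r • (show Γ((Scheme.Modules.pullback q).obj
        (Formal.modPow J (k + 1) F), (⊤ : Z'.Opens)) from pullS q _ ⊤ _)) e0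
    show (β.hom.app (op k)).app ⊤ (pullS s (G.obj (op k)) ⊤ (gi R (Spec (CommRingCat.of R)) ⊤ (g ^ N₂) • x)) = _
    rw [pullS_smul]
    refine (Scheme.Modules.Hom.app_smul _ _ _).trans ?_
    let w : Γ(Formal.modPow J (k + 1) F, (⊤ : Z.Opens)) := (Formal.modPowπ J (k + 1) F).app ⊤ y
    have e1 : s.app ⊤ (gi R (Spec (CommRingCat.of R)) ⊤ (g ^ N₂)) = gi R Z ⊤ (g ^ N₂) := app_gi_self (Z := Z) ⊤ (g ^ N₂)
    refine (congrArg₂ (fun (a : Γ(Z, (⊤ : Z.Opens))) (b : Γ(Formal.modPow J (k + 1) F, (⊤ : Z.Opens))) => a • b) e1 h1).trans ?_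
    show gi R Z ⊤ (g ^ N₂) • gi R Z ⊤ (g ^ N₁) • w = gi R Z ⊤ (g ^ (N₁ + N₂)) • w
    rw [← mul_smul, ← map_mul, ← pow_add, Nat.add_comm N₂ N₁]
  · haveI := (hG.1 k).1
    haveI := (hG'.1 k).1
    have hsurj : Function.Surjective (((Formal.modPowπ (J.map φ) (k + 1) N) ≫ eN.hom.app (op k)).app ⊤) := by
      haveI : Epi (Formal.modPowπ (J.map φ) (k + 1) N) := inferInstanceAs (Epi (cokernel.π _))
      haveI : Epi (Formal.modPowπ (J.map φ) (k + 1) N ≫ eN.hom.app (op k)) :=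
        @epi_comp _ _ _ _ _ (Formal.modPowπ (J.map φ) (k + 1) N) inferInstance (eN.hom.app (op k))
          (inferInstanceAs (Epi (eN.app (op k)).hom))
      exact Algz14.app_surjective_of_epi _ (isAffineOpen_top _)
    obtain ⟨m, hm⟩ := hsurj (pullS c (G.obj (op k)) ⊤ x)
    have h1 : (Formal.modPowπ (J.map φ) (k + 1) ((Scheme.Modules.pullback q).obj F)).app ⊤ (u m) = 0 := by
      have h2 := (key k m x hm).trans ((congrArg (pullS q _ ⊤) hx).trans (map_zero
        (((Scheme.Modules.pullbackPushforwardAdjunction q).unit.app _).app ⊤).hom))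
      have h3 := congrArg ((e2.inv.app (op k)).app (⊤ : Z'.Opens)) h2
      refine Eq.trans ?_ (h3.trans (map_zero _))
      exact (ConcreteCategory.congr_hom (congrArg (fun f => Scheme.Modules.Hom.app f (⊤ : Z'.Opens))
        (e2.hom_inv_id_app (op k))) _).symm
    have h4 : ∃ m' ∈ IM N ((J.map φ) ^ (k + 1 - d)) ⊤, gi B Z' ⊤ (φ g ^ N₁) • u m = u m' := by
      refine IM_induction (p := fun z => ∃ m' ∈ IM N ((J.map φ) ^ (k + 1 - d)) ⊤,
        gi B Z' ⊤ (φ g ^ N₁) • z = u m') (hd k _ h1) (fun a ha z => ?_) ⟨0, zero_mem _, by rw [smul_zero, map_zero]⟩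
        (fun z z' ⟨a, ha, ha'⟩ ⟨b, hb, hb'⟩ => ⟨a + b, add_mem ha hb, by rw [smul_add, map_add, ha', hb']⟩)
      obtain ⟨w, hw⟩ := hcoker z
      exact ⟨gi B (Spec (CommRingCat.of B)) ⊤ a • w, smul_mem_IM ha _, by rw [smul_comm, hw, hu]⟩
    obtain ⟨m', hm', hm''⟩ := h4
    have h5 := hker (gi B (Spec (CommRingCat.of B)) ⊤ (φ g ^ N₁) • m - m') (by rw [map_sub, hu, hm'', sub_self])
    rw [smul_sub, sub_eq_zero, ← mul_smul, ← map_mul, ← pow_add, add_comm] at h5
    let T := (Formal.modPowπ (J.map φ) (j + 1) N ≫ eN.hom.app (op j))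
    have hT0 : T.app ⊤ (gi B (Spec (CommRingCat.of B)) ⊤ (φ g ^ N₂) • m') = 0 := by
      rw [Scheme.Modules.Hom.app_smul]
      refine (congrArg (gi B (Spec (CommRingCat.of B)) ⊤ (φ g ^ N₂) • ·) ?_).trans (smul_zero _)
      refine IM_induction (p := fun z => T.app ⊤ z = 0) hm' (fun a ha z => ?_) (map_zero _)
        (fun z z' hz hz' => by rw [map_add, hz, hz', add_zero])
      rw [Scheme.Modules.Hom.app_smul]
      exact congrArg (fun ψ => (Scheme.Modules.Hom.app ψ ⊤) (T.app ⊤ z))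
        (hG'.2.1 j a (Ideal.pow_le_pow_right (by omega) ha))
    have hTm : T.app ⊤ m = pullS c (G.obj (op j)) ⊤ ((sysMap G h).app ⊤ x) := by
      have hn : T = (Formal.modPowπ (J.map φ) (k + 1) N ≫ eN.hom.app (op k)) ≫
          (Scheme.Modules.pullback c).map (sysMap G h) := by
        rw [Category.assoc]
        refine Eq.trans ?_ (congrArg (Formal.modPowπ (J.map φ) (k + 1) N ≫ ·) (eN.hom.naturality (homOfLE h).op))
        refine Eq.trans ?_ (Category.assoc _ _ _)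
        exact congrArg (· ≫ eN.hom.app (op j)) (Algz14.completion_map_π N h).symm
      rw [hn]
      exact (congrArg (((Scheme.Modules.pullback c).map (sysMap G h)).app ⊤) hm).trans
        (map_app_pullS c (sysMap G h) ⊤ x)
    obtain ⟨θ, hθ1, hθ2⟩ := hθ (j + 1)
    haveI := (hG.1 j).1
    refine pullS_specMap_injective φ θ hθ1 _ (hkill j) ?_
    refine Eq.trans ?_ (map_zero (((Scheme.Modules.pullbackPushforwardAdjunction c).unit.app _).app ⊤).hom).symm
    rw [pullS_smul]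
    have e1 : c.app ⊤ (gi R (Spec (CommRingCat.of R)) ⊤ (g ^ (N₁ + N₂))) =
        gi B (Spec (CommRingCat.of B)) ⊤ (φ (g ^ (N₁ + N₂))) := app_gi c φ (show 𝟙 _ ≫ _ = c ≫ 𝟙 _ by
      rw [Category.id_comp, Category.comp_id]) ⊤ (g ^ (N₁ + N₂))
    refine (congrArg₂ (fun (a : Γ(Spec (CommRingCat.of B), (⊤ : (Spec (CommRingCat.of B)).Opens)))
      (b : Γ((Scheme.Modules.pullback c).obj (G.obj (op j)), (⊤ : (Spec (CommRingCat.of B)).Opens))) => a • b) e1 hTm.symm).trans ?_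
    refine (Scheme.Modules.Hom.app_smul T _ _).symm.trans ?_
    rw [map_pow, h5]
    exact hT0

end Groth.Agent.GE14
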