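import Groth.Agent.GE14.GradedNoeth
import Groth.Agent.Algz14.SectTower
import Groth.Agent.Serre71.Complex
import Groth.Agent.ValVan29.Vanish

/-!
Uniform Serre vanishing for graded families of coherent modules with commuting operators of degree one.
-/

set_option autoImplicit false
set_option linter.style.haveILetI false
set_option linter.unusedSectionVars false

universe u

open CategoryTheory CategoryTheory.Limits AlgebraicGeometry Opposite

noncomputable section

namespace Groth.Agent.GE14

open Formal27 Algz14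

variable {X : Scheme.{u}}

/-- A finitely generated graded family of coherent modules with `r` operators of degree one. -/
structure GFam (X : Scheme.{u}) (r : ℕ) where
  K : ℕ → X.Modules
  t : Fin r → ∀ n, K n ⟶ K (n + 1)
  comm : ∀ i j n, t i n ≫ t j (n + 1) = t j n ≫ t i (n + 1)
  coh : ∀ n, Coh.IsCoh (K n)
  gen : ∃ n₀, ∀ n, n₀ ≤ n → ∀ (Z : X.Modules) (φ : K (n + 1) ⟶ Z), (∀ j, t j n ≫ φ = 0) → φ = 0

namespace GFam

variable {r : ℕ} (F : GFam X r)

theorem exists_gen_sections : ∃ n₀, ∀ n, n₀ ≤ n → ∀ V : X.affineOpens,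
    (⊤ : Submodule Γ(X, V.1) Γ(F.K (n + 1), V.1)) = ⨆ j, LinearMap.range (QC70.appLinear (F.t j n) V.1) := by
  classical
  obtain ⟨n₀, h⟩ := F.gen
  refine ⟨n₀, fun n hn V => (eq_top_iff.2 fun x _ => ?_).symm⟩
  let d := biproduct.desc fun j : Fin r => F.t j n
  haveI : Epi d := Preadditive.epi_of_cancel_zero d fun {Z} φ hφ => h n hn Z φ fun j => by
    rw [← biproduct.ι_desc (fun j : Fin r => F.t j n) j, Category.assoc]
    exact (congrArg (biproduct.ι (fun _ : Fin r => F.K n) j ≫ ·) hφ).trans comp_zero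
  haveI : (⨁ fun _ : Fin r => F.K n).IsQuasicoherent :=
    (QC70.isCoh_biproduct (fun _ : Fin r => F.K n) fun _ => F.coh n).1
  haveI := (F.coh (n + 1)).1
  obtain ⟨z, rfl⟩ := app_surjective_of_epi d V.2 x
  have hz : z = ∑ j, (biproduct.ι (fun _ : Fin r => F.K n) j).app V.1
      ((biproduct.π (fun _ : Fin r => F.K n) j).app V.1 z) := by
    have h1 := Serre71.app_finset_sum Finset.univ
      (fun j => biproduct.π (fun _ : Fin r => F.K n) j ≫ biproduct.ι (fun _ : Fin r => F.K n) j) V.1 z
    rw [biproduct.total] at h1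
    exact h1
  rw [hz, map_sum]
  refine Submodule.sum_mem _ fun j _ => Submodule.mem_iSup_of_mem j
    ⟨(biproduct.π (fun _ : Fin r => F.K n) j).app V.1 z, ?_⟩
  exact (congrArg (fun g => (Scheme.Modules.Hom.app g V.1) ((biproduct.π (fun _ : Fin r => F.K n) j).app V.1 z))
    (biproduct.ι_desc (fun j : Fin r => F.t j n) j)).symm

end GFam

namespace GFam

variable {r : ℕ} (F : GFam X (r + 1))

/-- The last operator. -/
abbrev last (n : ℕ) : F.K n ⟶ F.K (n + 1) := F.t (Fin.last r) n

/-- The cokernels of the last operator. -/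
def coker [IsLocallyNoetherian X] : GFam X r where
  K n := cokernel (F.last n)
  t j n := cokernel.map (F.last n) (F.last (n + 1)) (F.t j.castSucc n) (F.t j.castSucc (n + 1)) (F.comm _ _ n)
  comm i j n := by
    rw [← cancel_epi (cokernel.π (F.last n))]
    simp only [cokernel.π_desc_assoc, Category.assoc, cokernel.π_desc]
    rw [← Category.assoc, F.comm, Category.assoc]
  coh n := QC70.isCoh_cokernel _ (F.coh n).1 (F.coh (n + 1))
  gen := by
    obtain ⟨n₀, h⟩ := F.gen
    refine ⟨n₀, fun n hn Z φ hφ => ?_⟩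
    refine (cancel_epi (cokernel.π (F.last (n + 1)))).1 (Eq.trans ?_ comp_zero.symm)
    refine h (n + 1) (by omega) Z _ fun j => ?_
    refine Fin.lastCases ?_ (fun i => ?_) j
    · rw [← Category.assoc, cokernel.condition, zero_comp]
    · have h1 := congrArg (cokernel.π (F.last n) ≫ ·) (hφ i)
      simp only [cokernel.π_desc_assoc, Category.assoc, comp_zero] at h1
      exact h1

/-- The kernels of the last operator. -/
def ker [AlgebraicGeometry.IsNoetherian X] : GFam X r where
  K n := kernel (F.last n)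
  t j n := kernel.map (F.last n) (F.last (n + 1)) (F.t j.castSucc n) (F.t j.castSucc (n + 1)) (F.comm _ _ n)
  comm i j n := by
    rw [← cancel_mono (kernel.ι (F.last (n + 1 + 1)))]
    simp only [Category.assoc, kernel.lift_ι, kernel.lift_ι_assoc]
    rw [F.comm]
  coh n := QC70.isCoh_kernel _ (F.coh n) (F.coh (n + 1)).1
  gen := by
    classical
    obtain ⟨n₀, hn₀⟩ := F.exists_gen_sections
    have key : ∀ W : X.affineOpens, ∃ n₁, ∀ n, n₁ ≤ n →
        LinearMap.ker (QC70.appLinear (F.last (n + 1)) W.1) ≤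
          ⨆ j : Fin (r + 1), (LinearMap.ker (QC70.appLinear (F.last n) W.1)).map (QC70.appLinear (F.t j n) W.1) := by
      intro W
      haveI := IsLocallyNoetherian.component_noetherian W
      haveI : ∀ n, (F.K n).IsQuasicoherent := fun n => (F.coh n).1
      haveI : ∀ n, (F.K n).IsFiniteType := fun n => (F.coh n).2
      haveI : ∀ n, Module.Finite Γ(X, W.1) Γ(F.K n, W.1) := fun n => QC70.finite_sections_of_isFiniteType _ W.2
      refine exists_graded_gen (fun n => Γ(F.K n, W.1)) (fun j n => QC70.appLinear (F.t j n) W.1)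
        (fun i j n x => ?_) n₀ (fun n hn => hn₀ n hn W) (fun n => LinearMap.ker (QC70.appLinear (F.last n) W.1))
        fun j n x hx => ?_
      · exact congrArg (fun g => (Scheme.Modules.Hom.app g W.1) x) (F.comm j i n)
      · rw [LinearMap.mem_ker] at hx ⊢
        refine (congrArg (fun g => (Scheme.Modules.Hom.app g W.1) x) (F.comm j (Fin.last r) n)).trans ?_
        exact (congrArg ((F.t j (n + 1)).app W.1) hx).trans (map_zero _)
    obtain ⟨S, hS⟩ := exists_cover (X := X)
    choose n₁ hn₁ using key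
    refine ⟨S.sup n₁, fun n hn Z φ hφ => ?_⟩
    haveI : (F.K (n + 1)).IsQuasicoherent := (F.coh (n + 1)).1
    haveI : (F.K (n + 1 + 1)).IsQuasicoherent := (F.coh (n + 1 + 1)).1
    haveI : (kernel (F.last (n + 1))).IsQuasicoherent := QC70.isQuasicoherent_kernel _
    refine eq_zero_of_cover φ (S : Set X.affineOpens) hS fun W hW x => ?_
    let ι := QC70.appLinear (kernel.ι (F.last (n + 1))) W.1
    have hx : ι x ∈ LinearMap.ker (QC70.appLinear (F.last (n + 1)) W.1) :=
      QC70.app_f_g (ShortComplex.mk _ _ (kernel.condition (F.last (n + 1)))) W.1 x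
    have h1 := hn₁ W n ((Finset.le_sup hW).trans hn) hx
    have h2 : ι x ∈ (LinearMap.ker (QC70.appLinear φ W.1)).map ι := by
      refine SetLike.le_def.1 (iSup_le fun j => ?_) h1
      rintro _ ⟨y, hy, rfl⟩
      refine Fin.lastCases ?_ (fun i => ?_) j
      · refine ⟨0, zero_mem _, ?_⟩
        rw [map_zero]
        exact (LinearMap.mem_ker.1 hy).symm
      · obtain ⟨z, rfl⟩ := QC70.exists_kernel_app_eq (F.last n) W.1 y hy
        refine ⟨(kernel.map (F.last n) (F.last (n + 1)) (F.t i.castSucc n) (F.t i.castSucc (n + 1))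
          (F.comm _ _ n)).app W.1 z, congrArg (fun g => (Scheme.Modules.Hom.app g W.1) z) (hφ i), ?_⟩
        exact congrArg (fun g => (Scheme.Modules.Hom.app g W.1) z) (kernel.lift_ι _ _ _)
    obtain ⟨x', hx', e⟩ := h2
    rw [← QC70.app_injective_of_mono (kernel.ι (F.last (n + 1))) W.1 e]
    exact hx'

end GFam

variable [AlgebraicGeometry.IsNoetherian X] (T : ℕ → X.Modules ⥤ X.Modules) [∀ d, (T d).Additive]
  (hT : ∀ d (S : ShortComplex X.Modules), S.ShortExact → (S.map (T d)).ShortExact)
  (hV : ∀ M : X.Modules, Coh.IsCoh M → ∃ d₀ : ℕ, ∀ d, d₀ ≤ d → ∀ q : ℕ, 1 ≤ q →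
    Subsingleton (Coh.HH X ((T d).obj M) q))

include hT hV

/-- Uniform Serre vanishing. -/
theorem exists_uniform_vanishing : ∀ (r : ℕ) (F : GFam X r), ∃ d₀ : ℕ, ∀ d, d₀ ≤ d → ∀ n q : ℕ, 1 ≤ q →
    Subsingleton (Coh.HH X ((T d).obj (F.K n)) q) := by
  intro r
  induction r with
  | zero =>
    intro F
    obtain ⟨n₀, hgen⟩ := F.gen
    choose d₀ hd₀ using fun n => hV (F.K n) (F.coh n)
    refine ⟨(Finset.range (n₀ + 1)).sup d₀, fun d hd n q hq => ?_⟩
    by_cases hn : n ≤ n₀
    · exact hd₀ n d ((Finset.le_sup (Finset.mem_range.2 (by omega))).trans hd) q hq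
    · obtain ⟨m, rfl⟩ : ∃ m, n = m + 1 := ⟨n - 1, by omega⟩
      refine ValVan29.subsingleton_hh_of_isZero (Functor.map_isZero (T d) ?_) q
      rw [IsZero.iff_id_eq_zero]
      exact hgen m (by omega) _ _ fun j => j.elim0
  | succ r ih =>
    intro F
    obtain ⟨dK, hdK⟩ := ih F.ker
    obtain ⟨dQ, hdQ⟩ := ih F.coker
    obtain ⟨d₁, hd₁⟩ := hV (F.K 0) (F.coh 0)
    refine ⟨max (max dK dQ) d₁, fun d hd n => ?_⟩
    simp only [max_le_iff] at hd
    induction n with
    | zero => exact fun q hq => hd₁ d hd.2 q hq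
    | succ n ihn =>
      intro q hq
      let e := Abelian.factorThruImage (F.last n)
      let i := Abelian.image.ι (F.last n)
      have hei : e ≫ i = F.last n := Abelian.image.fac _
      have he : kernel.ι (F.last n) ≫ e = 0 := by
        rw [← cancel_mono i, Category.assoc, hei, kernel.condition, zero_comp]
      let S₁ := ShortComplex.mk (kernel.ι (F.last n)) e he
      have h₁ : S₁.ShortExact :=
        { exact := by
            have hex : (ShortComplex.mk (kernel.ι (F.last n)) (F.last n) (kernel.condition _)).Exact :=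
              ShortComplex.exact_of_f_is_kernel _ (kernelIsKernel _)
            let φ : S₁ ⟶ ShortComplex.mk (kernel.ι (F.last n)) (F.last n) (kernel.condition _) :=
              { τ₁ := 𝟙 _, τ₂ := 𝟙 _, τ₃ := i, comm₂₃ := by simpa [S₁] using hei.symm }
            haveI : Mono φ.τ₃ := inferInstanceAs (Mono (Abelian.image.ι _))
            exact (ShortComplex.exact_iff_of_epi_of_isIso_of_mono φ).2 hex
          mono_f := inferInstanceAs (Mono (kernel.ι _))
          epi_g := inferInstanceAs (Epi (Abelian.factorThruImage _)) }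
      let S₂ := ShortComplex.mk i (cokernel.π (F.last n)) (kernel.condition _)
      have h₂ : S₂.ShortExact :=
        { exact := ShortComplex.exact_of_f_is_kernel _ (kernelIsKernel (cokernel.π (F.last n)))
          mono_f := inferInstanceAs (Mono (Abelian.image.ι _))
          epi_g := inferInstanceAs (Epi (cokernel.π _)) }
      have hI : Subsingleton (Coh.HH X ((T d).obj (Abelian.image (F.last n))) q) :=
        ValVan29.subsingleton_hh_X₃ (hT d S₁ h₁) q (ihn q hq) (hdK d hd.1.1 n (q + 1) (by omega))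
      exact ValVan29.subsingleton_hh_X₂ (hT d S₂ h₂) q hI (hdQ d hd.1.2 n q hq)

end Groth.Agent.GE14
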