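import Groth.Agent.GE14.GradedVanish

/-!
The graded family of kernels of a coherent formal system, with multiplication by generators of the ideal.
-/

set_option autoImplicit false
set_option linter.style.haveILetI false
set_option linter.unusedSectionVars false

universe u

open CategoryTheory CategoryTheory.Limits AlgebraicGeometry Opposite

noncomputable section

namespace Groth.Agent.GE14

open Formal27 Algz14

variable {A : Type u} [CommRing A] {X : Scheme.{u}} [X.Over (Spec (CommRingCat.of A))] {I : Ideal A}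
variable {G : ℕᵒᵖ ⥤ X.Modules}

/-- The step maps. -/
abbrev stp (G : ℕᵒᵖ ⥤ X.Modules) (n : ℕ) : G.obj (op (n + 1)) ⟶ G.obj (op n) := sysMap G (Nat.le_succ n)

theorem exists_mulUp (hG : Formal.IsCohFormal I G) {f : A} (hf : f ∈ I) (n : ℕ) :
    ∃ μ : G.obj (op n) ⟶ G.obj (op (n + 1)), stp G n ≫ μ = Formal.smulMod A (G.obj (op (n + 1))) f := by
  refine Formal27.exists_factor hG (Nat.le_succ n) _ fun a ha => ?_
  refine Scheme.Modules.hom_ext _ _ fun V => ?_
  ext m
  change gi A X V f • gi A X V a • m = 0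
  rw [smul_smul, ← map_mul]
  refine gi_smul_eq_zero hG (n + 1) ?_ m
  rw [pow_succ, mul_comm f a]
  exact Ideal.mul_mem_mul ha hf

/-- Multiplication by `f` raising the level. -/
def mulUp (hG : Formal.IsCohFormal I G) {f : A} (hf : f ∈ I) (n : ℕ) : G.obj (op n) ⟶ G.obj (op (n + 1)) :=
  (exists_mulUp hG hf n).choose

theorem stp_mulUp (hG : Formal.IsCohFormal I G) {f : A} (hf : f ∈ I) (n : ℕ) :
    stp G n ≫ mulUp hG hf n = Formal.smulMod A (G.obj (op (n + 1))) f :=
  (exists_mulUp hG hf n).choose_spec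

theorem mulUp_stp (hG : Formal.IsCohFormal I G) {f : A} (hf : f ∈ I) (n : ℕ) :
    mulUp hG hf (n + 1) ≫ stp G (n + 1) = stp G n ≫ mulUp hG hf n := by
  haveI := Formal27.epi_step hG (n + 1)
  rw [← cancel_epi (stp G (n + 1)), ← Category.assoc, stp_mulUp, stp_mulUp]
  exact (smulMod_comp (stp G (n + 1)) f).symm

theorem mulUp_comm (hG : Formal.IsCohFormal I G) {f g : A} (hf : f ∈ I) (hg : g ∈ I) (n : ℕ) :
    mulUp hG hf n ≫ mulUp hG hg (n + 1) = mulUp hG hg n ≫ mulUp hG hf (n + 1) := by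
  haveI := Formal27.epi_step hG n
  haveI := Formal27.epi_step hG (n + 1)
  have key : ∀ {p q : A} (hp : p ∈ I) (hq : q ∈ I),
      stp G (n + 1) ≫ stp G n ≫ mulUp hG hp n ≫ mulUp hG hq (n + 1) =
        Formal.smulMod A (G.obj (op (n + 1 + 1))) q ≫ Formal.smulMod A (G.obj (op (n + 1 + 1))) p := by
    intro p q hp hq
    rw [← Category.assoc (stp G n), stp_mulUp, ← Category.assoc (stp G (n + 1)), smulMod_comp, Category.assoc,
      stp_mulUp]
    refine Scheme.Modules.hom_ext _ _ fun V => ?_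
    ext m
    change gi A X V q • gi A X V p • m = gi A X V p • gi A X V q • m
    rw [smul_comm]
  rw [← cancel_epi (stp G n), ← cancel_epi (stp G (n + 1)), key hf hg, key hg hf]
  refine Scheme.Modules.hom_ext _ _ fun V => ?_
  ext m
  change gi A X V f • gi A X V g • m = gi A X V g • gi A X V f • m
  rw [smul_comm]

variable [AlgebraicGeometry.IsNoetherian X] (hG : Formal.IsCohFormal I G) {r : ℕ} (f : Fin r → A)
  (hf : Ideal.span (Set.range f) = I)

include hf in
theorem mem_gen (j : Fin r) : f j ∈ I := hf ▸ Ideal.subset_span ⟨j, rfl⟩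

/-- The kernel family. -/
def kerFamily : GFam X r where
  K n := kernel (stp G n)
  t j n := kernel.map (stp G n) (stp G (n + 1)) (mulUp hG (mem_gen f hf j) (n + 1)) (mulUp hG (mem_gen f hf j) n)
    (mulUp_stp hG (mem_gen f hf j) n).symm
  comm i j n := by
    rw [← cancel_mono (kernel.ι (stp G (n + 1 + 1)))]
    simp only [Category.assoc, kernel.lift_ι, kernel.lift_ι_assoc]
    rw [mulUp_comm hG (mem_gen f hf i) (mem_gen f hf j) (n + 1)]
  coh n := QC70.isCoh_kernel _ (hG.1 (n + 1)) (hG.1 n).1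
  gen := by
    refine ⟨0, fun n _ Z φ hφ => ?_⟩
    haveI : (G.obj (op (n + 1))).IsQuasicoherent := (hG.1 _).1
    haveI : (G.obj (op (n + 1 + 1))).IsQuasicoherent := (hG.1 _).1
    haveI : (kernel (stp G (n + 1))).IsQuasicoherent := QC70.isQuasicoherent_kernel _
    refine eq_zero_of_cover φ Set.univ (fun p => ?_) fun W _ x => ?_
    · obtain ⟨V, hV, hpV, -⟩ := X.isBasis_affineOpens.exists_subset_of_mem_open (Set.mem_univ p) isOpen_univ
      obtain ⟨V, hV', rfl⟩ := hV
      exact ⟨⟨V, hV'⟩, Set.mem_univ _, hpV⟩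
    let ι := QC70.appLinear (kernel.ι (stp G (n + 1))) W.1
    suffices h : ι x ∈ (LinearMap.ker (QC70.appLinear φ W.1)).map ι by
      obtain ⟨x', hx', e⟩ := h
      rw [← QC70.app_injective_of_mono (kernel.ι (stp G (n + 1))) W.1 e]
      exact hx'
    have h0 : ι x ∈ (I.map (gi A X W.1)) ^ (n + 1 + 1) • (⊤ : Submodule Γ(X, W.1) Γ(G.obj (op (n + 1 + 1)), W.1)) :=
      (isTower_sect hG W.2).ker (Nat.le_succ (n + 1)) _
        (QC70.app_f_g (ShortComplex.mk _ _ (kernel.condition (stp G (n + 1)))) W.1 x)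
    rw [pow_succ', Submodule.mul_smul] at h0
    refine Submodule.smul_induction_on h0 (fun c hc y hy => ?_) fun a b ha hb => add_mem ha hb
    rw [← hf, Ideal.map_span, ← Set.range_comp] at hc
    obtain ⟨b, rfl⟩ := (Submodule.mem_span_range_iff_exists_fun _).1 hc
    rw [Finset.sum_smul]
    refine Submodule.sum_mem _ fun j _ => ?_
    rw [smul_assoc]
    refine Submodule.smul_mem _ _ ?_
    have hy0 : (stp G n).app W.1 ((stp G (n + 1)).app W.1 y) = 0 := by
      refine (sysMap_app_comp G (Nat.le_succ n) (Nat.le_succ (n + 1)) W.1 y).trans ?_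
      exact (isTower_sect hG W.2).tr_eq_zero ((Nat.le_succ n).trans (Nat.le_succ (n + 1))) le_rfl hy
    obtain ⟨z, hz⟩ := QC70.exists_kernel_app_eq (stp G n) W.1 _ hy0
    refine ⟨(kernel.map (stp G n) (stp G (n + 1)) (mulUp hG (mem_gen f hf j) (n + 1)) (mulUp hG (mem_gen f hf j) n)
      (mulUp_stp hG (mem_gen f hf j) n).symm).app W.1 z,
      congrArg (fun g => (Scheme.Modules.Hom.app g W.1) z) (hφ j), ?_⟩
    refine (congrArg (fun g => (Scheme.Modules.Hom.app g W.1) z) (kernel.lift_ι _ _ _)).trans ?_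
    refine (congrArg ((mulUp hG (mem_gen f hf j) (n + 1)).app W.1) hz).trans ?_
    exact congrArg (fun g => (Scheme.Modules.Hom.app g W.1) y) (stp_mulUp hG (mem_gen f hf j) (n + 1))

end Groth.Agent.GE14
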