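import Groth.Agent.GE14.KerFamily
import Groth.Agent.Amp73.GlobGen
import Groth.Agent.Formal27.QuasiAffine
import Groth.Agent.An92.Ample.Inverse
import Groth.Agent.Crv77.Twist
import Groth.Agent.Crv77.Sections
import Groth.Agent.Univ70.Sect
import Groth.Agent.Algz14.RelInst

/-!
A coherent formal system on a scheme with an ample module satisfying Serre vanishing is a quotient of the completion
of a coherent module.
-/

set_option autoImplicit false
set_option linter.style.haveILetI false
set_option linter.unusedSectionVars false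

universe u

open CategoryTheory CategoryTheory.Limits AlgebraicGeometry Opposite

noncomputable section

namespace Groth.Agent.GE14

open Formal27 Algz14

theorem epi_tR_map {C : Type u} [SmallCategory C] {J : GrothendieckTopology C} {O : Sheaf J CommRingCat.{u}}
    (N : ModSite.Mod O) {P Q : ModSite.Mod O} (g : P ⟶ Q) [Epi g] : Epi ((Mod48.tR N).map g) := inferInstance

theorem epi_twist_map {X : Scheme.{u}} (N : X.Modules) {P Q : X.Modules} (g : P ⟶ Q) (h : Epi g) :
    Epi ((Crv77.twist N).map g) :=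
  @epi_tR_map _ _ _ X.sheaf N P Q g h

variable {A : Type u} [CommRing A] {X : Scheme.{u}} [X.Over (Spec (CommRingCat.of A))] {I : Ideal A}
variable {G : ℕᵒᵖ ⥤ X.Modules}

/-- Twisting by a tensor power. -/
abbrev tw (L : X.Modules) (d : ℕ) : X.Modules ⥤ X.Modules := Crv77.twist (CohB1.tensorPow L d)

instance additive_twist (L : X.Modules) : (Crv77.twist L).Additive :=
  inferInstanceAs (Mod48.tR (O := X.sheaf) L).Additive

theorem shortExact_map_tw {L : X.Modules} (hL : PicF.IsInvertible L) (d : ℕ) (S : ShortComplex X.Modules)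
    (hS : S.ShortExact) : (S.map (tw L d)).ShortExact :=
  Crv77.shortExact_tR_of_locally_flat (O := X.sheaf) _
    (Crv77.locally_flat_of_rank_one
      (Mero90.isFinLocFreeOfRank_of_isInvertible (EGA73.isInvertible_tensorPow hL d))) hS

variable (A) in
include A in
theorem app_top_surjective_of_vanishing (S : ShortComplex X.Modules) (hS : S.ShortExact)
    (h : Subsingleton (Coh.HH X S.X₁ 1)) : Function.Surjective (S.g.app ⊤) := by
  intro y
  obtain ⟨z, rfl⟩ := (Crv77.sec S.X₃).surjective y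
  obtain ⟨x, rfl⟩ := (Crv77.exact_g_δ A hS 0 z).1 (Subsingleton.elim (α := Coh.HH X S.X₁ 1) _ _)
  exact ⟨Crv77.sec S.X₂ x, (Crv77.sec_hmap A S.g x).symm⟩

theorem smulMod_map_tw {L : X.Modules} (d : ℕ) (M : X.Modules) (a : A) :
    (tw L d).map (Formal.smulMod A M a) = Formal.smulMod A ((tw L d).obj M) a :=
  Univ70.tensorRightMod_map_smulΓ (CohB1.tensorPow L d) M _

/-- The twisting functor composed with twisting by an inverse. -/
def twInvIso {L N : X.Modules} (e : CohB1.tensorMod L N ≅ Coh.structureModule X) :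
    Crv77.twist L ⋙ Crv77.twist N ≅ 𝟭 X.Modules :=
  Mod48.tensAssocNat (O := X.sheaf) L N ≪≫
    NatIso.ofComponents (F := Mod48.tR (O := X.sheaf) (CohB1.tensorMod L N))
      (G := Mod48.tR (O := X.sheaf) (Coh.structureModule X)) (fun F => (Mod48.tL (O := X.sheaf) F).mapIso e)
      (fun {_ _} f => (Mod48.tRMap (O := X.sheaf) e.hom).naturality f) ≪≫
    (Mod48.tensSymm (O := X.sheaf) (Coh.structureModule X)).symm ≪≫ Mod48.tensUnit (O := X.sheaf)

theorem app_succ_surjective (hG : Formal.IsCohFormal I G) {M : X.Modules} [M.IsQuasicoherent]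
    (v : ∀ n, M ⟶ G.obj (op n)) (hv : ∀ n, v (n + 1) ≫ stp G n = v n) {V : X.Opens} (hV : IsAffineOpen V) {n : ℕ}
    (h : Function.Surjective ((v n).app V)) : Function.Surjective ((v (n + 1)).app V) := by
  intro x
  have hT := isTower_sect hG hV
  have hs : ∀ z, sectTr G V (Nat.le_succ n) ((v (n + 1)).app V z) = (v n).app V z := fun z =>
    congrArg (fun g => (Scheme.Modules.Hom.app g V) z) (hv n)
  obtain ⟨z, hz⟩ := h (sectTr G V (Nat.le_succ n) x)
  have hd : x - (v (n + 1)).app V z ∈ (I.map (gi A X V)) ^ (n + 1) •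
      (⊤ : Submodule Γ(X, V) Γ(G.obj (op (n + 1)), V)) :=
    hT.ker (Nat.le_succ n) _ (by rw [map_sub, hs, hz, sub_self])
  have hle : (I.map (gi A X V)) ^ (n + 1) • (⊤ : Submodule Γ(X, V) Γ(G.obj (op (n + 1)), V)) ≤
      LinearMap.range (QC70.appLinear (v (n + 1)) V) :=
    Submodule.smul_le.2 fun a ha y _ => by
      obtain ⟨w, hw⟩ := h (sectTr G V (Nat.le_succ n) y)
      refine ⟨a • w, ?_⟩
      rw [map_smul]
      refine (sub_eq_zero.1 ?_).symm
      rw [← smul_sub]
      refine hT.smul_eq_zero (by omega) ha (hT.ker (Nat.le_succ n) _ ?_)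
      rw [map_sub]
      exact sub_eq_zero.2 ((hs w).trans hw).symm
  obtain ⟨w, hw⟩ := hle hd
  refine ⟨z + w, ?_⟩
  rw [map_add, show (v (n + 1)).app V w = _ from hw, add_sub_cancel]

variable [IsNoetherianRing A] [AlgebraicGeometry.IsNoetherian X]

/-- A coherent formal system is a quotient of the completion of a coherent module. -/
theorem exists_epi_completion (hG : Formal.IsCohFormal I G) {L : X.Modules} (hL : CohB1.IsAmple L)
    (hV : ∀ M : X.Modules, Coh.IsCoh M → ∃ d₀ : ℕ, ∀ d, d₀ ≤ d → ∀ q : ℕ, 1 ≤ q →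
      Subsingleton (Coh.HH X (CohB1.tensorMod M (CohB1.tensorPow L d)) q)) :
    ∃ (M : X.Modules) (π : Formal.completion I M ⟶ G), Coh.IsCoh M ∧ ∀ n, Epi (π.app (op n)) := by
  classical
  obtain ⟨r, f, hf⟩ := Submodule.fg_iff_exists_fin_generating_family.1 (IsNoetherian.noetherian I)
  obtain ⟨d₀, hd₀⟩ := exists_uniform_vanishing (tw L) (shortExact_map_tw hL.1) hV r (kerFamily hG f hf)
  obtain ⟨d₁, hd₁⟩ := Amp73.eventually_spanAt_twist hL (hG.1 0)
  obtain ⟨d, hdd₀, hdd₁⟩ : ∃ d, d₀ ≤ d ∧ d₁ ≤ d := ⟨max d₀ d₁, le_max_left _ _, le_max_right _ _⟩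
  let T := tw L d
  have hLd := EGA73.isInvertible_tensorPow hL.1 d
  have hG0 : Coh.IsCoh (T.obj (G.obj (op 0))) :=
    Amp73.isCoh_tensorMod (hG.1 0) (Amp73.isCoh_of_isInvertible hLd)
  obtain ⟨k, p, hp⟩ := Amp73.exists_epi_freeMod (X := X) hG0.1 hG0.2 (hd₁ d hdd₁)
  have hsurj : ∀ n, Function.Surjective ((T.map (stp G n)).app ⊤) := fun n => by
    haveI := Formal27.epi_step hG n
    let S := ShortComplex.mk (kernel.ι (stp G n)) (stp G n) (kernel.condition _)
    have hS : S.ShortExact :=
      { exact := ShortComplex.exact_of_f_is_kernel _ (kernelIsKernel _)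
        mono_f := inferInstanceAs (Mono (kernel.ι _))
        epi_g := ‹Epi (stp G n)› }
    exact app_top_surjective_of_vanishing A (S.map T) (shortExact_map_tw hL.1 d S hS)
      (hd₀ d hdd₀ n 1 le_rfl)
  let one : Γ(Coh.structureModule X, (⊤ : X.Opens)) := Formal27.oneSec X
  let s : Fin k → ∀ n, Γ(T.obj (G.obj (op n)), (⊤ : X.Opens)) := fun i n =>
    Nat.rec (motive := fun n => Γ(T.obj (G.obj (op n)), (⊤ : X.Opens)))
      ((Sigma.ι (fun _ : Fin k => Coh.structureModule X) i ≫ p).app ⊤ one) (fun n x => (hsurj n x).choose) n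
  have hs : ∀ i n, (T.map (stp G n)).app ⊤ (s i (n + 1)) = s i n := fun i n => (hsurj n (s i n)).choose_spec
  let u : ∀ n, FlatMod.freeMod X k ⟶ T.obj (G.obj (op n)) := fun n =>
    Sigma.desc fun i => EGA73.unitHom _ (s i n)
  have h1 : ∀ (F : X.Modules) (e : Γ(F, (⊤ : X.Opens))), (EGA73.unitHom F e).app ⊤ one = e := fun F e =>
    (EGA73.unitHom_app _ _ ⊤ (1 : Γ(X, ⊤))).trans ((one_smul Γ(X, (⊤ : X.Opens)) _).trans (QC70.res_self _))
  have hu : ∀ n, u (n + 1) ≫ T.map (stp G n) = u n := fun n => Sigma.hom_ext _ _ fun i => by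
    rw [← Category.assoc, Sigma.ι_desc, Sigma.ι_desc]
    refine Formal27.hom_ext_one ?_
    exact ((congrArg ((T.map (stp G n)).app ⊤) (h1 _ (s i (n + 1)))).trans (hs i n)).trans (h1 _ (s i n)).symm
  have hu0 : u 0 = p := Sigma.hom_ext _ _ fun i => by
    rw [Sigma.ι_desc]
    exact Formal27.hom_ext_one (h1 _ _)
  obtain ⟨N, hN, ⟨e₀⟩⟩ := An92.InvMod.exists_inverse hLd
  let Ti := Crv77.twist N
  let η : T ⋙ Ti ≅ 𝟭 X.Modules := twInvIso (EGA73.tensComm _ _ ≪≫ e₀)
  let M : X.Modules := Ti.obj (FlatMod.freeMod X k)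
  have hfree : Coh.IsCoh (FlatMod.freeMod X k) :=
    let e : (⨁ fun _ : Fin k => Coh.structureModule X) ≅ FlatMod.freeMod X k := biproduct.isoCoproduct _
    QC70.isCoh_of_iso e (QC70.isCoh_biproduct _ fun _ => Amp73.isCoh_of_isInvertible EGA73.isInvertible_structureModule)
  have hM : Coh.IsCoh M := Amp73.isCoh_tensorMod hfree (Amp73.isCoh_of_isInvertible hN)
  haveI := hM.1
  let v : ∀ n, M ⟶ G.obj (op n) := fun n => Ti.map (u n) ≫ η.hom.app (G.obj (op n))
  have hv : ∀ n, v (n + 1) ≫ stp G n = v n := fun n => by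
    refine (Category.assoc _ _ _).trans ((congrArg (Ti.map (u (n + 1)) ≫ ·) (η.hom.naturality (stp G n)).symm).trans ?_)
    refine (Category.assoc _ _ _).symm.trans (congrArg (· ≫ η.hom.app (G.obj (op n))) ?_)
    exact (Ti.map_comp _ _).symm.trans (congrArg Ti.map (hu n))
  have hq0 : ∀ n, ∀ a ∈ I ^ (n + 1), Formal.smulMod A M a ≫ v n = 0 := fun n a ha => by
    rw [← smulMod_comp, hG.2.1 n a ha, comp_zero]
  have hsys : ∀ {i j : ℕ} (h : i ≤ j), v j ≫ sysMap G h = v i := fun {i j} h => by
    induction j, h using Nat.le_induction with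
    | base => rw [sysMap_self, Category.comp_id]
    | succ j h ih => rw [← sysMap_comp G h (Nat.le_succ j), ← Category.assoc, hv, ih]
  let π : Formal.completion I M ⟶ G :=
    { app := fun n => cokernel.desc _ (v n.unop) (smulFamily_comp_eq_zero _ (hq0 n.unop))
      naturality := fun i j g => by
        rw [show (Formal.completion I M).map g = sysMap (Formal.completion I M) (leOfHom g.unop) from
            congrArg (Formal.completion I M).map (Subsingleton.elim _ _),
          show G.map g = sysMap G (leOfHom g.unop) from congrArg G.map (Subsingleton.elim _ _)]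
        haveI : Epi (Formal.modPowπ I (i.unop + 1) M) := inferInstanceAs (Epi (cokernel.π _))
        refine (cancel_epi (Formal.modPowπ I (i.unop + 1) M)).1 ?_
        refine ((Category.assoc _ _ _).symm.trans ((congrArg (· ≫ _) (completion_map_π M (leOfHom g.unop))).trans
          (cokernel.π_desc _ _ _))).trans ?_
        exact (((Category.assoc _ _ _).symm.trans (congrArg (· ≫ sysMap G (leOfHom g.unop))
          (cokernel.π_desc _ _ _))).trans (hsys (leOfHom g.unop))).symm }
  refine ⟨M, π, hM, fun n => ?_⟩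
  have hv0 : Epi (v 0) := by
    haveI : Epi (u 0) := hu0 ▸ hp
    haveI : Epi (Ti.map (u 0)) := epi_twist_map N (u 0) inferInstance
    exact epi_comp _ _
  haveI : ∀ m, (G.obj (op m)).IsQuasicoherent := fun m => (hG.1 m).1
  have hall : ∀ m, ∀ W : X.affineOpens, Function.Surjective ((v m).app W.1) := fun m W => by
    induction m with
    | zero => exact app_surjective_of_epi (v 0) W.2
    | succ m ih => exact app_succ_surjective hG v hv W.2 ih
  haveI : Epi (v n) := by
    refine Abelian.epi_of_cokernel_π_eq_zero _ (eq_zero_of_cover _ Set.univ (fun q => ?_) fun W _ y => ?_)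
    · obtain ⟨V, hV, hqV, -⟩ := X.isBasis_affineOpens.exists_subset_of_mem_open (Set.mem_univ q) isOpen_univ
      obtain ⟨V, hV', rfl⟩ := hV
      exact ⟨⟨V, hV'⟩, Set.mem_univ _, hqV⟩
    · obtain ⟨x, rfl⟩ := hall n W y
      exact QC70.app_f_g (ShortComplex.mk _ _ (cokernel.condition (v n))) W.1 x
  exact epi_of_epi_fac (show Formal.modPowπ I (n + 1) M ≫ π.app (op n) = v n from cokernel.π_desc _ _ _)

end Groth.Agent.GE14
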