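import Groth.Agent.GE14.AmpleEpi
import Groth.Agent.Algz14.KerSys
import Groth.Agent.Algz14.SystemOps

/-!
Existence: a coherent formal system presented by completions of coherent modules is a completion.
-/

set_option autoImplicit false
set_option linter.style.haveILetI false
set_option linter.unusedSectionVars false

universe u

open CategoryTheory CategoryTheory.Limits AlgebraicGeometry Opposite

noncomputable section

namespace Groth.Agent.GE14

open Formal27 Algz14

variable {A : Type u} [CommRing A] {X : Scheme.{u}} [X.Over (Spec (CommRingCat.of A))] {I : Ideal A}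
variable [AlgebraicGeometry.IsNoetherian X] {F G : ℕᵒᵖ ⥤ X.Modules}

theorem epi_trK (hF : Formal.IsCohFormal I F) (hG : Formal.IsCohFormal I G) (φ : F ⟶ G)
    (hφ : ∀ n, Epi (φ.app (op n))) {n m : ℕ} (h : n ≤ m) : Epi (Algz14.KerSys.trK φ h) := by
  haveI : ∀ k, (F.obj (op k)).IsQuasicoherent := fun k => (hF.1 k).1
  haveI : ∀ k, (G.obj (op k)).IsQuasicoherent := fun k => (hG.1 k).1
  haveI : ∀ k, (Algz14.KerSys.kc φ k).IsQuasicoherent := fun k => QC70.isQuasicoherent_kernel _
  refine Abelian.epi_of_cokernel_π_eq_zero _ (eq_zero_of_cover _ Set.univ (fun q => ?_) fun W _ x => ?_)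
  · obtain ⟨V, hV, hqV, -⟩ := X.isBasis_affineOpens.exists_subset_of_mem_open (Set.mem_univ q) isOpen_univ
    obtain ⟨V, hV', rfl⟩ := hV
    exact ⟨⟨V, hV'⟩, Set.mem_univ _, hqV⟩
  have hTF := isTower_sect hF W.2
  have hTG := isTower_sect hG W.2
  let x₀ := (kernel.ι (φ.app (op n))).app W.1 x
  obtain ⟨y, hy⟩ := hTF.surj h x₀
  have hx₀ : (φ.app (op n)).app W.1 x₀ = 0 :=
    QC70.app_f_g (ShortComplex.mk _ _ (kernel.condition (φ.app (op n)))) W.1 x
  have hnat : ∀ z, sectTr G W.1 h ((φ.app (op m)).app W.1 z) = (φ.app (op n)).app W.1 (sectTr F W.1 h z) := fun z =>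
    congrArg (fun g => (Scheme.Modules.Hom.app g W.1) z) (φ.naturality (homOfLE h).op).symm
  have h1 : (φ.app (op m)).app W.1 y ∈ (I.map (gi A X W.1)) ^ (n + 1) •
      (⊤ : Submodule Γ(X, W.1) Γ(G.obj (op m), W.1)) := hTG.ker h _ (by rw [hnat, hy, hx₀])
  haveI := hφ m
  rw [← LinearMap.range_eq_top.2 (show Function.Surjective (QC70.appLinear (φ.app (op m)) W.1) from
    app_surjective_of_epi (φ.app (op m)) W.2), ← Submodule.map_top, ← Submodule.map_smul''] at h1
  obtain ⟨z, hz, hze⟩ := h1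
  have hk : (φ.app (op m)).app W.1 (y - z) = 0 := by
    rw [map_sub]; exact sub_eq_zero.2 hze.symm
  obtain ⟨w, hw⟩ := QC70.exists_kernel_app_eq (φ.app (op m)) W.1 _ hk
  have hx : (Algz14.KerSys.trK φ h).app W.1 w = x := by
    refine QC70.app_injective_of_mono (kernel.ι (φ.app (op n))) W.1 ?_
    refine (congrArg (fun g => (Scheme.Modules.Hom.app g W.1) w) (Algz14.KerSys.trK_ι φ h)).trans ?_
    refine (congrArg ((sysMap F h).app W.1) hw).trans ?_
    rw [map_sub]
    refine (congrArg₂ (· - ·) hy (hTF.tr_eq_zero h le_rfl hz)).trans (sub_zero _)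
  rw [← hx]
  exact QC70.app_f_g (ShortComplex.mk _ _ (cokernel.condition (Algz14.KerSys.trK φ h))) W.1 w

/-- The formal kernel of a levelwise epimorphism has the levelwise kernels as images. -/
theorem exists_kernel_of_epi (hF : Formal.IsCohFormal I F) (hG : Formal.IsCohFormal I G) (φ : F ⟶ G)
    (hφ : ∀ n, Epi (φ.app (op n))) :
    ∃ (K : ℕᵒᵖ ⥤ X.Modules) (ι : K ⟶ F), Formal.IsCohFormal I K ∧ ι ≫ φ = 0 ∧
      ∀ (n : ℕ) (Z : X.Modules) (g : F.obj (op n) ⟶ Z), ι.app (op n) ≫ g = 0 → kernel.ι (φ.app (op n)) ≫ g = 0 := by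
  classical
  obtain ⟨S, hS⟩ := exists_cover (X := X)
  choose D₀ hD₀ using fun W : X.affineOpens => Algz14.KerSys.exists_bounds φ hF hG W.2
  obtain ⟨D, hD⟩ : ∃ D, S.sup D₀ = D := ⟨_, rfl⟩
  have hd' : ∀ W : X.affineOpens, ∃ d₀, W ∈ S → ∀ d, d₀ ≤ d → Algz14.KerSys.Bounds φ I D d W.1 := fun W => by
    by_cases hW : W ∈ S
    · obtain ⟨d₀, h⟩ := hD₀ W D (hD ▸ Finset.le_sup hW)
      exact ⟨d₀, fun _ => h⟩
    · exact ⟨0, fun h => absurd h hW⟩
  choose d₀ hd₀ using hd'
  obtain ⟨d, hd⟩ : ∃ d, S.sup d₀ = d := ⟨_, rfl⟩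
  have hb : ∀ W ∈ S, Algz14.KerSys.Bounds φ I D d W.1 := fun W hW => hd₀ W hW d (hd ▸ Finset.le_sup hW)
  refine ⟨Algz14.KerSys.KSys I φ D d, Algz14.KerSys.ιSys I φ D hF d,
    Algz14.KerSys.isCohFormal_KSys I φ D hF hG d S hS hb, Algz14.KerSys.ιSys_comp I φ D hF d, fun n Z g hg => ?_⟩
  haveI := epi_trK hF hG φ hφ (show n ≤ n + d + D by omega)
  refine (cancel_epi (Algz14.KerSys.trK φ (show n ≤ n + d + D by omega))).1 (Eq.trans ?_ comp_zero.symm)
  have h1 : Algz14.KerSys.qK φ D d n ≫ g = 0 := by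
    rw [← Algz14.KerSys.pK_ιK I φ D hF d n]
    exact (Category.assoc _ _ _).trans ((congrArg (_ ≫ ·) hg).trans comp_zero)
  have h2 : Algz14.KerSys.trK φ (show n ≤ n + d + D by omega) ≫ kernel.ι (φ.app (op n)) =
      Algz14.KerSys.e φ D (n + d) ≫ Algz14.KerSys.qK φ D d n := by
    rw [Algz14.KerSys.trK_ι, ← Category.assoc, Algz14.KerSys.e_ιT, Category.assoc, sysMap_comp]
  refine (Category.assoc _ _ _).symm.trans ((congrArg (· ≫ g) h2).trans ?_)
  exact (Category.assoc _ _ _).trans ((congrArg (_ ≫ ·) h1).trans comp_zero)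

omit [AlgebraicGeometry.IsNoetherian X] in
/-- A system presented by completions of coherent modules with a map between them is a completion. -/
theorem completion_coker_iso {M M' : X.Modules} (f : M' ⟶ M) (π : Formal.completion I M ⟶ G)
    (hπ : ∀ n, Epi (π.app (op n))) (hf : complMap f ≫ π = 0)
    (hex : ∀ (n : ℕ) (Z : X.Modules) (g : (Formal.completion I M).obj (op n) ⟶ Z),
      (complMap (I := I) f).app (op n) ≫ g = 0 → kernel.ι (π.app (op n)) ≫ g = 0)
    (hkill : ∀ n, Formal.KilledBy (I ^ (n + 1)) (G.obj (op n))) :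
    Nonempty (Formal.completion I (cokernel f) ≅ G) := by
  let c := complMap (I := I) (cokernel.π f)
  haveI hc : ∀ n, Epi (c.app (op n)) := fun n => by
    haveI : Epi (Formal.modPowπ I (n + 1) (cokernel f)) := inferInstanceAs (Epi (cokernel.π _))
    exact @epi_of_epi_fac _ _ _ _ _ _ _ _ (epi_comp (cokernel.π f) (Formal.modPowπ I (n + 1) (cokernel f)))
      (complMap_app_π (I := I) (cokernel.π f) n)
  have h0 : ∀ n, f ≫ Formal.modPowπ I (n + 1) M ≫ π.app (op n) = 0 := fun n => by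
    have := congr_arg (fun t => NatTrans.app t (op n)) hf
    refine (Category.assoc _ _ _).symm.trans ((congrArg (· ≫ π.app (op n)) (complMap_app_π f n).symm).trans ?_)
    exact (Category.assoc _ _ _).trans ((congrArg (_ ≫ ·) this).trans comp_zero)
  let a : ∀ n, cokernel f ⟶ G.obj (op n) := fun n => cokernel.desc f (Formal.modPowπ I (n + 1) M ≫ π.app (op n)) (h0 n)
  have ha : ∀ n, ∀ x ∈ I ^ (n + 1), Formal.smulMod A (cokernel f) x ≫ a n = 0 := fun n x hx => by
    rw [← smulMod_comp, hkill n x hx, comp_zero]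
  let θ : ∀ n, (Formal.completion I (cokernel f)).obj (op n) ⟶ G.obj (op n) := fun n =>
    cokernel.desc _ (a n) (smulFamily_comp_eq_zero _ (ha n))
  have hθ : ∀ n, c.app (op n) ≫ θ n = π.app (op n) := fun n => by
    haveI : Epi (Formal.modPowπ I (n + 1) M) := inferInstanceAs (Epi (cokernel.π _))
    refine (cancel_epi (Formal.modPowπ I (n + 1) M)).1 ?_
    refine (Category.assoc _ _ _).symm.trans ((congrArg (· ≫ θ n) (complMap_app_π (cokernel.π f) n)).trans
      ((Category.assoc _ _ _).trans ((congrArg (cokernel.π f ≫ ·) (cokernel.π_desc _ _ _)).trans (cokernel.π_desc _ _ _))))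
  have hk : ∀ n, kernel.ι (π.app (op n)) ≫ c.app (op n) = 0 := fun n => hex n _ _
    (by
      have : complMap (I := I) f ≫ c = 0 := by rw [← complMap_comp, cokernel.condition, complMap_zero]
      exact congr_arg (fun t => NatTrans.app t (op n)) this)
  haveI : ∀ n, IsIso (θ n) := fun n => by
    haveI := hπ n
    refine ⟨Abelian.epiDesc (π.app (op n)) (c.app (op n)) (hk n), ?_, ?_⟩
    · rw [← cancel_epi (c.app (op n)), ← Category.assoc, hθ, Abelian.comp_epiDesc, Category.comp_id]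
    · rw [← cancel_epi (π.app (op n)), ← Category.assoc, Abelian.comp_epiDesc, hθ, Category.comp_id]
  refine ⟨NatIso.ofComponents (fun n => asIso (θ n.unop)) fun {i j} g => ?_⟩
  refine (cancel_epi (c.app i)).1 ?_
  show c.app i ≫ (Formal.completion I (cokernel f)).map g ≫ θ j.unop = c.app i ≫ θ i.unop ≫ G.map g
  refine ((Category.assoc _ _ _).symm.trans ((congrArg (· ≫ θ j.unop) (c.naturality g).symm).trans
    ((Category.assoc _ _ _).trans (congrArg (_ ≫ ·) (hθ j.unop))))).trans ?_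
  refine (π.naturality g).trans ?_
  exact (congrArg (· ≫ G.map g) (hθ i.unop)).symm.trans (Category.assoc _ _ _)

/-- Existence for a scheme with an ample module with Serre vanishing and fully faithful completion. -/
theorem exists_completion_of_ample [IsNoetherianRing A] {L : X.Modules} (hL : CohB1.IsAmple L)
    (hV : ∀ M : X.Modules, Coh.IsCoh M → ∃ d₀ : ℕ, ∀ d, d₀ ≤ d → ∀ q : ℕ, 1 ≤ q →
      Subsingleton (Coh.HH X (CohB1.tensorMod M (CohB1.tensorPow L d)) q))
    (hff : ∀ M N : X.Modules, Coh.IsCoh M → Coh.IsCoh N → ∀ ψ : Formal.completion I M ⟶ Formal.completion I N,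
      ∃! φ : M ⟶ N, ∀ n : ℕ, Formal.modPowπ I (n + 1) M ≫ ψ.app (op n) = φ ≫ Formal.modPowπ I (n + 1) N)
    (hG : Formal.IsCohFormal I G) :
    ∃ M : X.Modules, Coh.IsCoh M ∧ Nonempty (Formal.completion I M ≅ G) := by
  obtain ⟨M, π, hM, hπ⟩ := exists_epi_completion hG hL hV
  obtain ⟨K, ι, hK, hι, hker⟩ := exists_kernel_of_epi (isCohFormal_completion I M hM) hG π hπ
  obtain ⟨M', π', hM', hπ'⟩ := exists_epi_completion hK hL hV
  obtain ⟨f, hf, -⟩ := hff M' M hM' hM (π' ≫ ι)
  have hfe : complMap f = π' ≫ ι := by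
    refine NatTrans.ext (funext fun n => ?_)
    haveI : Epi (Formal.modPowπ I (n.unop + 1) M') := inferInstanceAs (Epi (cokernel.π _))
    exact (cancel_epi (Formal.modPowπ I (n.unop + 1) M')).1 ((complMap_app_π f n.unop).trans (hf n.unop).symm)
  refine ⟨cokernel f, QC70.isCoh_cokernel f hM'.1 hM, completion_coker_iso f π hπ ?_ (fun n Z g hg => ?_) hG.2.1⟩
  · rw [hfe, Category.assoc, hι, comp_zero]
  · refine hker n Z g ?_
    haveI := hπ' n
    rw [hfe] at hg
    exact (cancel_epi (π'.app (op n))).1 (((Category.assoc _ _ _).symm.trans hg).trans comp_zero.symm)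

end Groth.Agent.GE14
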