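import Groth.Agent.GE14.CdOne

/-!
A uniform exponent for the torsion of an adic tower of finite modules.
-/

set_option autoImplicit false
set_option linter.style.haveILetI false

universe u

namespace Groth.Agent.GE14

open Algz14.RelTower

variable {R : Type u} [CommRing R] {J : Ideal R} {F : ℕ → Type u} [∀ n, AddCommGroup (F n)] [∀ n, Module R (F n)]
variable {tr : ∀ ⦃n m : ℕ⦄, n ≤ m → F m →ₗ[R] F n}

/-- The elements killed by a fixed power, at a given stage. -/
def killedSub (F : ℕ → Type u) [∀ n, AddCommGroup (F n)] [∀ n, Module R (F n)] (J : Ideal R) (c m : ℕ) :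
    Submodule R (F m) where
  carrier := {y | ∀ b ∈ J ^ c, b • y = 0}
  add_mem' hx hy b hb := by rw [smul_add, hx b hb, hy b hb, add_zero]
  zero_mem' b _ := smul_zero b
  smul_mem' a x hx b hb := by rw [smul_comm, hx b hb, smul_zero]

/-- The elements liftable to every stage by elements killed by a fixed power. -/
def stableTors (tr : ∀ ⦃n m : ℕ⦄, n ≤ m → F m →ₗ[R] F n) (J : Ideal R) (c n : ℕ) : Submodule R (F n) :=
  ⨅ (m : ℕ), ⨅ (h : n ≤ m), (killedSub F J c m).map (tr h)

theorem stableTors_mono {c c' : ℕ} (h : c ≤ c') (n : ℕ) : stableTors tr J c n ≤ stableTors tr J c' n :=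
  iInf_mono fun _ => iInf_mono fun _ => Submodule.map_mono fun _ hy b hb => hy b (Ideal.pow_le_pow_right h hb)

theorem exists_lift_killed (hT : IsTower J tr) [IsNoetherianRing R] [Module.Finite R (F 0)] (c : ℕ) :
    ∃ D, ∀ n, ∀ y ∈ killedSub F J c (n + D), tr (Nat.le_add_right n D) y ∈ stableTors tr J c n := by
  classical
  obtain ⟨s, b, hb⟩ := Submodule.fg_iff_exists_fin_generating_family.1 (IsNoetherian.noetherian (J ^ c))
  let G : ℕ → Type u := fun n => Fin s → F n
  let trG : ∀ ⦃n m : ℕ⦄, n ≤ m → G m →ₗ[R] G n := fun n m h =>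
    LinearMap.pi fun i => tr h ∘ₗ LinearMap.proj i
  have hG : IsTower J trG :=
    { self := fun n x => funext fun i => hT.self n (x i)
      comp := fun h h' x => funext fun i => hT.comp h h' (x i)
      surj := fun h x => ⟨fun i => (hT.surj h (x i)).choose, funext fun i => (hT.surj h (x i)).choose_spec⟩
      kill := fun n a ha x => funext fun i => hT.kill n a ha (x i)
      ker := fun {n m} h x hx => by
        rw [← Finset.univ_sum_single x]
        refine Submodule.sum_mem _ fun i _ => ?_
        have h1 := Submodule.mem_map_of_mem (f := LinearMap.single R (fun _ : Fin s => F m) i)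
          (hT.ker h (x i) (congrFun hx i))
        rw [Submodule.map_smul''] at h1
        exact Submodule.smul_mono le_rfl le_top h1 }
  let α : ∀ n, F n →ₗ[R] G n := fun n => LinearMap.pi fun i => b i • LinearMap.id
  obtain ⟨D, hD⟩ := hT.exists_lift_ker hG α fun h x => funext fun i => map_smul (tr h) (b i) x
  have hker : ∀ m (y : F m), y ∈ killedSub F J c m ↔ α m y = 0 := fun m y => by
    refine ⟨fun hy => funext fun i => hy (b i) (hb.le (Submodule.subset_span ⟨i, rfl⟩)), fun hy a ha => ?_⟩
    rw [← hb] at ha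
    obtain ⟨l, rfl⟩ := (Submodule.mem_span_range_iff_exists_fun R).1 ha
    rw [Finset.sum_smul]
    refine Finset.sum_eq_zero fun i _ => ?_
    rw [smul_eq_mul, mul_smul, show b i • y = 0 from congrFun hy i, smul_zero]
  refine ⟨D, fun n y hy => ?_⟩
  simp only [stableTors, Submodule.mem_iInf]
  intro m h
  obtain ⟨y', hy', e⟩ := hD (show n + D ≤ m + D by omega) y ((hker _ y).1 hy)
  refine ⟨tr (Nat.le_add_right m D) y', fun a ha => ?_, ?_⟩
  · rw [← map_smul, (hker _ y').2 hy' a ha, map_zero]
  · rw [hT.comp]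
    exact e

/-- One exponent kills, after a shift, all torsion of an adic tower of finite modules. -/
theorem exists_torsion_exponent (hT : IsTower J tr) [IsNoetherianRing R] [Module.Finite R (F 0)] :
    ∃ t₀ : ℕ, ∀ c : ℕ, ∃ k : ℕ, ∀ {n m : ℕ} (h : n + k ≤ m) (w : F m), (∀ b ∈ J ^ c, b • w = 0) →
      ∀ a ∈ J ^ t₀, a • tr ((Nat.le_add_right n k).trans h) w = 0 := by
  classical
  obtain ⟨r, φ, hφs, hφ⟩ := hT.exists_gen
  choose D hD using exists_lift_killed (tr := tr) hT
  have hsucc : ∀ c n, ∀ x ∈ stableTors tr J c n, ∃ x' ∈ stableTors tr J c (n + 1), tr (Nat.le_succ n) x' = x := by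
    intro c n x hx
    simp only [stableTors, Submodule.mem_iInf] at hx
    obtain ⟨y, hy, e⟩ := hx (n + 1 + D c) (by omega)
    exact ⟨_, hD c (n + 1) y hy, (hT.comp _ _ y).trans e⟩
  have hdown : ∀ c n, ∀ x ∈ stableTors tr J c (n + 1), tr (Nat.le_succ n) x ∈ stableTors tr J c n := by
    intro c n x hx
    simp only [stableTors, Submodule.mem_iInf] at hx ⊢
    intro m h
    obtain ⟨y, hy, e⟩ := hx (m + 1) (by omega)
    refine ⟨tr (Nat.le_succ m) y, fun b hb => by rw [← map_smul, hy b hb, map_zero], ?_⟩
    rw [hT.comp, ← e, hT.comp]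
  let S : ℕ → J.Filtration (Fin r → R) := fun c =>
    { N := fun n => J ^ n • ⊤ ⊓ (stableTors tr J c n).comap (φ n)
      mono := fun n v hv => by
        refine ⟨Submodule.smul_mono_left (Ideal.pow_le_pow_right n.le_succ) hv.1, ?_⟩
        show φ n v ∈ stableTors tr J c n
        rw [← hφ (Nat.le_succ n) v]
        exact hdown c n _ hv.2
      smul_le := fun n => Submodule.smul_le.2 fun a ha v hv => by
        refine ⟨?_, ?_⟩
        · rw [pow_succ', mul_smul]
          exact Submodule.smul_mem_smul ha hv.1
        · obtain ⟨x, hx, e⟩ := hsucc c n _ hv.2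
          show φ (n + 1) (a • v) ∈ stableTors tr J c (n + 1)
          rw [map_smul]
          suffices h : a • φ (n + 1) v = a • x by rw [h]; exact Submodule.smul_mem _ _ hx
          refine sub_eq_zero.1 ?_
          rw [← smul_sub]
          exact hT.smul_eq_zero (e := 1) (f := n + 1) (by omega) (by rwa [pow_one])
            (hT.ker (Nat.le_succ n) _ (by rw [map_sub, hφ, e, sub_self])) }
  let B : J.Filtration (Fin r → R) := J.stableFiltration ⊤
  have hB : B.submodule.FG :=
    (Ideal.Filtration.submodule_fg_iff_stable _ fun i => IsNoetherian.noetherian _).2 (J.stableFiltration_stable ⊤)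
  haveI : IsNoetherian (reesAlgebra J) B.submodule := isNoetherian_of_fg_of_noetherian _ hB
  let P : ℕ →o Submodule (reesAlgebra J) B.submodule :=
    { toFun := fun c => (S c).submodule.comap B.submodule.subtype
      monotone' := fun c c' h f hf i => ⟨(hf i).1, stableTors_mono h i (hf i).2⟩ }
  obtain ⟨t₀, ht₀⟩ := monotone_stabilizes_iff_noetherian.2 (inferInstance : IsNoetherian (reesAlgebra J) B.submodule) P
  have hNle : ∀ c n, (S c).N n ≤ (S t₀).N n := by
    intro c n v hv
    rcases le_total c t₀ with h | h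
    · exact ⟨hv.1, stableTors_mono h n hv.2⟩
    · let f : PolynomialModule R (Fin r → R) := PolynomialModule.single R n v
      have hf : f ∈ (S c).submodule := fun i => by
        rw [PolynomialModule.coeff_single, Finsupp.single_apply]
        split_ifs with hi
        · subst hi
          exact hv
        · exact zero_mem _
      have hfB : f ∈ B.submodule := fun i => (hf i).1
      have h1 : (⟨f, hfB⟩ : B.submodule) ∈ P c := hf
      rw [← ht₀ c h] at h1
      have h2 : f.coeff n ∈ (S t₀).N n := h1 n
      simpa [f, PolynomialModule.coeff_single] using h2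
  have hTle : ∀ c n, stableTors tr J c n ≤ stableTors tr J t₀ n := by
    intro c n
    induction n with
    | zero =>
      intro x hx
      obtain ⟨v, rfl⟩ := hφs 0 x
      exact (hNle c 0 ⟨by rw [pow_zero, Ideal.one_eq_top, Submodule.top_smul]; exact Submodule.mem_top, hx⟩).2
    | succ n ih =>
      intro x hx
      obtain ⟨x', hx', e⟩ := hsucc t₀ n _ (ih (hdown c n x hx))
      rcases le_total t₀ c with h | h
      · have hd : x - x' ∈ stableTors tr J c (n + 1) := sub_mem hx (stableTors_mono h _ hx')
        have h0 := hT.ker (Nat.le_succ n) (x - x') (by rw [map_sub, e, sub_self])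
        rw [← LinearMap.range_eq_top.2 (hφs (n + 1)), ← Submodule.map_top, ← Submodule.map_smul''] at h0
        obtain ⟨v, hv, hve⟩ := h0
        have h1 : v ∈ (S c).N (n + 1) := ⟨hv, show φ (n + 1) v ∈ _ by rw [hve]; exact hd⟩
        have h2 : x - x' ∈ stableTors tr J t₀ (n + 1) := by
          rw [← hve]
          exact (hNle c (n + 1) h1).2
        simpa using add_mem h2 hx'
      · exact stableTors_mono h _ hx
  refine ⟨t₀, fun c => ⟨D c, fun {n m} h w hw a ha => ?_⟩⟩
  have h1 := hTle c n (hD c n (tr h w) fun b hb => by rw [← map_smul, hw b hb, map_zero])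
  rw [hT.comp] at h1
  simp only [stableTors, Submodule.mem_iInf] at h1
  obtain ⟨y, hy, e⟩ := h1 n le_rfl
  rw [hT.self] at e
  rw [← e]
  exact hy a ha

/-- Torsion of any exponent meets one high power in sections vanishing further down. -/
theorem exists_uniform_inter (hT : IsTower J tr) [IsNoetherianRing R] [Module.Finite R (F 0)] :
    ∃ d : ℕ, ∀ c : ℕ, ∃ k : ℕ, ∀ d', d ≤ d' → ∀ {n m : ℕ} (h : n + k ≤ m) (w : F m),
      w ∈ J ^ d' • (⊤ : Submodule R (F m)) → (∀ b ∈ J ^ c, b • w = 0) →
        tr ((Nat.le_add_right n k).trans h) w = 0 := by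
  obtain ⟨t₀, ht₀⟩ := exists_torsion_exponent hT
  obtain ⟨d, k₀, hd⟩ := exists_torsion_bound hT t₀
  refine ⟨d, fun c => ?_⟩
  obtain ⟨k, hk⟩ := ht₀ c
  refine ⟨k₀ + k, fun d' hd' n m h w hw hc => ?_⟩
  have h1 : n + k₀ + k ≤ m := by omega
  have h2 := hd d' hd' (le_refl (n + k₀)) (tr ((Nat.le_add_right _ k).trans h1) w) (by
    have h3 := Submodule.mem_map_of_mem (f := tr ((Nat.le_add_right (n + k₀) k).trans h1)) hw
    rw [Submodule.map_smul''] at h3
    exact Submodule.smul_mono le_rfl le_top h3) (hk h1 w hc)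
  rwa [hT.comp] at h2

end Groth.Agent.GE14
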