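import Groth.Agent.LC16.DTH
import Groth.Agent.Algz14.CompTower
import Groth.Agent.Algz14.TowerAR

/-!
Consequences of cohomological dimension one, and torsion in adic towers.
-/

set_option autoImplicit false
set_option linter.style.haveILetI false
set_option linter.unusedSectionVars false

universe u v

namespace Groth.Agent.GE14

open LC16.DT in
/-- Over an ideal of cohomological dimension at most one, inclusions of high powers factor through generators. -/
theorem exists_pow_factor {A : Type u} [CommRing A] [IsNoetherianRing A] {I : Ideal A} (h₁ : LocCoh.CdLE A I 1)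
    (m : ℕ) : ∃ (r c : ℕ) (g : Fin r → A) (ψ : Fin r → (↥(I ^ c) →ₗ[A] A)),
      (∀ j, g j ∈ I ^ m) ∧ ∀ b : ↥(I ^ c), ∑ j, g j * ψ j b = b := by
  classical
  obtain ⟨r, g, hg⟩ := Submodule.fg_iff_exists_fin_generating_family.1 (IsNoetherian.noetherian (I ^ m))
  have hgm : ∀ j, g j ∈ I ^ m := fun j => hg.le (Submodule.subset_span ⟨j, rfl⟩)
  let π : (Fin r → A) →ₗ[A] ↥(I ^ m) := Fintype.linearCombination A (fun j => (⟨g j, hgm j⟩ : ↥(I ^ m)))
  have hπ : Function.Surjective π := fun y => by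
    obtain ⟨w, hw⟩ := (Submodule.mem_span_range_iff_exists_fun A).1 (hg.ge y.2)
    exact ⟨w, Subtype.ext (by simp [π, Fintype.linearCombination_apply, ← hw])⟩
  obtain ⟨z, hz⟩ := rightExact_iff_cdLE.2 h₁ _ _ π hπ (inc I ↥(I ^ m) m LinearMap.id)
  obtain ⟨t, f, rfl⟩ := inc_surjective z
  rw [map_inc, ← inc_res (le_max_left t m) (π ∘ₗ f), ← inc_res (le_max_right t m) (LinearMap.id : ↥(I ^ m) →ₗ[A] ↥(I ^ m)), ← sub_eq_zero,
    ← map_sub, inc_eq_zero_iff'] at hz
  obtain ⟨k, hk, hk'⟩ := hz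
  have hkt : I ^ k ≤ I ^ t := Ideal.pow_le_pow_right ((le_max_left t m).trans hk)
  refine ⟨r, k, g, fun j => LinearMap.proj j ∘ₗ f ∘ₗ Submodule.inclusion hkt, hgm, fun b => ?_⟩
  have h := hk' b.1 (Ideal.pow_le_pow_right hk b.2) b.2
  have h' := congrArg Subtype.val (sub_eq_zero.1 h)
  refine Eq.trans ?_ h'
  show ∑ j, g j * f ⟨b.1, _⟩ j = (π (f ⟨b.1, _⟩)).1
  simp [π, Fintype.linearCombination_apply, mul_comm]

open Algz14.RelTower in
/-- Torsion in a tower meets high powers in sections vanishing further down. -/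
theorem exists_torsion_bound {R : Type u} [CommRing R] {J : Ideal R} {F : ℕ → Type u} [∀ n, AddCommGroup (F n)]
    [∀ n, Module R (F n)] {tr : ∀ ⦃n m : ℕ⦄, n ≤ m → F m →ₗ[R] F n} (hT : IsTower J tr) [IsNoetherianRing R]
    [Module.Finite R (F 0)] (c : ℕ) :
    ∃ d k : ℕ, ∀ d', d ≤ d' → ∀ {n m : ℕ} (h : n + k ≤ m) (w : F m), w ∈ J ^ d' • (⊤ : Submodule R (F m)) →
      (∀ b ∈ J ^ c, b • w = 0) → tr ((Nat.le_add_right n k).trans h) w = 0 := by
  classical
  obtain ⟨s, b, hb⟩ := Submodule.fg_iff_exists_fin_generating_family.1 (IsNoetherian.noetherian (J ^ c))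
  let G : ℕ → Type u := fun n => Fin s → F n
  let trG : ∀ ⦃n m : ℕ⦄, n ≤ m → G m →ₗ[R] G n := fun n m h =>
    LinearMap.pi fun i => tr h ∘ₗ LinearMap.proj i
  have hG : IsTower J trG :=
    { self := fun n x => funext fun i => hT.self n (x i)
      comp := fun h h' x => funext fun i => hT.comp h h' (x i)
      surj := fun h x => ⟨fun i => (hT.surj h (x i)).choose, funext fun i => (hT.surj h (x i)).choose_spec⟩
      kill := fun n a ha x => funext fun i => hT.kill n a ha (x i)
      ker := fun {n m} h x hx => by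
        rw [← Finset.univ_sum_single x]
        refine Submodule.sum_mem _ fun i _ => ?_
        have h1 := Submodule.mem_map_of_mem (f := LinearMap.single R (fun _ : Fin s => F m) i)
          (hT.ker h (x i) (congrFun hx i))
        rw [Submodule.map_smul''] at h1
        exact Submodule.smul_mono le_rfl le_top h1 }
  let α : ∀ n, F n →ₗ[R] G n := fun n => LinearMap.pi fun i => b i • LinearMap.id
  have hα : ∀ {n m : ℕ} (h : n ≤ m) (x : F m), trG h (α m x) = α n (tr h x) := fun h x =>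
    funext fun i => map_smul (tr h) (b i) x
  obtain ⟨D, hD⟩ := hT.exists_lift_ker hG α hα
  let T : ∀ n : ℕ, Submodule R (F n) := fun n => (LinearMap.ker (α (n + D))).map (tr (Nat.le_add_right n D))
  have htr : ∀ n, (T (n + 1)).map (tr (Nat.le_succ n)) = T n := fun n => by
    refine le_antisymm ?_ ?_
    · rintro _ ⟨_, ⟨y, hy, rfl⟩, rfl⟩
      refine ⟨tr (show n + D ≤ n + 1 + D by omega) y, ?_, ?_⟩
      · rw [SetLike.mem_coe, LinearMap.mem_ker, ← hα, LinearMap.mem_ker.1 hy, map_zero]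
      · rw [hT.comp, hT.comp]
    · rintro _ ⟨y, hy, rfl⟩
      obtain ⟨y', hy', e⟩ := hD (show n + D ≤ n + 1 + D by omega) y hy
      refine ⟨_, ⟨y', hy', rfl⟩, ?_⟩
      rw [hT.comp, e]
  obtain ⟨c₁, d₁, hcd⟩ := hT.exists_inter_pow J c T htr fun n a ha x hx => by
    obtain ⟨y, hy, rfl⟩ := hx
    rw [← map_smul]
    suffices a • y = 0 by rw [this, map_zero]
    rw [← hb] at ha
    obtain ⟨l, rfl⟩ := (Submodule.mem_span_range_iff_exists_fun R).1 ha
    rw [Finset.sum_smul]
    refine Finset.sum_eq_zero fun i _ => ?_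
    rw [smul_eq_mul, mul_smul, show b i • y = 0 from congrFun (LinearMap.mem_ker.1 hy) i, smul_zero]
  refine ⟨c₁, d₁ + D, fun d' hd' n m h w hw hbw => ?_⟩
  have hle : n + d₁ + D ≤ m := by omega
  have h1 : tr hle w ∈ LinearMap.ker (α (n + d₁ + D)) := by
    refine LinearMap.mem_ker.2 (funext fun i => ?_)
    show b i • tr hle w = 0
    rw [← map_smul, hbw (b i) (hb.le (Submodule.subset_span ⟨i, rfl⟩)), map_zero]
  have h2 : tr ((Nat.le_add_right (n + d₁) D).trans hle) w ∈ J ^ d' • (⊤ : Submodule R (F (n + d₁))) := by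
    have h3 := Submodule.mem_map_of_mem (f := tr ((Nat.le_add_right (n + d₁) D).trans hle)) hw
    rw [Submodule.map_smul''] at h3
    exact Submodule.smul_mono le_rfl le_top h3
  have h4 := hcd d' hd' (le_refl (n + d₁)) _ ⟨_, h1, hT.comp _ _ w⟩ h2
  rwa [hT.comp] at h4

end Groth.Agent.GE14
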