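import Groth.Agent.GE14.Support
import Groth.Agent.Algz14.SystemOps
import Groth.Agent.Algz14.Completion
import Groth.Agent.Algz14.SectTower

/-!
Coherent formal systems for two ideals with the same zero locus.
-/

set_option autoImplicit false
set_option linter.style.haveILetI false
set_option linter.unusedSectionVars false

universe u

open CategoryTheory CategoryTheory.Limits AlgebraicGeometry Opposite

noncomputable section

namespace Groth.Agent.GE14

open Formal27

variable {A : Type u} [CommRing A] {X : Scheme.{u}} [X.Over (Spec (CommRingCat.of A))]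

/-- `μ` bounds the exponents of `I` by those of `J` on quasi-coherent modules. -/
def IdealBound (X : Scheme.{u}) [X.Over (Spec (CommRingCat.of A))] (I J : Ideal A) (μ : ℕ → ℕ) : Prop :=
  Monotone μ ∧ (∀ n, n ≤ μ n) ∧ ∀ (n : ℕ) (M : X.Modules), M.IsQuasicoherent →
    Formal.KilledBy (J ^ (n + 1)) M → Formal.KilledBy (I ^ (μ n + 1)) M

theorem exists_idealBound_single [IsNoetherian X] {I J : Ideal A} (h : zI J X ⊆ zI I X) (k : ℕ) :
    ∃ m : ℕ, ∀ (M : X.Modules), M.IsQuasicoherent → Formal.KilledBy (J ^ k) M → Formal.KilledBy (I ^ m) M := by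
  classical
  obtain ⟨S, hS⟩ := Formal27.exists_cover (X := X)
  have hb : ∀ W : X.affineOpens, ∃ m : ℕ, (I.map (gi A X W.1)) ^ m ≤ (J.map (gi A X W.1)) ^ k := fun W => by
    haveI : IsNoetherianRing Γ(X, W.1) := IsLocallyNoetherian.component_noetherian W
    have hrad : I.map (gi A X W.1) ≤ ((J.map (gi A X W.1)) ^ k).radical := by
      rw [Ideal.radical_eq_sInf]
      refine le_sInf fun p hp => ?_
      haveI := hp.2
      let q : PrimeSpectrum Γ(X, W.1) := ⟨p, hp.2⟩
      have hx : W.2.fromSpec q ∈ W.1 := by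
        rw [← SetLike.mem_coe, ← W.2.range_fromSpec]
        exact ⟨q, rfl⟩
      have hq : W.2.primeIdealOf ⟨_, hx⟩ = q :=
        W.2.fromSpec.isOpenEmbedding.injective (W.2.fromSpec_primeIdealOf _)
      have h1 := h ((mem_zI_iff W.2 hx).2 (by
        rw [hq, PrimeSpectrum.mem_zeroLocus, SetLike.coe_subset_coe]
        rcases Nat.eq_zero_or_pos k with rfl | hk
        · exfalso
          rw [pow_zero, Ideal.one_eq_top] at hp
          exact hp.2.ne_top (top_le_iff.1 hp.1)
        · exact (Ideal.IsPrime.pow_le_iff hk.ne').1 hp.1))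
      rw [mem_zI_iff W.2 hx, hq, PrimeSpectrum.mem_zeroLocus, SetLike.coe_subset_coe] at h1
      exact h1
    exact Ideal.exists_pow_le_of_le_radical_of_fg hrad (IsNoetherian.noetherian _)
  choose f hf using hb
  refine ⟨S.sup f, fun M hM hk a ha => ?_⟩
  haveI := hM
  refine Formal27.eq_zero_of_cover _ (S : Set X.affineOpens) hS fun W hW x => ?_
  show gi A X W.1 a • x = 0
  have h1 : gi A X W.1 a ∈ (J ^ k).map (gi A X W.1) := by
    rw [Ideal.map_pow]
    refine hf W (Ideal.pow_le_pow_right (Finset.le_sup hW) ?_)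
    rw [← Ideal.map_pow]
    exact Ideal.mem_map_of_mem _ ha
  exact Algz14.smul_eq_zero_of_map _ _ x
    (fun b hb => congrArg (fun φ => (Scheme.Modules.Hom.app φ W.1) x) (hk b hb)) h1

theorem exists_idealBound [IsNoetherian X] {I J : Ideal A} (h : zI J X ⊆ zI I X) :
    ∃ μ, IdealBound X I J μ := by
  choose f hf using fun n : ℕ => exists_idealBound_single (I := I) (J := J) h (n + 1)
  refine ⟨fun n => n + (Finset.range (n + 1)).sup f, fun n m hnm => ?_, fun n => Nat.le_add_right _ _,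
    fun n M hM hk => Algz14.killedBy_of_le (Ideal.pow_le_pow_right ?_) (hf n M hM hk)⟩
  · exact Nat.add_le_add hnm (Finset.sup_mono (Finset.range_mono (by omega)))
  · exact le_add_right ((Finset.le_sup (Finset.self_mem_range_succ n)).trans (Nat.le_add_left _ _))

variable (I J : Ideal A) {μ : ℕ → ℕ} (hμ : IdealBound X I J μ)

theorem killed_modPow (n : ℕ) (M : X.Modules) : Formal.KilledBy (I ^ n) (Formal.modPow I n M) := fun a ha => by
  haveI : Epi (Formal.modPowπ I n M) := inferInstanceAs (Epi (cokernel.π _))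
  rw [← cancel_epi (Formal.modPowπ I n M), comp_zero, smulMod_comp]
  exact smulMod_modPowπ I n M ha

theorem comp_eq_zero_of_killed {K : Ideal A} {M Z : X.Modules} (g : M ⟶ Z) (hZ : Formal.KilledBy K Z) :
    ∀ a ∈ K, Formal.smulMod A M a ≫ g = 0 := fun a ha => by
  rw [← smulMod_comp, hZ a ha, comp_zero]

variable (G : ℕᵒᵖ ⥤ X.Modules)

/-- The transition maps of the changed system. -/
def chgMap {n m : ℕ} (h : n ≤ m) :
    Formal.modPow J (m + 1) (G.obj (op (μ m))) ⟶ Formal.modPow J (n + 1) (G.obj (op (μ n))) :=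
  cokernel.desc _ (sysMap G (hμ.1 h) ≫ Formal.modPowπ J (n + 1) (G.obj (op (μ n))))
    (smulFamily_comp_eq_zero _ fun a ha => comp_eq_zero_of_killed _
      (killed_modPow J (n + 1) _) a (Ideal.pow_le_pow_right (by omega) ha))

theorem π_chgMap {n m : ℕ} (h : n ≤ m) :
    Formal.modPowπ J (m + 1) (G.obj (op (μ m))) ≫ chgMap I J hμ G h =
      sysMap G (hμ.1 h) ≫ Formal.modPowπ J (n + 1) (G.obj (op (μ n))) := cokernel.π_desc _ _ _

/-- The changed system. -/
def chg : ℕᵒᵖ ⥤ X.Modules where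
  obj n := Formal.modPow J (n.unop + 1) (G.obj (op (μ n.unop)))
  map f := chgMap I J hμ G (leOfHom f.unop)
  map_id n := by
    haveI : Epi (Formal.modPowπ J (n.unop + 1) (G.obj (op (μ n.unop)))) := inferInstanceAs (Epi (cokernel.π _))
    refine (cancel_epi (Formal.modPowπ J (n.unop + 1) (G.obj (op (μ n.unop))))).1 ?_
    rw [π_chgMap, sysMap_self, Category.id_comp]
    exact (Category.comp_id _).symm
  map_comp {a b c} f g := by
    haveI : Epi (Formal.modPowπ J (a.unop + 1) (G.obj (op (μ a.unop)))) := inferInstanceAs (Epi (cokernel.π _))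
    refine (cancel_epi (Formal.modPowπ J (a.unop + 1) (G.obj (op (μ a.unop))))).1 ?_
    rw [π_chgMap, ← Category.assoc, π_chgMap, Category.assoc, π_chgMap, ← Category.assoc, sysMap_comp]

/-- The projections to the changed system. -/
def chgπ {n m : ℕ} (h : μ n ≤ m) : G.obj (op m) ⟶ (chg I J hμ G).obj (op n) :=
  sysMap G h ≫ Formal.modPowπ J (n + 1) (G.obj (op (μ n)))

theorem sysMap_chgπ {n l m : ℕ} (h : μ n ≤ l) (h' : l ≤ m) :
    sysMap G h' ≫ chgπ I J hμ G h = chgπ I J hμ G (h.trans h') :=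
  (Category.assoc _ _ _).symm.trans (congrArg (· ≫ _) (sysMap_comp G h h'))

theorem chgπ_map {n k m : ℕ} (h : n ≤ k) (hm : μ k ≤ m) :
    chgπ I J hμ G hm ≫ sysMap (chg I J hμ G) h = chgπ I J hμ G ((hμ.1 h).trans hm) :=
  (Category.assoc _ _ _).trans ((congrArg (_ ≫ ·) (π_chgMap I J hμ G h)).trans
    ((Category.assoc _ _ _).symm.trans (congrArg (· ≫ _) (sysMap_comp G (hμ.1 h) hm))))

variable {I G} (hG : Formal.IsCohFormal I G)

include hG in
theorem epi_chgπ {n m : ℕ} (h : μ n ≤ m) : Epi (chgπ I J hμ G h) := by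
  exact @epi_comp _ _ _ _ _ _ (Algz14.epi_sysMap hG h) _ coequalizer.π_epi

include hG in
theorem exists_factor_chgπ {n m : ℕ} (h : μ n ≤ m) {Z : X.Modules} [Z.IsQuasicoherent]
    (hZ : Formal.KilledBy (J ^ (n + 1)) Z) (g : G.obj (op m) ⟶ Z) : ∃ v, chgπ I J hμ G h ≫ v = g := by
  obtain ⟨v, hv⟩ := exists_factor_tr (Algz14.isQCohFormal hG) h g
    (comp_eq_zero_of_killed _ (hμ.2.2 n Z inferInstance hZ))
  refine ⟨cokernel.desc _ v (smulFamily_comp_eq_zero _ (comp_eq_zero_of_killed _ hZ)), ?_⟩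
  exact (Category.assoc _ _ _).trans ((congrArg (_ ≫ ·) (cokernel.π_desc _ _ _)).trans hv)

include hG in
theorem isCoh_chg [IsLocallyNoetherian X] (n : ℕ) : Coh.IsCoh ((chg I J hμ G).obj (op n)) :=
  (Algz14.isCohFormal_completion J _ (hG.1 (μ n))).1 n

include hG in
theorem isCohFormal_chg [IsLocallyNoetherian X] : Formal.IsCohFormal J (chg I J hμ G) := by
  refine ⟨isCoh_chg J hμ hG, fun n => killed_modPow J (n + 1) _, fun n => ?_⟩
  have hz : Formal.smulFamily (J ^ (n + 1)) ((chg I J hμ G).obj (op (n + 1))) ≫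
      sysMap (chg I J hμ G) (Nat.le_succ n) = 0 :=
    smulFamily_comp_eq_zero _ (comp_eq_zero_of_killed _ (killed_modPow J (n + 1) _))
  refine ⟨hz, ?_⟩
  let Q := Formal.modPow J (n + 1) ((chg I J hμ G).obj (op (n + 1)))
  haveI := (isCoh_chg J hμ hG (n + 1)).1
  haveI : Q.IsQuasicoherent := isQuasicoherent_modPow _ J (n + 1)
  haveI : Epi (sysMap (chg I J hμ G) (Nat.le_succ n)) :=
    haveI := epi_chgπ J hμ hG (n := n) (hμ.1 (Nat.le_succ n))
    epi_of_epi_fac (chgπ_map I J hμ G (Nat.le_succ n) le_rfl)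
  obtain ⟨v, hv⟩ := exists_factor_chgπ J hμ hG (hμ.1 (Nat.le_succ n)) (killed_modPow J (n + 1) _)
    (chgπ I J hμ G (le_refl (μ (n + 1))) ≫ Formal.modPowπ J (n + 1) ((chg I J hμ G).obj (op (n + 1))))
  refine Formal27.isIso_desc_of_factor _ _ hz v ?_
  haveI := epi_chgπ J hμ hG (n := n + 1) (le_refl (μ (n + 1)))
  refine (cancel_epi (chgπ I J hμ G (le_refl (μ (n + 1))))).1 ?_
  exact (Category.assoc _ _ _).symm.trans ((congrArg (· ≫ v) (chgπ_map I J hμ G (Nat.le_succ n) le_rfl)).trans hv)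

/-- The change of ideal as a functor. -/
def chgFun [IsLocallyNoetherian X] : Formal2.CohFormalCat I X ⥤ Formal2.CohFormalCat J X where
  obj G := ⟨chg I J hμ G.obj, isCohFormal_chg J hμ G.property⟩
  map {G H} φ := ⟨
    { app := fun n => Algz14.modPowMap (n.unop + 1) (φ.hom.app (op (μ n.unop)))
      naturality := fun n k f => by
        haveI : Epi (Formal.modPowπ J (n.unop + 1) (G.obj.obj (op (μ n.unop)))) :=
          inferInstanceAs (Epi (cokernel.π _))
        refine (cancel_epi (Formal.modPowπ J (n.unop + 1) (G.obj.obj (op (μ n.unop))))).1 ?_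
        refine ((Category.assoc _ _ _).symm.trans (congrArg (· ≫ _) (π_chgMap I J hμ G.obj (leOfHom f.unop)))).trans ?_
        refine (Category.assoc _ _ _).trans ((congrArg (_ ≫ ·) (Algz14.modPowπ_map (I := J) (k.unop + 1) _)).trans ?_)
        refine Eq.trans ?_ ((Category.assoc _ _ _).symm.trans
          ((congrArg (· ≫ _) (Algz14.modPowπ_map (I := J) (n.unop + 1) _)).trans (Category.assoc _ _ _))).symm
        refine Eq.trans ?_ (congrArg (_ ≫ ·) (π_chgMap I J hμ H.obj (leOfHom f.unop))).symm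
        exact (Category.assoc _ _ _).symm.trans ((congrArg (· ≫ _)
          (φ.hom.naturality (homOfLE (hμ.1 (leOfHom f.unop))).op)).trans (Category.assoc _ _ _)) }⟩
  map_id G := ObjectProperty.hom_ext _ (NatTrans.ext (funext fun n => Algz14.modPowMap_id _ _))
  map_comp f g := ObjectProperty.hom_ext _ (NatTrans.ext (funext fun n => Algz14.modPowMap_comp _ _ _))

theorem chgπ_natural [IsLocallyNoetherian X] {G H : Formal2.CohFormalCat I X} (φ : G ⟶ H) {n m : ℕ} (h : μ n ≤ m) :
    φ.hom.app (op m) ≫ chgπ I J hμ H.obj h =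
      chgπ I J hμ G.obj h ≫ ((chgFun J hμ).map φ).hom.app (op n) := by
  refine Eq.trans ?_ (Category.assoc _ _ _).symm
  refine Eq.trans ?_ (congrArg (_ ≫ ·) (Algz14.modPowπ_map (I := J) (n + 1) (φ.hom.app (op (μ n))))).symm
  refine (Category.assoc _ _ _).symm.trans ((congrArg (· ≫ _) (φ.hom.naturality (homOfLE h).op).symm).trans ?_)
  exact Category.assoc _ _ _

variable {ν : ℕ → ℕ} (hν : IdealBound X J I ν)

/-- The composite of two changes. -/
def chgχ {G : ℕᵒᵖ ⥤ X.Modules} {n m : ℕ} (h : μ (ν n) ≤ m) :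
    G.obj (op m) ⟶ (chg J I hν (chg I J hμ G)).obj (op n) :=
  chgπ I J hμ G h ≫ chgπ J I hν (chg I J hμ G) (le_refl (ν n))

theorem chgχ_map {n k m : ℕ} (h : n ≤ k) (hm : μ (ν k) ≤ m) :
    chgχ J hμ hν (G := G) hm ≫ sysMap (chg J I hν (chg I J hμ G)) h =
      chgχ J hμ hν ((hμ.1 (hν.1 h)).trans hm) := by
  refine (Category.assoc _ _ _).trans ((congrArg (_ ≫ ·) (chgπ_map J I hν (chg I J hμ G) h le_rfl)).trans ?_)
  refine (congrArg (_ ≫ ·) (sysMap_chgπ J I hν (chg I J hμ G) (le_refl (ν n)) (hν.1 h)).symm).trans ?_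
  exact (Category.assoc _ _ _).symm.trans (congrArg (· ≫ _) (chgπ_map I J hμ G (hν.1 h) hm))

include hG in
theorem exists_iso_chgχ [IsLocallyNoetherian X] (n : ℕ) :
    ∃ e : (chg J I hν (chg I J hμ G)).obj (op n) ≅ G.obj (op n), ∀ (m : ℕ) (h : μ (ν n) ≤ m),
      chgχ J hμ hν h ≫ e.hom = sysMap G (((hν.2.1 n).trans (hμ.2.1 (ν n))).trans h) := by
  let m₀ := μ (ν n)
  have h0 : n ≤ m₀ := (hν.2.1 n).trans (hμ.2.1 (ν n))
  have hG' := isCohFormal_chg J hμ hG
  haveI : ((chg J I hν (chg I J hμ G)).obj (op n)).IsQuasicoherent := (isCoh_chg I hν hG' n).1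
  haveI := (hG.1 n).1
  haveI := epi_chgπ J hμ hG (n := ν n) (le_refl m₀)
  haveI := epi_chgπ I hν hG' (n := n) (le_refl (ν n))
  haveI : Epi (chgχ J hμ hν (G := G) (le_refl m₀)) := epi_comp _ _
  haveI := Algz14.epi_sysMap hG h0
  obtain ⟨a, ha⟩ := exists_factor_chgπ J hμ hG (n := ν n) (le_refl m₀) (hν.2.2 n _ inferInstance (hG.2.1 n))
    (sysMap G h0)
  obtain ⟨a', ha'⟩ := exists_factor_chgπ I hν hG' (n := n) (le_refl (ν n)) (hG.2.1 n) a
  have hhom : chgχ J hμ hν (le_refl m₀) ≫ a' = sysMap G h0 :=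
    (Category.assoc _ _ _).trans ((congrArg (_ ≫ ·) ha').trans ha)
  obtain ⟨b, hb⟩ := exists_factor_tr (Algz14.isQCohFormal hG) h0 (chgχ J hμ hν (le_refl m₀))
    (comp_eq_zero_of_killed _ (killed_modPow I (n + 1) _))
  refine ⟨⟨a', b, ?_, ?_⟩, fun m h => ?_⟩
  · refine (cancel_epi (chgχ J hμ hν (G := G) (le_refl m₀))).1 ?_
    rw [reassoc_of% hhom, hb, Category.comp_id]
  · refine (cancel_epi (sysMap G h0)).1 ?_
    rw [reassoc_of% hb, hhom, Category.comp_id]
  · show chgχ J hμ hν h ≫ a' = _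
    have e : sysMap G h ≫ chgχ J hμ hν (le_refl m₀) = chgχ J hμ hν h :=
      (Category.assoc _ _ _).symm.trans (congrArg (· ≫ _) (sysMap_chgπ I J hμ G le_rfl h))
    rw [← e, Category.assoc, hhom, sysMap_comp]

include hG in
theorem exists_iso_round [IsLocallyNoetherian X] :
    ∃ e : chg J I hν (chg I J hμ G) ≅ G, ∀ (n m : ℕ) (h : μ (ν n) ≤ m),
      chgχ J hμ hν h ≫ e.hom.app (op n) = sysMap G (((hν.2.1 n).trans (hμ.2.1 (ν n))).trans h) := by
  choose e he using exists_iso_chgχ J hμ hG hν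
  refine ⟨NatIso.ofComponents (fun n => e n.unop) (fun {a b} f => ?_), fun n m h => he n m h⟩
  obtain ⟨k⟩ := a
  obtain ⟨n⟩ := b
  rw [show f = (homOfLE (leOfHom f.unop)).op from Subsingleton.elim _ _]
  have h : n ≤ k := leOfHom f.unop
  haveI : Epi (chgχ J hμ hν (G := G) (le_refl (μ (ν k)))) :=
    haveI := epi_chgπ J hμ hG (n := ν k) (le_refl (μ (ν k)))
    haveI := epi_chgπ I hν (isCohFormal_chg J hμ hG) (n := k) (le_refl (ν k))
    epi_comp _ _
  refine (cancel_epi (chgχ J hμ hν (G := G) (le_refl (μ (ν k))))).1 ?_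
  refine ((Category.assoc _ _ _).symm.trans (congrArg (· ≫ _) (chgχ_map J hμ hν (G := G) h le_rfl))).trans ?_
  refine (he n _ _).trans ?_
  refine Eq.trans ?_ ((Category.assoc _ _ _).symm.trans (congrArg (· ≫ _) (he k _ le_rfl))).symm
  exact (sysMap_comp G _ _).symm

theorem nonempty_round_iso [IsLocallyNoetherian X] :
    Nonempty (chgFun (I := I) J hμ ⋙ chgFun I hν ≅ 𝟭 (Formal2.CohFormalCat I X)) := by
  choose e he using fun G : Formal2.CohFormalCat I X => exists_iso_round J hμ G.property hν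
  refine ⟨NatIso.ofComponents (fun G => ObjectProperty.isoMk _ (e G)) (fun {G H} φ => ?_)⟩
  refine ObjectProperty.hom_ext _ (NatTrans.ext (funext fun ⟨n⟩ => ?_))
  let m₀ := μ (ν n)
  haveI : Epi (chgχ J hμ hν (G := G.obj) (le_refl m₀)) :=
    haveI := epi_chgπ J hμ G.property (n := ν n) (le_refl m₀)
    haveI := epi_chgπ I hν (isCohFormal_chg J hμ G.property) (n := n) (le_refl (ν n))
    epi_comp _ _
  refine (cancel_epi (chgχ J hμ hν (G := G.obj) (le_refl m₀))).1 ?_
  have h1 : φ.hom.app (op m₀) ≫ chgχ J hμ hν (le_refl m₀) =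
      chgχ J hμ hν (le_refl m₀) ≫ ((chgFun I hν).map ((chgFun J hμ).map φ)).hom.app (op n) := by
    refine (Category.assoc _ _ _).symm.trans ?_
    refine (congrArg (· ≫ _) (chgπ_natural J hμ φ (le_refl m₀))).trans ?_
    refine (Category.assoc _ _ _).trans ?_
    refine (congrArg (_ ≫ ·) (chgπ_natural I hν ((chgFun J hμ).map φ) (le_refl (ν n)))).trans ?_
    exact (Category.assoc _ _ _).symm
  refine ((Category.assoc _ _ _).symm.trans (congrArg (· ≫ _) h1.symm)).trans ?_
  refine (Category.assoc _ _ _).trans ((congrArg (_ ≫ ·) (he H n _ le_rfl)).trans ?_)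
  refine Eq.trans ?_ ((Category.assoc _ _ _).symm.trans (congrArg (· ≫ _) (he G n _ le_rfl))).symm
  exact (φ.hom.naturality _).symm

/-- Two ideals with the same zero locus define equivalent categories of coherent formal systems. -/
theorem nonempty_equivalence [IsNoetherian X] {I J : Ideal A} (h : zI I X = zI J X) :
    Nonempty (Formal2.CohFormalCat I X ≌ Formal2.CohFormalCat J X) := by
  obtain ⟨μ, hμ⟩ := exists_idealBound (X := X) (I := I) (J := J) h.ge
  obtain ⟨ν, hν⟩ := exists_idealBound (X := X) (I := J) (J := I) h.le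
  obtain ⟨e₁⟩ := nonempty_round_iso J hμ hν
  obtain ⟨e₂⟩ := nonempty_round_iso I hν hμ
  exact ⟨CategoryTheory.Equivalence.mk _ _ e₁.symm e₂⟩

theorem zI_eq_preimage (I : Ideal A) :
    zI I X = (fun x : X => (X ↘ Spec (CommRingCat.of A)) x) ⁻¹' PrimeSpectrum.zeroLocus (I : Set A) := by
  ext x
  have he : ∀ a : A, X.basicOpen (gi A X ⊤ a) =
      (X ↘ Spec (CommRingCat.of A)) ⁻¹ᵁ (PrimeSpectrum.basicOpen a : (Spec (CommRingCat.of A)).Opens) := fun a => by
    refine Eq.trans ?_ (congrArg ((X ↘ Spec (CommRingCat.of A)) ⁻¹ᵁ ·) (basicOpen_eq_of_affine (R := CommRingCat.of A) a))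
    refine Eq.trans ?_ (Scheme.preimage_basicOpen (X ↘ Spec (CommRingCat.of A)) _).symm
    refine congrArg _ ?_
    show (X.presheaf.map _).hom (Coh.toGlobal (X ↘ Spec (CommRingCat.of A)) a) = _
    simp [Coh.toGlobal]
    rfl
  exact ⟨fun h a ha => by_contra fun hb => h a ha (by rw [he]; exact hb),
    fun h a ha hb => by rw [he] at hb; exact hb (h ha)⟩

end Groth.Agent.GE14
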