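import Groth.Agent.GE14.LocalFF
import Groth.Agent.CAlg1.Complete

/-!
Base change to a completion: pulled back sections of modules killed by a power of the ideal.
-/

set_option autoImplicit false
set_option linter.style.haveILetI false
set_option linter.unusedSectionVars false
set_option backward.isDefEq.respectTransparency.types false
set_option maxSynthPendingDepth 6

universe u

open CategoryTheory CategoryTheory.Limits AlgebraicGeometry Opposite TopologicalSpace TensorProduct

noncomputable section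

namespace Groth.Agent.GE14

open Formal27 Var76.LineBundle Var76.ZeroScheme Amp73

/-- A Noetherian ring has a completion with quotient maps. -/
theorem exists_completion_ring (R : Type u) [CommRing R] [IsNoetherianRing R] (J : Ideal R) :
    ∃ (B : Type u) (_ : CommRing B) (_ : IsNoetherianRing B) (φ : R →+* B), IsAdicComplete (J.map φ) B ∧
      ∀ n, ∃ θ : B →+* R ⧸ J ^ n, θ.comp φ = Ideal.Quotient.mk (J ^ n) ∧ ∀ b, θ b = 0 → b ∈ (J ^ n).map φ := by
  have hJ : J.FG := IsNoetherian.noetherian J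
  refine ⟨AdicCompletion J R, inferInstance, CAlg1.isNoetherianRing_adicCompletion J hJ,
    algebraMap R _, AdicCompletion.isAdicComplete_self J hJ, fun n => ⟨(AdicCompletion.evalₐ J n).toRingHom,
      RingHom.ext fun r => (AdicCompletion.evalₐ J n).commutes r, fun b hb => ?_⟩⟩
  have h2 : AdicCompletion.eval J R n b = 0 := by
    rw [← AdicCompletion.factor_evalₐ_eq_eval J b (fun x hx => by simpa using hx),
      show AdicCompletion.evalₐ J n b = 0 from hb, map_zero]
  have h3 : b ∈ J ^ n • (⊤ : Submodule R (AdicCompletion J R)) := by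
    rw [AdicCompletion.pow_smul_top_eq_ker_eval hJ]; exact h2
  rwa [Ideal.smul_top_eq_map] at h3

variable {R B : Type u} [CommRing R] [CommRing B] {J : Ideal R} (φ : R →+* B)

/-- The base change of `Z` along `φ`. -/
abbrev Zc (Z : Scheme.{u}) [Z.Over (Spec (CommRingCat.of R))] : Scheme.{u} :=
  letI := φ.toAlgebra; FF71.bc R Z B

section Inj

variable {Z : Scheme.{u}} [Z.Over (Spec (CommRingCat.of R))] {n : ℕ} (θ : B →+* R ⧸ J ^ n)
  (hθ : θ.comp φ = Ideal.Quotient.mk (J ^ n))

include hθ in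
/-- Sections killed by `J ^ n` inject into the base change. -/
theorem pullS_bc_injective (M : Z.Modules) [M.IsQuasicoherent] (hM : Formal.KilledBy (J ^ n) M) :
    letI := φ.toAlgebra
    Function.Injective (pullS (FF71.bcπ R Z B) M ⊤) := by
  letI := φ.toAlgebra
  let q := FF71.bcπ R Z B
  have hloc : ∀ V : Z.Opens, IsAffineOpen V → Function.Injective (pullS q M V) := by
    intro V hV
    letI := (FF71.rA R Z V).toAlgebra
    let a : Ideal Γ(Z, V) := (J ^ n).map (gi R Z V)
    let κ : R ⧸ J ^ n →+* Γ(Z, V) ⧸ a := Ideal.quotientMap a (gi R Z V) Ideal.le_comap_map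
    obtain ⟨e, he, -⟩ := FF71.exists_bc_equiv R Z B hV
    let θB : B →ₐ[R] Γ(Z, V) ⧸ a :=
      { κ.comp θ with
        commutes' := fun r => by
          show κ (θ (φ r)) = _
          rw [show θ (φ r) = Ideal.Quotient.mk _ r from RingHom.congr_fun hθ r]
          rfl }
    let L : Γ(Z, V) ⊗[R] B →ₐ[R] Γ(Z, V) ⧸ a :=
      Algebra.TensorProduct.lift (Ideal.Quotient.mkₐ R a) θB fun _ _ => Commute.all _ _
    refine pullS_injective_of_retraction q M hV (hV.preimage q) a (L.toRingHom.comp e.symm.toRingHom)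
      (fun r => ?_) (fun r hr m => ?_)
    · show L (e.symm (q.app V r)) = _
      rw [← he, RingEquiv.symm_apply_apply]
      simp [L]
    · exact Algz14.smul_eq_zero_of_map _ _ m (fun b hb =>
        congrArg (fun ψ => (Scheme.Modules.Hom.app ψ V) m) (hM b hb)) hr
  intro x y hxy
  refine eq_of_locally M _ _ fun p _ => ?_
  obtain ⟨_, ⟨V, hV, rfl⟩, hpV, -⟩ :=
    Z.isBasis_affineOpens.exists_subset_of_mem_open (Set.mem_univ p) isOpen_univ
  refine ⟨V, le_top, hpV, hloc V hV ?_⟩
  rw [← res_pullS, ← res_pullS, hxy]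

end Inj

section Base

variable {n : ℕ} (θ : B →+* R ⧸ J ^ n) (hθ : θ.comp φ = Ideal.Quotient.mk (J ^ n))

theorem gi_eq_ΓSpecIso (r : R) :
    letI : (Spec (CommRingCat.of R)).Over (Spec (CommRingCat.of R)) := ⟨𝟙 _⟩
    gi R (Spec (CommRingCat.of R)) ⊤ r = (Scheme.ΓSpecIso (CommRingCat.of R)).inv r := by
  letI : (Spec (CommRingCat.of R)).Over (Spec (CommRingCat.of R)) := ⟨𝟙 _⟩
  show ((Spec (CommRingCat.of R)).presheaf.map _).hom _ = _
  simp only [Coh.toGlobal, RingHom.coe_comp, Function.comp_apply, homOfLE_refl, op_id,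
    CategoryTheory.Functor.map_id, CommRingCat.hom_id, RingHom.id_apply]
  show ((𝟙 (Spec (CommRingCat.of R)) : Spec (CommRingCat.of R) ⟶ _).appTop) _ = _
  rw [Scheme.Hom.id_appTop]
  rfl

theorem app_ΓSpecIso_inv (r : R) :
    (Spec.map (CommRingCat.ofHom φ)).app ⊤ ((Scheme.ΓSpecIso (CommRingCat.of R)).inv r) =
      (Scheme.ΓSpecIso (CommRingCat.of B)).inv (φ r) :=
  (congrArg (fun t => t.hom r) (Scheme.ΓSpecIso_inv_naturality (CommRingCat.ofHom φ))).symm

include hθ in
theorem pullS_specMap_injective (M : (Spec (CommRingCat.of R)).Modules) [M.IsQuasicoherent]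
    (hM : @Formal.KilledBy R _ (Spec (CommRingCat.of R)) ⟨𝟙 _⟩ (J ^ n) M) :
    Function.Injective (pullS (Spec.map (CommRingCat.ofHom φ)) M ⊤) := by
  letI : (Spec (CommRingCat.of R)).Over (Spec (CommRingCat.of R)) := ⟨𝟙 _⟩
  let a : Ideal Γ(Spec (CommRingCat.of R), (⊤ : (Spec (CommRingCat.of R)).Opens)) := (J ^ n).map (gi R _ ⊤)
  let κ : R ⧸ J ^ n →+* Γ(Spec (CommRingCat.of R), (⊤ : (Spec (CommRingCat.of R)).Opens)) ⧸ a :=
    Ideal.quotientMap a (gi R _ ⊤) Ideal.le_comap_map
  refine pullS_injective_of_retraction _ M (isAffineOpen_top _) (isAffineOpen_top _) a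
    (κ.comp (θ.comp (Scheme.ΓSpecIso (CommRingCat.of B)).hom.hom)) (fun r => ?_) (fun r hr m => ?_)
  · obtain ⟨r, rfl⟩ := (ConcreteCategory.bijective_of_isIso (Scheme.ΓSpecIso (CommRingCat.of R)).inv).2 r
    rw [← gi_eq_ΓSpecIso]
    show κ (θ ((Scheme.ΓSpecIso (CommRingCat.of B)).hom _)) = _
    rw [gi_eq_ΓSpecIso, app_ΓSpecIso_inv, Iso.inv_hom_id_apply,
      show θ (φ r) = Ideal.Quotient.mk _ r from RingHom.congr_fun hθ r, ← gi_eq_ΓSpecIso]
    rfl
  · exact Algz14.smul_eq_zero_of_map _ _ m (fun b hb =>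
      congrArg (fun ψ => (Scheme.Modules.Hom.app ψ ⊤) m) (hM b hb)) hr

include hθ in
theorem pullS_specMap_surjective (hker : ∀ b, θ b = 0 → b ∈ (J ^ n).map φ)
    (M : (Spec (CommRingCat.of R)).Modules) [M.IsQuasicoherent]
    (hM : @Formal.KilledBy B _ (Spec (CommRingCat.of B)) ⟨𝟙 _⟩ ((J ^ n).map φ)
      ((Scheme.Modules.pullback (Spec.map (CommRingCat.ofHom φ))).obj M)) :
    Function.Surjective (pullS (Spec.map (CommRingCat.ofHom φ)) M ⊤) := by
  letI : (Spec (CommRingCat.of B)).Over (Spec (CommRingCat.of B)) := ⟨𝟙 _⟩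
  refine pullS_surjective_of_killed _ M (isAffineOpen_top _) (isAffineOpen_top _) fun b => ?_
  obtain ⟨b, rfl⟩ := (ConcreteCategory.bijective_of_isIso (Scheme.ΓSpecIso (CommRingCat.of B)).inv).2 b
  obtain ⟨r, hr⟩ := Ideal.Quotient.mk_surjective (θ b)
  refine ⟨(Scheme.ΓSpecIso (CommRingCat.of R)).inv r, fun z => ?_⟩
  rw [app_ΓSpecIso_inv]
  have hmem : b - φ r ∈ (J ^ n).map φ := hker _ (by
    rw [map_sub, show θ (φ r) = Ideal.Quotient.mk _ r from RingHom.congr_fun hθ r, hr, sub_self])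
  let z' : Γ((Scheme.Modules.pullback (Spec.map (CommRingCat.ofHom φ))).obj M,
      (⊤ : (Spec (CommRingCat.of B)).Opens)) := z
  have h0 : gi B (Spec (CommRingCat.of B)) ⊤ (b - φ r) • z' = 0 :=
    congrArg (fun ψ => (Scheme.Modules.Hom.app ψ ⊤) z') (hM _ hmem)
  rw [gi_eq_ΓSpecIso, map_sub] at h0
  exact sub_eq_zero.1 ((sub_smul _ _ _).symm.trans h0)

end Base

end Groth.Agent.GE14
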