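import Groth.Agent.GE14.ProjExist
import Groth.Agent.GSS45.ClosedHom
import Groth.Agent.Formal27.Pullback
import Groth.Agent.ZClos93.Flat

/-!
Formal systems killed by the ideal of a closed immersion.
-/

set_option autoImplicit false
set_option linter.style.haveILetI false
set_option linter.unusedSectionVars false
set_option backward.isDefEq.respectTransparency.types false

universe u

open CategoryTheory CategoryTheory.Limits AlgebraicGeometry Opposite

noncomputable section

namespace Groth.Agent.GE14

variable {A : Type u} [CommRing A] [IsNoetherianRing A] {I : Ideal A} {Z X : Scheme.{u}}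
  [X.Over (Spec (CommRingCat.of A))] [Z.Over (Spec (CommRingCat.of A))]
  [QuasiCompact (X ↘ Spec (CommRingCat.of A))]
  [IsProper (Z ↘ Spec (CommRingCat.of A))]
  [AlgebraicGeometry.IsNoetherian X] (i : Z ⟶ X) [IsClosedImmersion i]
  (hi : i ≫ (X ↘ Spec (CommRingCat.of A)) = Z ↘ Spec (CommRingCat.of A))

theorem killed_pushforward (M : Z.Modules) : ClSub.KilledByIdeal i.ker ((Scheme.Modules.pushforward i).obj M) :=
  fun U a ha m => GSS45.Descend.isKilled_pushforward i M U a ha m

include hi in
theorem exists_algebraization_closed {G : ℕᵒᵖ ⥤ X.Modules} (hG : Formal.IsCohFormal I G)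
    (hk : ∀ n : ℕ, ClSub.KilledByIdeal i.ker (G.obj (op n)))
    (hZ : ∀ G' : ℕᵒᵖ ⥤ Z.Modules, Formal.IsCohFormal I G' →
      ∃ M : Z.Modules, Coh.IsCoh M ∧ Nonempty (Formal.completion I M ≅ G')) :
    ∃ M : X.Modules, Coh.IsCoh M ∧ ClSub.KilledByIdeal i.ker M ∧ Nonempty (Formal.completion I M ≅ G) := by
  obtain ⟨M', hM', ⟨e⟩⟩ := hZ _ (Formal27.isCohFormal_pullback i hi G hG
    fun n => ZClos93.isCoh_pullback i _ (hG.1 n))
  haveI := hM'.1
  let M := (Coh.push i).obj M'
  have hM : Coh.IsCoh M := QC70.isCoh_pushforward i M' hM'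
  haveI := hM.1
  refine ⟨M, hM, killed_pushforward i M', ⟨?_⟩⟩
  let adj := Scheme.Modules.pullbackPushforwardAdjunction i
  haveI hu : ∀ n : ℕᵒᵖ, IsIso (adj.unit.app (G.obj n)) := fun n => by
    have := GSS45.ClosedHom.full_pushforward i
    have := QC70.faithful_pushforward i
    exact adj.isIso_unit_app_of_iso (GSS45.Descend.descIso (show GSS45.Descend.IsKilled i (G.obj n) from
      fun U a ha s => hk n.unop U a ha s)).symm
  let e₁ : G ≅ (G ⋙ Scheme.Modules.pullback i) ⋙ Scheme.Modules.pushforward i :=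
    NatIso.ofComponents (fun n => @asIso _ _ _ _ (adj.unit.app (G.obj n)) (hu n))
      (fun f => adj.unit.naturality (G.map f))
  have hred : ∀ n, IsIso (FF52.redHom i hi I M' (Iso.refl M) n) := FF52.isIso_redHom i hi I M' (Iso.refl M)
  let e₂ : Formal.completion I M ≅ Formal.completion I M' ⋙ Scheme.Modules.pushforward i :=
    NatIso.ofComponents (fun n => @asIso _ _ _ _ (FF52.redHom i hi I M' (Iso.refl M) (n.unop + 1)) (hred _)) (fun {m n} f => by
      obtain ⟨m⟩ := m
      obtain ⟨n⟩ := n
      rw [show f = (homOfLE (leOfHom f.unop)).op from Subsingleton.elim _ _]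
      haveI : Epi (Formal.modPowπ I (m + 1) M) := inferInstanceAs (Epi (cokernel.π _))
      refine (cancel_epi (Formal.modPowπ I (m + 1) M)).1 ?_
      refine (Category.assoc _ _ _).symm.trans ((congrArg (· ≫ _) (Algz14.completion_map_π M (leOfHom f.unop))).trans ?_)
      refine (FF52.modPowπ_redHom i hi I M' (Iso.refl M) (n + 1)).trans ?_
      refine Eq.trans ?_ (Category.assoc _ _ _)
      refine Eq.trans ?_ (congrArg (· ≫ _) (FF52.modPowπ_redHom i hi I M' (Iso.refl M) (m + 1))).symm
      refine Eq.trans ?_ (Category.assoc _ _ _).symm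
      refine congrArg (_ ≫ ·) (Eq.trans ?_ ((Scheme.Modules.pushforward i).map_comp _ _))
      exact congrArg (Scheme.Modules.pushforward i).map (Algz14.completion_map_π M' (leOfHom f.unop)).symm)
  exact e₂ ≪≫ Functor.isoWhiskerRight e (Scheme.Modules.pushforward i) ≪≫ e₁.symm

end Groth.Agent.GE14
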