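import Groth.Agent.GE14.CdOne
import Groth.Agent.Algz14.SectTower
import Groth.Agent.Algz14.Pro
import Groth.Agent.Crv77.HH
import Groth.Agent.QC70.CohOps
import Groth.Prelude.Def_Formal2

/-!
Compatible families of cohomology classes vanishing at a deep stage are multiples, in cohomological dimension one.
-/

set_option autoImplicit false
set_option linter.style.haveILetI false
set_option linter.unusedSectionVars false
set_option backward.isDefEq.respectTransparency.types false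

universe u

open CategoryTheory CategoryTheory.Limits AlgebraicGeometry Opposite

noncomputable section

namespace Groth.Agent.GE14

open Formal27 Algz14

variable {A : Type u} [CommRing A] {X : Scheme.{u}} [X.Over (Spec (CommRingCat.of A))] {I : Ideal A}

theorem smulMod_sum (M : X.Modules) {r : ℕ} (a : Fin r → A) :
    Formal.smulMod A M (∑ j, a j) = ∑ j, Formal.smulMod A M (a j) :=
  map_sum (⟨⟨fun b => Formal.smulMod A M b, smulMod_zero M⟩, smulMod_add M⟩ : A →+ (M ⟶ M)) a Finset.univ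

theorem hmap_smulMod (M : X.Modules) (a : A) (p : ℕ) (x : Coh.HH X M p) :
    Crv77.hmap A (Formal.smulMod A M a) p x = a • x := rfl

theorem hmap_add_apply {M N : X.Modules} (φ ψ : M ⟶ N) (p : ℕ) (x : Coh.HH X M p) :
    Crv77.hmap A (φ + ψ) p x = Crv77.hmap A φ p x + Crv77.hmap A ψ p x := by
  show Sheaf.H.map ((Crv77.toAbF X).map (φ + ψ)) p x = _
  rw [Functor.map_add, Sheaf.H.map_add_apply]
  rfl

theorem hmap_sum {M N : X.Modules} {r : ℕ} (φ : Fin r → (M ⟶ N)) (p : ℕ) (x : Coh.HH X M p) :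
    Crv77.hmap A (∑ j, φ j) p x = ∑ j, Crv77.hmap A (φ j) p x :=
  map_sum (AddMonoidHom.mk' (fun χ : M ⟶ N => Crv77.hmap A χ p x) fun χ χ' => hmap_add_apply χ χ' p x) φ Finset.univ

theorem gi_smul_app {M N : X.Modules} (a : A) (φ : M ⟶ N) (W : X.Opens) (z : Γ(M, W)) :
    (Formal.smulMod A M a ≫ φ).app W z = gi A X W a • φ.app W z :=
  (congrArg (φ.app W) (smulMod_app M a W z)).trans (Scheme.Modules.Hom.app_smul φ (gi A X W a) z)

theorem hδ_natural' {S T : ShortComplex X.Modules} (hS : S.ShortExact) (hT : T.ShortExact) (φ : S ⟶ T) (n : ℕ)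
    (x : Coh.HH X S.X₃ n) :
    Crv77.hδ A hT n (Crv77.hmap A φ.τ₃ n x) = Crv77.hmap A φ.τ₁ (n + 1) (Crv77.hδ A hS n x) := by
  show Abelian.Ext.comp (Abelian.Ext.comp x _ (add_zero n)) (Crv77.abComplex_shortExact hT).extClass rfl =
    Abelian.Ext.comp (Abelian.Ext.comp x (Crv77.abComplex_shortExact hS).extClass rfl) _ (add_zero (n + 1))
  rw [Abelian.Ext.comp_assoc_of_second_deg_zero, Abelian.Ext.comp_assoc_of_third_deg_zero]
  exact congrArg (fun t => Abelian.Ext.comp x t rfl) (ShortComplex.ShortExact.extClass_naturality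
    (Crv77.abComplex_shortExact hS) (Crv77.abComplex_shortExact hT) ((Crv77.toAbF X).mapShortComplex.map φ)).symm

variable {F : ℕᵒᵖ ⥤ X.Modules}

/-- The kernels of the transitions to a fixed term. -/
abbrev deepKer (F : ℕᵒᵖ ⥤ X.Modules) {c₀ N : ℕ} (h : c₀ ≤ N) : X.Modules := kernel (sysMap F h)

theorem deepKer_shortExact (hF : Formal.IsCohFormal I F) {c₀ N : ℕ} (h : c₀ ≤ N) :
    (ShortComplex.mk (kernel.ι (sysMap F h)) (sysMap F h) (kernel.condition _)).ShortExact :=
  { exact := ShortComplex.exact_of_f_is_kernel _ (kernelIsKernel _)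
    mono_f := (inferInstance : Mono (kernel.ι (sysMap F h)))
    epi_g := Algz14.epi_sysMap hF h }

/-- The transition maps of the kernels. -/
def deepKerMap (F : ℕᵒᵖ ⥤ X.Modules) {c₀ N N' : ℕ} (h : c₀ ≤ N) (h' : N ≤ N') :
    deepKer F (h.trans h') ⟶ deepKer F h :=
  kernel.lift _ (kernel.ι _ ≫ sysMap F h') (by rw [Category.assoc, sysMap_comp, kernel.condition])

theorem deepKerMap_ι {c₀ N N' : ℕ} (h : c₀ ≤ N) (h' : N ≤ N') :
    deepKerMap F h h' ≫ kernel.ι (sysMap F h) = kernel.ι (sysMap F (h.trans h')) ≫ sysMap F h' :=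
  kernel.lift_ι _ _ _

variable [IsNoetherianRing A]

theorem exists_uniform_torsion_bound [IsNoetherian X] (hF : Formal.IsCohFormal I F) (c : ℕ) :
    ∃ (S : Finset X.affineOpens) (d k : ℕ), (∀ p : X, ∃ W ∈ S, p ∈ W.1) ∧
      ∀ W ∈ S, ∀ (n : ℕ) (w : Γ(F.obj (op (n + k)), Subtype.val W)),
        w ∈ (I.map (gi A X W.1)) ^ d • (⊤ : Submodule Γ(X, W.1) Γ(F.obj (op (n + k)), W.1)) →
          (∀ b ∈ I ^ c, gi A X W.1 b • w = 0) → (sysMap F (Nat.le_add_right n k)).app W.1 w = 0 := by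
  classical
  obtain ⟨S, hS⟩ := exists_cover (X := X)
  have h : ∀ W : X.affineOpens, ∃ d k : ℕ, ∀ d', d ≤ d' → ∀ {n m : ℕ} (hn : n + k ≤ m) (w : Γ(F.obj (op m), W.1)),
      w ∈ (I.map (gi A X W.1)) ^ d' • (⊤ : Submodule Γ(X, W.1) Γ(F.obj (op m), W.1)) →
        (∀ b ∈ (I.map (gi A X W.1)) ^ c, b • w = 0) → sectTr F W.1 ((Nat.le_add_right n k).trans hn) w = 0 :=
    fun W => by
      haveI : IsNoetherianRing Γ(X, W.1) := IsLocallyNoetherian.component_noetherian W
      haveI := finite_sect hF W.2 0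
      exact exists_torsion_bound (isTower_sect hF W.2) c
  choose d k hdk using h
  refine ⟨S, S.sup d, S.sup k, hS, fun W hW n w hw hb => ?_⟩
  refine hdk W _ (Finset.le_sup hW) (Nat.add_le_add_left (Finset.le_sup hW) n) w hw fun b hb' => ?_
  rw [← Ideal.map_pow] at hb'
  exact smul_eq_zero_of_map _ _ w hb hb'

theorem exists_mulDiv [IsNoetherian X] (hF : Formal.IsCohFormal I F) (h₁ : LocCoh.CdLE A I 1) (m : ℕ) :
    ∃ (r c₀ k : ℕ) (g : Fin r → A) (hk : c₀ ≤ k)
      (Φ : Fin r → ∀ n : ℕ, deepKer F (hk.trans (Nat.le_add_left k n)) ⟶ F.obj (op n)),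
      (∀ j, g j ∈ I ^ m) ∧
      (∀ j n, deepKerMap F (hk.trans (Nat.le_add_left k n)) (Nat.add_le_add_right (Nat.le_succ n) k) ≫ Φ j n =
        Φ j (n + 1) ≫ sysMap F (Nat.le_succ n)) ∧
      ∀ n, ∑ j, Φ j n ≫ Formal.smulMod A (F.obj (op n)) (g j) =
        kernel.ι (sysMap F (hk.trans (Nat.le_add_left k n))) ≫ sysMap F (Nat.le_add_right n k) := by
  classical
  obtain ⟨r, c, g, ψ, hg, hψ⟩ := exists_pow_factor h₁ m
  obtain ⟨S, d, k', hS, hbound⟩ := exists_uniform_torsion_bound hF c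
  obtain ⟨s, b, hb⟩ := Submodule.fg_iff_exists_fin_generating_family.1 (IsNoetherian.noetherian (I ^ c))
  obtain ⟨q, e, he⟩ := Submodule.fg_iff_exists_fin_generating_family.1 (IsNoetherian.noetherian (I ^ (d + 1)))
  let σ := (finProdFinEquiv : Fin s × Fin q ≃ Fin (s * q)).symm
  have hbm : ∀ i, b i ∈ I ^ c := fun i => hb.le (Submodule.subset_span ⟨i, rfl⟩)
  have hem : ∀ i, e i ∈ I ^ (d + 1) := fun i => he.le (Submodule.subset_span ⟨i, rfl⟩)
  let c₀ := c + d
  let uu : Fin (s * q) → A := fun l => b (σ l).1 * e (σ l).2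
  let vv : Fin r → Fin (s * q) → A := fun j l => ψ j ⟨b (σ l).1, hbm _⟩ * e (σ l).2
  have huI : ∀ l, uu l ∈ I ^ (c₀ + 1) := fun l => by
    rw [show c₀ + 1 = c + (d + 1) from add_assoc c d 1, pow_add]
    exact Ideal.mul_mem_mul (hbm _) (hem _)
  have huspan : I ^ (c₀ + 1) ≤ Ideal.span (Set.range uu) := by
    rw [show c₀ + 1 = c + (d + 1) from add_assoc c d 1, pow_add, ← hb, ← he]
    refine (Ideal.span_mul_span' (Set.range b) (Set.range e)).le.trans (Ideal.span_mono ?_)
    rintro _ ⟨_, ⟨i, rfl⟩, _, ⟨l, rfl⟩, rfl⟩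
    exact ⟨σ.symm (i, l), by simp [uu]⟩
  have hgv : ∀ l, ∑ j, g j * vv j l = uu l := fun l => by
    simp only [vv, uu, ← mul_assoc, ← Finset.sum_mul]
    rw [hψ ⟨b (σ l).1, hbm _⟩]
  let k := c₀ + k'
  let P : ℕ → X.Modules := fun n => ⨁ fun _ : Fin (s * q) => F.obj (op (n + k))
  have hP : ∀ n, Coh.IsCoh (P n) := fun n => QC70.isCoh_biproduct _ fun _ => hF.1 (n + k)
  let hkn : ∀ n, c₀ ≤ n + k := fun n => (Nat.le_add_right c₀ k').trans (Nat.le_add_left k n)
  have hzero : ∀ n l, Formal.smulMod A (F.obj (op (n + k))) (uu l) ≫ sysMap F (hkn n) = 0 := fun n l => by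
    rw [← smulMod_comp, hF.2.1 c₀ _ (huI l), comp_zero]
  let ρ : ∀ n, P n ⟶ deepKer F (hkn n) := fun n =>
    biproduct.desc fun l => kernel.lift (sysMap F (hkn n)) (Formal.smulMod A (F.obj (op (n + k))) (uu l)) (hzero n l)
  let β : Fin r → ∀ n, P n ⟶ F.obj (op n) := fun j n =>
    biproduct.desc fun l => Formal.smulMod A (F.obj (op (n + k))) (vv j l) ≫ sysMap F (Nat.le_add_right n k)
  let π : ∀ n, Fin (s * q) → (P n ⟶ F.obj (op (n + k))) := fun n l => biproduct.π _ l
  have hdec : ∀ n {Z : X.Modules} (f : Fin (s * q) → (F.obj (op (n + k)) ⟶ Z)),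
      biproduct.desc f = ∑ l, π n l ≫ f l := fun n Z f => biproduct.desc_eq ..
  have happ : ∀ n (W : X.Opens) {Z : X.Modules} (f : Fin (s * q) → (F.obj (op (n + k)) ⟶ Z)) (z : Γ(P n, W)),
      (biproduct.desc f : P n ⟶ Z).app W z = ∑ l, (f l).app W ((π n l).app W z) := fun n W Z f z => by
    rw [hdec n f]
    exact map_sum (AddMonoidHom.mk' (fun φ : P n ⟶ Z => φ.app W z) fun _ _ => rfl) _ _
  have hρq : ∀ n, (deepKer F (hkn n)).IsQuasicoherent := fun n => by
    haveI := (hF.1 (n + k)).1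
    haveI := (hF.1 c₀).1
    exact QC70.isQuasicoherent_kernel _
  have hρe : ∀ n, Epi (ρ n) := fun n => by
    haveI := (hP n).1
    haveI := hρq n
    haveI := (hF.1 (n + k)).1
    haveI : (cokernel (ρ n)).IsQuasicoherent := QC70.isQuasicoherent_cokernel _
    refine Abelian.epi_of_cokernel_π_eq_zero _ (eq_zero_of_cover _ (S : Set X.affineOpens) hS fun W hW x => ?_)
    have hx : (sysMap F (hkn n)).app W.1 ((kernel.ι (sysMap F (hkn n))).app W.1 x) = 0 :=
      QC70.app_f_g (ShortComplex.mk _ (sysMap F (hkn n)) (kernel.condition _)) W.1 x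
    have h1 := (isTower_sect hF W.2).ker (hkn n) _ hx
    rw [← Ideal.map_pow] at h1
    have h2 := Submodule.smul_mono_left (N := (⊤ : Submodule Γ(X, W.1) Γ(F.obj (op (n + k)), W.1)))
      (Ideal.map_mono (f := gi A X W.1) huspan) h1
    rw [Ideal.map_span, ← Set.range_comp] at h2
    suffices hsurj : ∃ z, (ρ n).app W.1 z = x by
      obtain ⟨z, rfl⟩ := hsurj
      exact QC70.app_f_g (ShortComplex.mk (ρ n) (cokernel.π (ρ n)) (cokernel.condition _)) W.1 z
    suffices hsurj : ∃ z, (ρ n ≫ kernel.ι (sysMap F (hkn n))).app W.1 z =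
        (kernel.ι (sysMap F (hkn n))).app W.1 x by
      obtain ⟨z, hz⟩ := hsurj
      exact ⟨z, QC70.app_injective_of_mono (kernel.ι (sysMap F (hkn n))) W.1 hz⟩
    obtain ⟨y, hy⟩ : ∃ y : Fin (s * q) → Γ(F.obj (op (n + k)), W.1),
        (kernel.ι (sysMap F (hkn n))).app W.1 x = ∑ l, gi A X W.1 (uu l) • y l := by
      revert h2
      generalize (kernel.ι (sysMap F (hkn n))).app W.1 x = t
      intro h2
      refine Submodule.smul_induction_on h2 (fun a ha z _ => ?_) ?_
      · obtain ⟨w, rfl⟩ := (Submodule.mem_span_range_iff_exists_fun Γ(X, W.1)).1 ha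
        refine ⟨fun l => w l • z, ?_⟩
        rw [Finset.sum_smul]
        refine Finset.sum_congr rfl fun l _ => ?_
        rw [smul_smul]
        exact congrArg (fun t : Γ(X, W.1) => t • z) (mul_comm _ _)
      · rintro z z' ⟨y, rfl⟩ ⟨y', rfl⟩
        exact ⟨y + y', by simp [smul_add, Finset.sum_add_distrib]⟩
    refine ⟨∑ l, (biproduct.ι (fun _ : Fin (s * q) => F.obj (op (n + k))) l).app W.1 (y l), ?_⟩
    rw [hy, map_sum]
    refine Finset.sum_congr rfl fun l _ => ?_
    have e' : biproduct.ι (fun _ : Fin (s * q) => F.obj (op (n + k))) l ≫ ρ n ≫ kernel.ι (sysMap F (hkn n)) =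
        Formal.smulMod A (F.obj (op (n + k))) (uu l) :=
      (biproduct.ι_desc_assoc _ _ _).trans (kernel.lift_ι _ _ _)
    show (biproduct.ι (fun _ : Fin (s * q) => F.obj (op (n + k))) l ≫ ρ n ≫ kernel.ι (sysMap F (hkn n))).app W.1 (y l) = _
    rw [e']
    exact smulMod_app _ (uu l) W.1 (y l)
  have hρβ : ∀ j n, kernel.ι (ρ n) ≫ β j n = 0 := fun j n => by
    haveI := (hP n).1
    haveI := hρq n
    haveI : (kernel (ρ n)).IsQuasicoherent := QC70.isQuasicoherent_kernel _
    refine eq_zero_of_cover _ (S : Set X.affineOpens) hS fun W hW x => ?_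
    let z := (kernel.ι (ρ n)).app W.1 x
    let y : Fin (s * q) → Γ(F.obj (op (n + k)), W.1) := fun l => (π n l).app W.1 z
    have hu0 : ∑ l, gi A X W.1 (uu l) • y l = 0 := by
      have h0 : (ρ n).app W.1 z = 0 :=
        QC70.app_f_g (ShortComplex.mk (kernel.ι (ρ n)) (ρ n) (kernel.condition _)) W.1 x
      have h1 : (kernel.ι (sysMap F (hkn n))).app W.1 ((ρ n).app W.1 z) = 0 :=
        (congrArg _ h0).trans (map_zero _)
      rw [show (ρ n).app W.1 z = _ from happ n W.1 _ z, map_sum] at h1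
      refine Eq.trans (Finset.sum_congr rfl fun l _ => ?_) h1
      exact ((congrArg (fun φ => (Scheme.Modules.Hom.app φ W.1) (y l)) (kernel.lift_ι _ _ _)).trans
        (smulMod_app _ (uu l) W.1 (y l))).symm
    show (β j n).app W.1 z = 0
    rw [show (β j n).app W.1 z = _ from happ n W.1 _ z]
    let w := ∑ l, gi A X W.1 (vv j l) • y l
    have hw1 : w ∈ (I.map (gi A X W.1)) ^ d • (⊤ : Submodule Γ(X, W.1) Γ(F.obj (op (n + k)), W.1)) :=
      Submodule.sum_mem _ fun l _ => Submodule.smul_mem_smul (by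
        rw [← Ideal.map_pow]
        exact Ideal.mem_map_of_mem _ (Ideal.mul_mem_left _ _ (Ideal.pow_le_pow_right d.le_succ (hem _))))
        Submodule.mem_top
    have hw2 : ∀ a ∈ I ^ c, gi A X W.1 a • w = 0 := fun a ha => by
      have hcomm : ∀ l, a * vv j l = ψ j ⟨a, ha⟩ * uu l := fun l => by
        have h1 := (ψ j).map_smul a ⟨b (σ l).1, hbm _⟩
        have h2 := (ψ j).map_smul (b (σ l).1) ⟨a, ha⟩
        rw [show (a • (⟨b (σ l).1, hbm _⟩ : ↥(I ^ c))) = b (σ l).1 • (⟨a, ha⟩ : ↥(I ^ c)) from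
          Subtype.ext (mul_comm _ _), h2, smul_eq_mul, smul_eq_mul] at h1
        show a * (ψ j ⟨b (σ l).1, hbm _⟩ * e (σ l).2) = ψ j ⟨a, ha⟩ * (b (σ l).1 * e (σ l).2)
        rw [← mul_assoc, ← h1]
        ring
      rw [Finset.smul_sum]
      refine Eq.trans (Finset.sum_congr rfl fun l _ => ?_) ((Finset.smul_sum
        (r := gi A X W.1 (ψ j ⟨a, ha⟩)) (f := fun l => gi A X W.1 (uu l) • y l)
        (s := Finset.univ)).symm.trans ((congrArg (_ • ·) hu0).trans (smul_zero _)))
      rw [smul_smul, smul_smul, ← map_mul, ← map_mul, hcomm]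
    have h3 := hbound W hW n ((sysMap F (show n + k' ≤ n + k by omega)).app W.1 w) (by
      have h4 := Submodule.mem_map_of_mem (f := sectTr F W.1 (show n + k' ≤ n + k by omega)) hw1
      rw [Submodule.map_smul''] at h4
      exact Submodule.smul_mono le_rfl le_top h4) (fun a ha => by
        rw [← Scheme.Modules.Hom.app_smul, hw2 a ha, map_zero])
    rw [sysMap_app_comp] at h3
    rw [map_sum] at h3
    refine Eq.trans (Finset.sum_congr rfl fun l _ => ?_) h3
    exact (gi_smul_app (vv j l) (sysMap F (Nat.le_add_right n k)) W.1 (y l)).trans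
      (Scheme.Modules.Hom.app_smul _ _ _).symm
  haveI := hρe
  refine ⟨r, c₀, k, g, Nat.le_add_right c₀ k',
    fun j n => Abelian.epiDesc (ρ n) (β j n) (hρβ j n), hg, fun j n => ?_, fun n => ?_⟩
  · refine (cancel_epi (ρ (n + 1))).1 ?_
    refine Eq.trans ?_ ((congrArg (· ≫ _) (Abelian.comp_epiDesc (ρ (n + 1)) (β j (n + 1)) _)).symm.trans
      (Category.assoc _ _ _))
    refine biproduct.hom_ext' _ _ fun l => ?_
    have hsq : Formal.smulMod A (F.obj (op (n + 1 + k))) (uu l) ≫ sysMap F (Nat.add_le_add_right (Nat.le_succ n) k) =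
        sysMap F (Nat.add_le_add_right (Nat.le_succ n) k) ≫ Formal.smulMod A (F.obj (op (n + k))) (uu l) :=
      (smulMod_comp _ _).symm
    have h1 : biproduct.ι (fun _ : Fin (s * q) => F.obj (op (n + 1 + k))) l ≫ ρ (n + 1) ≫
        deepKerMap F (hkn n) (Nat.add_le_add_right (Nat.le_succ n) k) =
        sysMap F (Nat.add_le_add_right (Nat.le_succ n) k) ≫ biproduct.ι (fun _ : Fin (s * q) => F.obj (op (n + k))) l ≫ ρ n := by
      rw [← cancel_mono (kernel.ι (sysMap F (hkn n)))]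
      simp only [ρ, Category.assoc, biproduct.ι_desc_assoc, deepKerMap_ι, kernel.lift_ι, kernel.lift_ι_assoc]
      exact hsq
    have h1' := congrArg (· ≫ Abelian.epiDesc (ρ n) (β j n) (hρβ j n)) h1
    simp only [Category.assoc] at h1'
    rw [Abelian.comp_epiDesc] at h1'
    refine h1'.trans ?_
    simp only [β, biproduct.ι_desc, biproduct.ι_desc_assoc, Category.assoc]
    rw [← Category.assoc, smulMod_comp, Category.assoc, sysMap_comp, sysMap_comp]
  · refine (cancel_epi (ρ n)).1 ?_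
    rw [Preadditive.comp_sum]
    simp only [← Category.assoc, Abelian.comp_epiDesc]
    refine biproduct.hom_ext' _ _ fun l => ?_
    rw [Preadditive.comp_sum]
    simp only [ρ, β, biproduct.ι_desc, biproduct.ι_desc_assoc, kernel.lift_ι, kernel.lift_ι_assoc, Category.assoc]
    rw [← hgv l, smulMod_sum, Preadditive.sum_comp]
    refine Finset.sum_congr rfl fun j _ => ?_
    rw [smulMod_comp (sysMap F (Nat.le_add_right n k)) (g j), ← Category.assoc, smulMod_mul (F.obj (op (n + k))) (g j)]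

theorem exists_compatible_lift (hF : Formal.IsCohFormal I F) (p : ℕ) {c₀ k : ℕ} (hk : c₀ ≤ k)
    (x : ∀ n, Coh.HH X (F.obj (op n)) p) (hx : ∀ n, Formal2.HHsysMap F p n (x (n + 1)) = x n) (h0 : x c₀ = 0) :
    ∃ z : ∀ n, Coh.HH X (deepKer F (hk.trans (Nat.le_add_left k n))) p,
      (∀ n, Crv77.hmap A (kernel.ι _) p (z n) = x (n + k)) ∧
      ∀ n, Crv77.hmap A (deepKerMap F (hk.trans (Nat.le_add_left k n)) (Nat.add_le_add_right (Nat.le_succ n) k))
        p (z (n + 1)) = z n := by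
  have hx' : ∀ {n l : ℕ} (h : n ≤ l), Crv77.hmap A (sysMap F h) p (x l) = x n := fun {n l} h => by
    induction l, h using Nat.le_induction with
    | base => rw [sysMap_self]; exact Crv77.hmap_id A _ p _
    | succ l h ih =>
      rw [← sysMap_comp F h (Nat.le_succ l), ← Crv77.hmap_comp]
      exact (congrArg _ (hx l)).trans ih
  let hkn : ∀ n, c₀ ≤ n + k := fun n => hk.trans (Nat.le_add_left k n)
  have hex : ∀ n, ∃ z : Coh.HH X (deepKer F (hkn n)) p, Crv77.hmap A (kernel.ι _) p z = x (n + k) := fun n =>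
    ((Crv77.exact_f_g A (deepKer_shortExact hF (hkn n)) p) (x (n + k))).1 ((hx' (hkn n)).trans h0)
  have hcomm : ∀ n (z : Coh.HH X (deepKer F (hkn (n + 1))) p),
      Crv77.hmap A (kernel.ι _) p
          (Crv77.hmap A (deepKerMap F (hkn n) (Nat.add_le_add_right (Nat.le_succ n) k)) p z) =
        Crv77.hmap A (sysMap F (Nat.add_le_add_right (Nat.le_succ n) k)) p (Crv77.hmap A (kernel.ι _) p z) :=
    fun n z => by
      rw [Crv77.hmap_comp, Crv77.hmap_comp, deepKerMap_ι]
  have hstep : ∀ n (z : {z : Coh.HH X (deepKer F (hkn n)) p // Crv77.hmap A (kernel.ι _) p z = x (n + k)}),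
      ∃ z' : {z' : Coh.HH X (deepKer F (hkn (n + 1))) p // Crv77.hmap A (kernel.ι _) p z' = x (n + 1 + k)},
        Crv77.hmap A (deepKerMap F (hkn n) (Nat.add_le_add_right (Nat.le_succ n) k)) p z'.1 = z.1 := by
    rintro n ⟨z, hz⟩
    obtain ⟨z', hz'⟩ := hex (n + 1)
    have hd : Crv77.hmap A (kernel.ι _) p
        (z - Crv77.hmap A (deepKerMap F (hkn n) (Nat.add_le_add_right (Nat.le_succ n) k)) p z') = 0 := by
      rw [map_sub, hcomm, hz, hz', hx' (Nat.add_le_add_right (Nat.le_succ n) k)]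
      exact sub_self _
    cases p with
    | zero =>
      refine ⟨⟨z', hz'⟩, ?_⟩
      have hi := Crv77.injective_f_zero A (deepKer_shortExact hF (hkn n))
      exact (sub_eq_zero.1 ((injective_iff_map_eq_zero _).1 hi _ hd)).symm
    | succ p =>
      obtain ⟨e, he⟩ := (Crv77.exact_δ_f A (deepKer_shortExact hF (hkn n)) p _).1 hd
      let S₁ := ShortComplex.mk (kernel.ι (sysMap F (hkn (n + 1)))) (sysMap F (hkn (n + 1))) (kernel.condition _)
      let S₀ := ShortComplex.mk (kernel.ι (sysMap F (hkn n))) (sysMap F (hkn n)) (kernel.condition _)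
      let φ : S₁ ⟶ S₀ :=
        { τ₁ := deepKerMap F (hkn n) (Nat.add_le_add_right (Nat.le_succ n) k)
          τ₂ := sysMap F (Nat.add_le_add_right (Nat.le_succ n) k)
          τ₃ := 𝟙 _
          comm₁₂ := deepKerMap_ι _ _
          comm₂₃ := (sysMap_comp F _ _).trans (Category.comp_id _).symm }
      have hnat : Crv77.hδ A (deepKer_shortExact hF (hkn n)) p (Crv77.hmap A φ.τ₃ p e) =
          Crv77.hmap A φ.τ₁ (p + 1) (Crv77.hδ A (deepKer_shortExact hF (hkn (n + 1))) p e) :=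
        hδ_natural' (deepKer_shortExact hF (hkn (n + 1))) (deepKer_shortExact hF (hkn n)) φ p e
      rw [show Crv77.hmap A φ.τ₃ p e = e from Crv77.hmap_id A _ p e, he] at hnat
      refine ⟨⟨z' + Crv77.hδ A (deepKer_shortExact hF (hkn (n + 1))) p e, ?_⟩, ?_⟩
      · rw [map_add, hz', show Crv77.hmap A (kernel.ι (sysMap F (hkn (n + 1)))) (p + 1)
          (Crv77.hδ A (deepKer_shortExact hF (hkn (n + 1))) p e) = 0 from
            (Crv77.exact_δ_f A (deepKer_shortExact hF (hkn (n + 1))) p _).2 ⟨e, rfl⟩, add_zero]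
      · rw [map_add]
        refine (congrArg (_ + ·) hnat.symm).trans ?_
        exact add_sub_cancel _ _
  choose st hst using hstep
  let z : ∀ n, {z : Coh.HH X (deepKer F (hkn n)) p // Crv77.hmap A (kernel.ι _) p z = x (n + k)} := fun n =>
    Nat.rec (motive := fun n => {z : Coh.HH X (deepKer F (hkn n)) p // Crv77.hmap A (kernel.ι _) p z = x (n + k)})
      ⟨(hex 0).choose, (hex 0).choose_spec⟩ (fun n w => st n w) n
  exact ⟨fun n => (z n).1, fun n => (z n).2, fun n => hst n (z n)⟩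

theorem exists_eq_sum_smul [IsNoetherian X] (hF : Formal.IsCohFormal I F) (h₁ : LocCoh.CdLE A I 1) (p m : ℕ) :
    ∃ c : ℕ, ∀ x : ∀ n, Coh.HH X (F.obj (op n)) p,
      (∀ n, Formal2.HHsysMap F p n (x (n + 1)) = x n) → x c = 0 →
        ∃ (r : ℕ) (a : Fin r → A) (y : Fin r → ∀ n, Coh.HH X (F.obj (op n)) p),
          (∀ i, a i ∈ I ^ m ∧ ∀ n, Formal2.HHsysMap F p n (y i (n + 1)) = y i n) ∧ x = ∑ i, a i • y i := by
  obtain ⟨r, c₀, k, g, hk, Φ, hg, hnat, hsum⟩ := exists_mulDiv hF h₁ m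
  refine ⟨c₀, fun x hx h0 => ?_⟩
  obtain ⟨z, hz, hzc⟩ := exists_compatible_lift hF p hk x hx h0
  refine ⟨r, g, fun j n => Crv77.hmap A (Φ j n) p (z n), fun i => ⟨hg i, fun n => ?_⟩, funext fun n => ?_⟩
  · show Crv77.hmap A (sysMap F (Nat.le_succ n)) p (Crv77.hmap A (Φ i (n + 1)) p (z (n + 1))) = _
    rw [Crv77.hmap_comp, ← hnat, ← Crv77.hmap_comp, hzc]
  · have hx' : ∀ {n l : ℕ} (h : n ≤ l), Crv77.hmap A (sysMap F h) p (x l) = x n := fun {n l} h => by
      induction l, h using Nat.le_induction with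
      | base => rw [sysMap_self]; exact Crv77.hmap_id A _ p _
      | succ l h ih =>
        rw [← sysMap_comp F h (Nat.le_succ l), ← Crv77.hmap_comp]
        exact (congrArg _ (hx l)).trans ih
    have h1 := congrArg (fun φ => Crv77.hmap A φ p (z n)) (hsum n)
    rw [hmap_sum, ← Crv77.hmap_comp, hz, hx'] at h1
    refine h1.symm.trans ?_
    rw [Finset.sum_apply]
    refine Finset.sum_congr rfl fun j _ => ?_
    exact (Crv77.hmap_comp A _ _ p _).symm.trans (hmap_smulMod _ _ _ _)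

end Groth.Agent.GE14
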