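import Groth.Agent.GE14.BoundedTorsion
import Groth.Agent.GE14.SysDivide
import Groth.Agent.Algz14.SystemOps
import Mathlib.RingTheory.MvPolynomial.Homogeneous

/-!
Maps out of the submodules `I^n F` of the limit of a coherent formal module, given by coefficients in a high power.
-/

set_option autoImplicit false
set_option linter.style.haveILetI false
set_option linter.unusedSectionVars false
set_option backward.isDefEq.respectTransparency.types false

universe u

open CategoryTheory CategoryTheory.Limits AlgebraicGeometry Opposite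

noncomputable section

namespace Groth.Agent.GE14

open Formal27 Algz14

variable {A : Type u} [CommRing A] {X : Scheme.{u}} [X.Over (Spec (CommRingCat.of A))] {I : Ideal A}
variable {G : ℕᵒᵖ ⥤ X.Modules}

theorem exists_uniform_inter_cover [IsNoetherianRing A] [IsNoetherian X] (hG : Formal.IsCohFormal I G) :
    ∃ (S : Finset X.affineOpens) (d : ℕ), (∀ p : X, ∃ W ∈ S, p ∈ W.1) ∧ ∀ c : ℕ, ∃ k : ℕ,
      ∀ W ∈ S, ∀ (n : ℕ) (w : Γ(G.obj (op (n + k)), Subtype.val W)),
        w ∈ (I.map (gi A X W.1)) ^ d • (⊤ : Submodule Γ(X, W.1) Γ(G.obj (op (n + k)), W.1)) →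
          (∀ b ∈ I ^ c, gi A X W.1 b • w = 0) → (sysMap G (Nat.le_add_right n k)).app W.1 w = 0 := by
  classical
  obtain ⟨S, hS⟩ := exists_cover (X := X)
  have h : ∀ W : X.affineOpens, ∃ d : ℕ, ∀ c : ℕ, ∃ k : ℕ, ∀ d', d ≤ d' → ∀ {n m : ℕ} (hn : n + k ≤ m)
      (w : Γ(G.obj (op m), W.1)),
      w ∈ (I.map (gi A X W.1)) ^ d' • (⊤ : Submodule Γ(X, W.1) Γ(G.obj (op m), W.1)) →
        (∀ b ∈ (I.map (gi A X W.1)) ^ c, b • w = 0) → sectTr G W.1 ((Nat.le_add_right n k).trans hn) w = 0 :=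
    fun W => by
      haveI : IsNoetherianRing Γ(X, W.1) := IsLocallyNoetherian.component_noetherian W
      haveI := finite_sect hG W.2 0
      exact exists_uniform_inter (isTower_sect hG W.2)
  choose d hd using h
  choose k hk using hd
  refine ⟨S, S.sup d, hS, fun c => ⟨S.sup (fun W => k W c), fun W hW n w hw hb => ?_⟩⟩
  refine hk W c _ (Finset.le_sup hW)
    (Nat.add_le_add_left (Finset.le_sup (f := fun W => k W c) hW) n) w hw fun b hb' => ?_
  rw [← Ideal.map_pow] at hb'
  exact smul_eq_zero_of_map _ _ w hb hb'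

theorem biproduct_desc_app {ι : Type} [Fintype ι] {Y : ι → X.Modules} {Z : X.Modules} (f : ∀ i, Y i ⟶ Z)
    (W : X.Opens) (z : Γ(⨁ Y, W)) :
    (biproduct.desc f : ⨁ Y ⟶ Z).app W z = ∑ i, (f i).app W ((biproduct.π Y i).app W z) := by
  rw [biproduct.desc_eq]
  exact map_sum (AddMonoidHom.mk' (fun φ : ⨁ Y ⟶ Z => φ.app W z) fun _ _ => rfl) _ _

/-- Multiplication by finitely many elements, as a map out of a biproduct. -/
abbrev famMap (M : X.Modules) {s : ℕ} (g : Fin s → A) : (⨁ fun _ : Fin s => M) ⟶ M :=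
  biproduct.desc fun l => Formal.smulMod A M (g l)

theorem kernel_famMap_comp_eq_zero [IsNoetherianRing A] (hG : Formal.IsCohFormal I G) {S : Finset X.affineOpens}
    (hS : ∀ p : X, ∃ W ∈ S, p ∈ W.1) {d c k : ℕ}
    (hk : ∀ W ∈ S, ∀ (n : ℕ) (w : Γ(G.obj (op (n + k)), Subtype.val W)),
        w ∈ (I.map (gi A X W.1)) ^ d • (⊤ : Submodule Γ(X, W.1) Γ(G.obj (op (n + k)), W.1)) →
          (∀ b ∈ I ^ c, gi A X W.1 b • w = 0) → (sysMap G (Nat.le_add_right n k)).app W.1 w = 0)
    {s : ℕ} (g v : Fin s → A) (hv : ∀ l, v l ∈ I ^ d) (hgv : ∀ a ∈ I ^ c, ∃ b, ∀ l, a * v l = b * g l) (n : ℕ) :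
    kernel.ι (famMap (G.obj (op (n + k))) g) ≫
      biproduct.desc (fun l => Formal.smulMod A (G.obj (op (n + k))) (v l) ≫ sysMap G (Nat.le_add_right n k)) = 0 := by
  haveI := (hG.1 (n + k)).1
  haveI := (hG.1 n).1
  haveI := (QC70.isCoh_biproduct (fun _ : Fin s => G.obj (op (n + k))) fun _ => hG.1 (n + k)).1
  haveI : (kernel (famMap (G.obj (op (n + k))) g)).IsQuasicoherent := QC70.isQuasicoherent_kernel _
  refine eq_zero_of_cover _ (S : Set X.affineOpens) hS fun W hW x => ?_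
  let z := (kernel.ι (famMap (G.obj (op (n + k))) g)).app W.1 x
  have h0 : (famMap (G.obj (op (n + k))) g).app W.1 z = 0 :=
    QC70.app_f_g (ShortComplex.mk _ (famMap (G.obj (op (n + k))) g) (kernel.condition _)) W.1 x
  let y : Fin s → Γ(G.obj (op (n + k)), W.1) := fun l =>
    (biproduct.π (fun _ : Fin s => G.obj (op (n + k))) l).app W.1 z
  have h1 : ∑ l, gi A X W.1 (g l) • y l = 0 := (biproduct_desc_app _ W.1 z).symm.trans h0
  show (biproduct.desc fun l => Formal.smulMod A (G.obj (op (n + k))) (v l) ≫ sysMap G (Nat.le_add_right n k)).app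
    W.1 z = 0
  rw [biproduct_desc_app]
  let w := ∑ l, gi A X W.1 (v l) • y l
  have hw : w ∈ (I.map (gi A X W.1)) ^ d • (⊤ : Submodule Γ(X, W.1) Γ(G.obj (op (n + k)), W.1)) :=
    Submodule.sum_mem _ fun l _ => Submodule.smul_mem_smul (by
      rw [← Ideal.map_pow]
      exact Ideal.mem_map_of_mem _ (hv l)) Submodule.mem_top
  have hw' : ∀ a ∈ I ^ c, gi A X W.1 a • w = 0 := fun a ha => by
    obtain ⟨b, hb⟩ := hgv a ha
    rw [Finset.smul_sum]
    refine Eq.trans (Finset.sum_congr rfl fun l _ => ?_) ((Finset.smul_sum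
      (r := gi A X W.1 b) (f := fun l => gi A X W.1 (g l) • y l)
      (s := Finset.univ)).symm.trans ((congrArg (_ • ·) h1).trans (smul_zero _)))
    rw [smul_smul, smul_smul, ← map_mul, ← map_mul, hb]
  have h2 := hk W hW n w hw hw'
  rw [map_sum] at h2
  refine Eq.trans (Finset.sum_congr rfl fun l _ => ?_) h2
  exact rfl

theorem kernel_limit_famMap_comp_eq_zero [IsNoetherianRing A] (hG : Formal.IsCohFormal I G)
    {S : Finset X.affineOpens}
    (hS : ∀ p : X, ∃ W ∈ S, p ∈ W.1) {d c k : ℕ}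
    (hk : ∀ W ∈ S, ∀ (n : ℕ) (w : Γ(G.obj (op (n + k)), Subtype.val W)),
        w ∈ (I.map (gi A X W.1)) ^ d • (⊤ : Submodule Γ(X, W.1) Γ(G.obj (op (n + k)), W.1)) →
          (∀ b ∈ I ^ c, gi A X W.1 b • w = 0) → (sysMap G (Nat.le_add_right n k)).app W.1 w = 0)
    {s : ℕ} (g v : Fin s → A) (hv : ∀ l, v l ∈ I ^ d) (hgv : ∀ a ∈ I ^ c, ∃ b, ∀ l, a * v l = b * g l) :
    kernel.ι (famMap (limit G) g) ≫ famMap (limit G) v = 0 := by
  refine limit.hom_ext fun N => ?_
  obtain ⟨n⟩ := N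
  rw [zero_comp]
  let p : limit G ⟶ G.obj (op (n + k)) := limit.π G (op (n + k))
  let mp : (⨁ fun _ : Fin s => limit G) ⟶ ⨁ fun _ : Fin s => G.obj (op (n + k)) := biproduct.map fun _ => p
  have e1 : famMap (limit G) v ≫ limit.π G (op n) =
      mp ≫ biproduct.desc (fun l => Formal.smulMod A (G.obj (op (n + k))) (v l) ≫ sysMap G (Nat.le_add_right n k)) := by
    refine biproduct.hom_ext' _ _ fun l => ?_
    simp only [famMap, mp, biproduct.ι_desc_assoc, biproduct.map_desc, biproduct.ι_desc]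
    rw [show limit.π G (op n) = p ≫ sysMap G (Nat.le_add_right n k) from (limit.w G _).symm,
      ← Category.assoc, ← smulMod_comp, Category.assoc]
  have e2 : famMap (limit G) g ≫ p = mp ≫ famMap (G.obj (op (n + k))) g := by
    refine biproduct.hom_ext' _ _ fun l => ?_
    simp only [famMap, mp, biproduct.ι_desc_assoc, biproduct.map_desc, biproduct.ι_desc]
    exact (smulMod_comp _ _).symm
  let q : kernel (famMap (limit G) g) ⟶ kernel (famMap (G.obj (op (n + k))) g) :=
    kernel.lift _ (kernel.ι _ ≫ mp) (by rw [Category.assoc, ← e2, kernel.condition_assoc, zero_comp])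
  rw [Category.assoc, e1, ← Category.assoc, ← show q ≫ kernel.ι _ = kernel.ι _ ≫ mp from kernel.lift_ι _ _ _,
    Category.assoc, kernel_famMap_comp_eq_zero hG hS hk g v hv hgv n, comp_zero]

theorem famMap_modPowπ (M : X.Modules) (N : ℕ) {s : ℕ} (g : Fin s → A) (hg : ∀ l, g l ∈ I ^ N) :
    famMap M g ≫ Formal.modPowπ I N M = 0 :=
  biproduct.hom_ext' _ _ fun l => by
    rw [biproduct.ι_desc_assoc, comp_zero, smulMod_modPowπ I N M (hg l)]

theorem smulMod_finset_sum (M : X.Modules) {ι : Type*} (t : Finset ι) (a : ι → A) :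
    Formal.smulMod A M (∑ j ∈ t, a j) = ∑ j ∈ t, Formal.smulMod A M (a j) :=
  map_sum (⟨⟨fun b => Formal.smulMod A M b, smulMod_zero M⟩, smulMod_add M⟩ : A →+ (M ⟶ M)) a t

theorem smulMod_eq_sum {M : X.Modules} {s : ℕ} {g : Fin s → A} {lam : Fin s → A} {a : A}
    (h : ∑ l, lam l * g l = a) :
    Formal.smulMod A M a = ∑ l, Formal.smulMod A M (lam l) ≫ Formal.smulMod A M (g l) := by
  rw [← h, smulMod_finset_sum]
  refine Finset.sum_congr rfl fun l _ => ?_
  rw [mul_comm (lam l) (g l), smulMod_mul]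

/-- The map onto `I^N M` given by generators of `I^N`. -/
def famToPow (M : X.Modules) (N : ℕ) {s : ℕ} (g : Fin s → A) (hg : ∀ l, g l ∈ I ^ N) :
    (⨁ fun _ : Fin s => M) ⟶ Formal2.idealPowMod I N M :=
  kernel.lift _ (famMap M g) (famMap_modPowπ M N g hg)

theorem famToPow_ι (M : X.Modules) (N : ℕ) {s : ℕ} (g : Fin s → A) (hg : ∀ l, g l ∈ I ^ N) :
    famToPow M N g hg ≫ Formal2.idealPowModι I N M = famMap M g :=
  kernel.lift_ι _ _ _

theorem epi_famToPow (M : X.Modules) (N : ℕ) {s : ℕ} (g : Fin s → A) (hg : ∀ l, g l ∈ I ^ N)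
    (hspan : I ^ N ≤ Ideal.span (Set.range g)) : Epi (famToPow M N g hg) := by
  let S := ShortComplex.mk (famMap M g) (Formal.modPowπ I N M) (famMap_modPowπ M N g hg)
  have hS : S.Exact := by
    refine S.exact_of_g_is_cokernel ?_
    haveI : Epi (Formal.modPowπ I N M) := coequalizer.π_epi
    refine CokernelCofork.IsColimit.ofπ' _ _ fun {Z} k hk => ⟨cokernel.desc _ k ?_, cokernel.π_desc _ _ _⟩
    refine Sigma.hom_ext _ _ fun a => ?_
    obtain ⟨lam, hlam⟩ := (Submodule.mem_span_range_iff_exists_fun A).1 (hspan a.2)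
    rw [comp_zero, ← Category.assoc, Formal.smulFamily, Sigma.ι_desc, smulMod_eq_sum (g := g) hlam,
      Preadditive.sum_comp]
    refine Finset.sum_eq_zero fun l _ => ?_
    rw [Category.assoc, ← biproduct.ι_desc (fun l => Formal.smulMod A M (g l)) l, Category.assoc,
      show biproduct.desc (fun l => Formal.smulMod A M (g l)) ≫ k = 0 from hk, comp_zero, comp_zero]
  exact S.exact_iff_epi_kernel_lift.1 hS

theorem idealPowMod_hom_ext {M Z : X.Modules} {N : ℕ} {s : ℕ} (g : Fin s → A) (hg : ∀ l, g l ∈ I ^ N)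
    (hspan : I ^ N ≤ Ideal.span (Set.range g)) (φ ψ : Formal2.idealPowMod I N M ⟶ Z)
    (h : ∀ (l : Fin s) (γ : M ⟶ Formal2.idealPowMod I N M),
      γ ≫ Formal2.idealPowModι I N M = Formal.smulMod A M (g l) → γ ≫ φ = γ ≫ ψ) : φ = ψ := by
  haveI := epi_famToPow M N g hg hspan
  refine (cancel_epi (famToPow M N g hg)).1 (biproduct.hom_ext' _ _ fun l => ?_)
  rw [← Category.assoc, ← Category.assoc]
  refine h l _ ?_
  rw [Category.assoc, famToPow_ι, biproduct.ι_desc]

/-- A map on `I^N M` out of compatible coefficients of generators. -/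
theorem exists_powDesc {M : X.Modules} {N : ℕ} {s : ℕ} (g : Fin s → A) (hg : ∀ l, g l ∈ I ^ N)
    (hspan : I ^ N ≤ Ideal.span (Set.range g)) (v : Fin s → A)
    (hzero : kernel.ι (famMap M g) ≫ famMap M v = 0) :
    ∃ φ : Formal2.idealPowMod I N M ⟶ M, ∀ (lam : Fin s → A) (γ : M ⟶ Formal2.idealPowMod I N M),
      γ ≫ Formal2.idealPowModι I N M = Formal.smulMod A M (∑ l, lam l * g l) →
        γ ≫ φ = Formal.smulMod A M (∑ l, lam l * v l) := by
  haveI := epi_famToPow M N g hg hspan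
  have hz : kernel.ι (famToPow M N g hg) ≫ famMap M v = 0 := by
    let q : kernel (famToPow M N g hg) ⟶ kernel (famMap M g) :=
      kernel.lift _ (kernel.ι _) (by rw [← famToPow_ι M N g hg, kernel.condition_assoc, zero_comp])
    rw [← kernel.lift_ι (famMap M g) (kernel.ι (famToPow M N g hg))
      (by rw [← famToPow_ι M N g hg, kernel.condition_assoc, zero_comp]), Category.assoc, hzero, comp_zero]
  refine ⟨Abelian.epiDesc (famToPow M N g hg) (famMap M v) hz, fun lam γ hγ => ?_⟩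
  have h1 : γ = ∑ l, Formal.smulMod A M (lam l) ≫ biproduct.ι (fun _ : Fin s => M) l ≫ famToPow M N g hg := by
    refine (cancel_mono (Formal2.idealPowModι I N M)).1 ?_
    rw [hγ, Preadditive.sum_comp, smulMod_eq_sum (g := g) rfl]
    refine Finset.sum_congr rfl fun l _ => ?_
    rw [Category.assoc, Category.assoc, famToPow_ι, biproduct.ι_desc]
  rw [h1, Preadditive.sum_comp, smulMod_eq_sum (g := v) rfl]
  refine Finset.sum_congr rfl fun l _ => ?_
  rw [Category.assoc, Category.assoc, Abelian.comp_epiDesc, biproduct.ι_desc]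

open MvPolynomial

variable {r : ℕ}

theorem sum_coeff_mul_prod_eq_eval (f : Fin r → A) {P : MvPolynomial (Fin r) A} {n : ℕ} (hP : P.IsHomogeneous n) :
    ∑ e : ↥(Finset.Nat.antidiagonalTuple r n),
      coeff (Finsupp.equivFunOnFinite.symm e.1) P * ∏ j, f j ^ (e.1 j) = eval f P := by
  classical
  rw [eval_eq']
  rw [Finset.sum_coe_sort (Finset.Nat.antidiagonalTuple r n)
    (fun e : Fin r → ℕ => coeff (Finsupp.equivFunOnFinite.symm e) P * ∏ j, f j ^ (e j))]
  refine (Finset.sum_bij_ne_zero (fun (d : Fin r →₀ ℕ) _ _ => (d : Fin r → ℕ)) (fun d hd _ => ?_) (fun d _ _ d' _ _ h => ?_)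
    (fun e he hne => ?_) (fun d _ _ => ?_)).symm
  · rw [Finset.Nat.mem_antidiagonalTuple]
    have h := hP (mem_support_iff.1 hd)
    simpa [Finsupp.weight_apply, Finsupp.sum_fintype] using h
  · exact DFunLike.coe_injective h
  · refine ⟨Finsupp.equivFunOnFinite.symm e, ?_, ?_, ?_⟩
    · rw [mem_support_iff]
      exact left_ne_zero_of_mul hne
    · exact hne
    · simp
  · simp

end Groth.Agent.GE14
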