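import Mathlib.Algebra.DirectSum.Module
import Mathlib.RingTheory.Polynomial.Basic
import Mathlib.Algebra.Algebra.Subalgebra.Lattice
import Mathlib.RingTheory.Finiteness.Basic

/-!
Noetherian property of graded families of finite modules with commuting operators of degree one.
-/

set_option autoImplicit false
set_option linter.deprecated false
set_option linter.style.haveILetI false

universe u

open DirectSum

namespace Groth.Agent.GE14

variable {R : Type u} [CommRing R] [IsNoetherianRing R] {r : ℕ} (M : ℕ → Type u) [∀ n, AddCommGroup (M n)]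
  [∀ n, Module R (M n)]

/-- Stable families of submodules of a finitely generated graded family are finitely generated. -/
theorem exists_graded_gen [∀ n, Module.Finite R (M n)] (f : Fin r → ∀ n, M n →ₗ[R] M (n + 1))
    (hcomm : ∀ (i j : Fin r) (n : ℕ) (x : M n), f i (n + 1) (f j n x) = f j (n + 1) (f i n x))
    (n₀ : ℕ) (hgen : ∀ n, n₀ ≤ n → (⊤ : Submodule R (M (n + 1))) = ⨆ j, LinearMap.range (f j n))
    (N : ∀ n, Submodule R (M n)) (hN : ∀ j n, ∀ x ∈ N n, f j n x ∈ N (n + 1)) :
    ∃ n₁, ∀ n, n₁ ≤ n → N (n + 1) ≤ ⨆ j, (N n).map (f j n) := by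
  classical
  let s : Fin r → Module.End R (⨁ n, M n) := fun j =>
    DirectSum.toModule R ℕ (⨁ n, M n) fun n => (DirectSum.lof R ℕ M (n + 1)).comp (f j n)
  have hs : ∀ j n (x : M n), s j (DirectSum.lof R ℕ M n x) = DirectSum.lof R ℕ M (n + 1) (f j n x) := fun j n x => by
    simp only [s, DirectSum.toModule_lof, LinearMap.comp_apply]
  have hc : ∀ a ∈ Set.range s, ∀ b ∈ Set.range s, a * b = b * a := by
    rintro _ ⟨i, rfl⟩ _ ⟨j, rfl⟩
    refine DirectSum.linearMap_ext R fun n => LinearMap.ext fun x => ?_
    simp only [LinearMap.comp_apply, Module.End.mul_apply, hs, hcomm]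
  let _ := Algebra.adjoinCommSemiringOfComm R hc
  let φ : MvPolynomial (Fin r) R →ₐ[R] Module.End R (⨁ n, M n) :=
    (Algebra.adjoin R (Set.range s)).val.comp
      (MvPolynomial.aeval fun j => (⟨s j, Algebra.subset_adjoin ⟨j, rfl⟩⟩ : Algebra.adjoin R (Set.range s)))
  letI : Module (MvPolynomial (Fin r) R) (⨁ n, M n) := Module.compHom (⨁ n, M n) φ.toRingHom
  have hX : ∀ j (v : (⨁ n, M n)), (MvPolynomial.X j : MvPolynomial (Fin r) R) • v = s j v := fun j v => by
    change φ (MvPolynomial.X j) v = s j v
    rw [show φ (MvPolynomial.X j) = s j by simp [φ]]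
  have hC : ∀ (a : R) (v : (⨁ n, M n)), (MvPolynomial.C a : MvPolynomial (Fin r) R) • v = a • v := fun a v => by
    change φ (MvPolynomial.C a) v = a • v
    rw [← MvPolynomial.algebraMap_eq, AlgHom.commutes, Module.algebraMap_end_apply]
  -- finite generation
  have hspan : ∀ (K : Submodule (MvPolynomial (Fin r) R) (⨁ n, M n)),
      (∀ n, n ≤ n₀ → ∀ x : M n, DirectSum.lof R ℕ M n x ∈ K) → ∀ n (x : M n), DirectSum.lof R ℕ M n x ∈ K := by
    intro K hK n
    induction n with
    | zero => exact fun x => hK 0 (Nat.zero_le _) x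
    | succ n ih =>
      intro x
      by_cases hn : n + 1 ≤ n₀
      · exact hK _ hn x
      · have hx : x ∈ ⨆ j, LinearMap.range (f j n) := hgen n (by omega) ▸ Submodule.mem_top
        refine Submodule.iSup_induction _ (motive := fun x => DirectSum.lof R ℕ M (n + 1) x ∈ K) hx ?_ ?_ ?_
        · rintro j _ ⟨y, rfl⟩
          rw [← hs, ← hX]
          exact K.smul_mem _ (ih y)
        · rw [map_zero]; exact K.zero_mem
        · intro a b ha hb; rw [map_add]; exact K.add_mem ha hb
  have : Module.Finite (MvPolynomial (Fin r) R) (⨁ n, M n) := by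
    choose g hg using fun n => Module.Finite.fg_top (R := R) (M := M n)
    let G : Finset (⨁ n, M n) := (Finset.range (n₀ + 1)).biUnion fun n => (g n).image (DirectSum.lof R ℕ M n)
    refine ⟨⟨G, eq_top_iff.2 fun v hv => ?_⟩⟩
    clear hv
    induction v using DirectSum.induction_on with
    | zero => exact zero_mem _
    | of n x =>
      rw [← DirectSum.lof_eq_of R]
      refine hspan _ (fun k hk y => ?_) n x
      have hy : y ∈ Submodule.span R (g k : Set (M k)) := hg k ▸ Submodule.mem_top
      induction hy using Submodule.span_induction with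
      | mem y hy =>
        exact Submodule.subset_span (Finset.mem_biUnion.2 ⟨k, Finset.mem_range.2 (by omega),
          Finset.mem_image_of_mem _ hy⟩)
      | zero => rw [map_zero]; exact zero_mem _
      | add a b _ _ ha hb => rw [map_add]; exact add_mem ha hb
      | smul a y _ hy => rw [map_smul, ← hC]; exact Submodule.smul_mem _ _ hy
    | add a b ha hb => exact add_mem ha hb
  have : IsNoetherian (MvPolynomial (Fin r) R) (⨁ n, M n) := isNoetherian_of_isNoetherianRing_of_finite _ _
  let T : Set (⨁ n, M n) := ⋃ n, DirectSum.lof R ℕ M n '' (N n : Set (M n))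
  obtain ⟨G, hG, hGspan⟩ := (Submodule.fg_span_iff_fg_span_finset_subset T).1
    (IsNoetherian.noetherian (Submodule.span (MvPolynomial (Fin r) R) T))
  choose deg hdeg using fun v : (G : Set (⨁ n, M n)) => Set.mem_iUnion.1 (hG v.2)
  refine ⟨G.attach.sup fun v => deg ⟨v.1, v.2⟩, fun n hn x hx => ?_⟩
  let n₁ := G.attach.sup fun v => deg ⟨v.1, v.2⟩
  let D : ∀ k, Submodule R (M k) := fun k => match k with
    | 0 => N 0
    | m + 1 => if m + 1 ≤ n₁ then N (m + 1) else ⨆ j, (N m).map (f j m)
  have hDN : ∀ k, D k ≤ N k := by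
    rintro (_ | m)
    · exact le_rfl
    · show (if m + 1 ≤ n₁ then N (m + 1) else ⨆ j, (N m).map (f j m)) ≤ _
      split
      · exact le_rfl
      · exact iSup_le fun j => Submodule.map_le_iff_le_comap.2 fun y hy => hN j m y hy
  let Q : Submodule (MvPolynomial (Fin r) R) (⨁ n, M n) :=
    { carrier := {v | ∀ k, v k ∈ D k}
      zero_mem' := fun k => (DirectSum.zero_apply (β := M) k).symm ▸ zero_mem _
      add_mem' := fun {a b} ha hb k => by rw [DirectSum.add_apply]; exact add_mem (ha k) (hb k)
      smul_mem' := fun p v hv => by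
        induction p using MvPolynomial.induction_on with
        | C a =>
          intro k
          rw [hC, DirectSum.smul_apply]
          exact Submodule.smul_mem _ _ (hv k)
        | add p q hp hq =>
          intro k
          rw [add_smul, DirectSum.add_apply]
          exact add_mem (hp k) (hq k)
        | mul_X p j hp =>
          intro k
          rw [mul_comm, mul_smul, hX]
          have h0 : ∀ w : (⨁ n, M n), (s j w) 0 = 0 := fun w => by
            induction w using DirectSum.induction_on with
            | zero => rw [map_zero]; rfl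
            | of i y => rw [← DirectSum.lof_eq_of R, hs, DirectSum.lof_eq_of, DirectSum.of_eq_of_ne _ _ _ (by omega)]
            | add a b ha hb => rw [map_add, DirectSum.add_apply, ha, hb, add_zero]
          have h1 : ∀ (w : (⨁ n, M n)) m, (s j w) (m + 1) = f j m (w m) := fun w m => by
            induction w using DirectSum.induction_on with
            | zero => simp
            | of i y =>
              rw [← DirectSum.lof_eq_of R, hs]
              by_cases him : i = m
              · subst him; rw [DirectSum.lof_apply, DirectSum.lof_apply]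
              · rw [DirectSum.lof_eq_of, DirectSum.lof_eq_of, DirectSum.of_eq_of_ne _ _ _ (by omega),
                  DirectSum.of_eq_of_ne _ _ _ (by omega), map_zero]
            | add a b ha hb => rw [map_add, DirectSum.add_apply, DirectSum.add_apply, ha, hb, map_add]
          rcases k with _ | m
          · rw [h0]; exact zero_mem _
          · rw [h1]
            show _ ∈ (if m + 1 ≤ n₁ then N (m + 1) else ⨆ j, (N m).map (f j m))
            split
            · exact hN j m _ (hDN m (hp m))
            · exact Submodule.mem_iSup_of_mem j ⟨_, hDN m (hp m), rfl⟩ }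
  have hQ : Submodule.span (MvPolynomial (Fin r) R) T ≤ Q := by
    rw [hGspan, Submodule.span_le]
    intro v hv k
    obtain ⟨y, hy, e⟩ := hdeg ⟨v, hv⟩
    have hd : deg ⟨v, hv⟩ ≤ n₁ := Finset.le_sup (f := fun w : G => deg ⟨w.1, w.2⟩) (Finset.mem_attach G ⟨v, hv⟩)
    change DirectSum.lof R ℕ M _ y = v at e
    rw [← e]
    by_cases hk : deg ⟨v, hv⟩ = k
    · subst hk
      rw [DirectSum.lof_apply]
      generalize deg ⟨v, hv⟩ = d at hd y hy
      rcases d with _ | m
      · exact hy
      · show y ∈ (if m + 1 ≤ n₁ then N (m + 1) else ⨆ j, (N m).map (f j m))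
        rw [if_pos hd]; exact hy
    · rw [DirectSum.lof_eq_of, DirectSum.of_eq_of_ne _ _ _ (Ne.symm hk)]; exact zero_mem _
  have h2 := hQ (Submodule.subset_span (Set.mem_iUnion.2 ⟨n + 1, x, hx, rfl⟩)) (n + 1)
  rw [DirectSum.lof_apply] at h2
  change x ∈ (if n + 1 ≤ n₁ then N (n + 1) else ⨆ j, (N n).map (f j n)) at h2
  rwa [if_neg (by change n₁ ≤ n at hn; omega)] at h2

end Groth.Agent.GE14
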