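import Mathlib.AlgebraicGeometry.Fiber
import Mathlib.AlgebraicGeometry.Morphisms.Affine
import Mathlib.AlgebraicGeometry.Morphisms.ClosedImmersion
import Mathlib.RingTheory.Idempotents

/-!
Functions on fibres of affine morphisms come from neighbourhoods; idempotents on fibres of maps with
connected fibres to affine schemes over the base lift to functions.
-/

set_option autoImplicit false
set_option linter.style.haveILetI false
set_option backward.isDefEq.respectTransparency.types false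

universe u

open CategoryTheory CategoryTheory.Limits AlgebraicGeometry TopologicalSpace Opposite

noncomputable section

namespace Groth.Agent.GE14

variable {X T S : Scheme.{u}}

theorem appTop_eq_appLE' {Y Z : Scheme.{u}} (f : Y ⟶ Z) : f.appTop = f.appLE ⊤ ⊤ le_top := f.app_eq_appLE

/-- Functions on the fibre coming from a neighbourhood. -/
def FromNhd (h : T ⟶ S) (s : S) (z : Γ(h.fiber s, ⊤)) : Prop :=
  ∃ (V : S.Opens) (_ : s ∈ V) (e : ⊤ ≤ h.fiberι s ⁻¹ᵁ (h ⁻¹ᵁ V)) (t : Γ(T, h ⁻¹ᵁ V)),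
    (h.fiberι s).appLE (h ⁻¹ᵁ V) ⊤ e t = z

theorem top_le_fiber_preimage (h : T ⟶ S) (s : S) {V : S.Opens} (hs : s ∈ V) :
    ⊤ ≤ h.fiberι s ⁻¹ᵁ (h ⁻¹ᵁ V) := fun y _ => by
  have hy : h.fiberι s y ∈ h ⁻¹' {s} := h.range_fiberι s ▸ ⟨y, rfl⟩
  show h (h.fiberι s y) ∈ V
  rwa [show h (h.fiberι s y) = s from hy]

/-- The functions coming from a neighbourhood form a subring. -/
def fromNhdSubring (h : T ⟶ S) (s : S) : Subring Γ(h.fiber s, ⊤) where
  carrier := {z | FromNhd h s z}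
  one_mem' := ⟨⊤, trivial, top_le_fiber_preimage h s trivial, 1, map_one _⟩
  zero_mem' := ⟨⊤, trivial, top_le_fiber_preimage h s trivial, 0, map_zero _⟩
  neg_mem' := by
    rintro _ ⟨V, hV, e, t, rfl⟩
    exact ⟨V, hV, e, -t, map_neg _ _⟩
  add_mem' := by
    rintro _ _ ⟨V, hV, e, t, rfl⟩ ⟨V', hV', e', t', rfl⟩
    refine ⟨V ⊓ V', ⟨hV, hV'⟩, top_le_fiber_preimage h s ⟨hV, hV'⟩,
      T.presheaf.map (homOfLE (h.preimage_mono inf_le_left)).op t +
        T.presheaf.map (homOfLE (h.preimage_mono inf_le_right)).op t', ?_⟩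
    rw [map_add, ← ConcreteCategory.comp_apply, ← ConcreteCategory.comp_apply,
      Scheme.Hom.map_appLE, Scheme.Hom.map_appLE]
  mul_mem' := by
    rintro _ _ ⟨V, hV, e, t, rfl⟩ ⟨V', hV', e', t', rfl⟩
    refine ⟨V ⊓ V', ⟨hV, hV'⟩, top_le_fiber_preimage h s ⟨hV, hV'⟩,
      T.presheaf.map (homOfLE (h.preimage_mono inf_le_left)).op t *
        T.presheaf.map (homOfLE (h.preimage_mono inf_le_right)).op t', ?_⟩
    rw [map_mul, ← ConcreteCategory.comp_apply, ← ConcreteCategory.comp_apply,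
      Scheme.Hom.map_appLE, Scheme.Hom.map_appLE]

theorem eq_top_of_isPushout {R A B P : CommRingCat.{u}} {f : R ⟶ A} {g : R ⟶ B} {i : A ⟶ P} {j : B ⟶ P}
    (h : IsPushout f g i j) (R' : Subring P) (hi : ∀ a, i a ∈ R') (hj : ∀ b, j b ∈ R') (z : P) : z ∈ R' := by
  let i' : A ⟶ CommRingCat.of R' := CommRingCat.ofHom (i.hom.codRestrict R' hi)
  let j' : B ⟶ CommRingCat.of R' := CommRingCat.ofHom (j.hom.codRestrict R' hj)
  have hw : f ≫ i' = g ≫ j' := CommRingCat.hom_ext <| RingHom.ext fun r => Subtype.ext <|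
    congrArg (fun φ => (ConcreteCategory.hom φ) r) h.w
  have hd : h.desc i' j' hw ≫ CommRingCat.ofHom R'.subtype = 𝟙 P := by
    refine h.hom_ext ?_ ?_
    · rw [h.inl_desc_assoc, Category.comp_id]; rfl
    · rw [h.inr_desc_assoc, Category.comp_id]; rfl
  have := congrArg (fun φ => (ConcreteCategory.hom φ) z) hd
  exact (show ((h.desc i' j' hw) z).1 = z from this) ▸ ((h.desc i' j' hw) z).2

theorem exists_section_residueField (S : Scheme.{u}) (s : S) (c : Γ(Spec (S.residueField s), ⊤)) :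
    ∃ (V : S.Opens) (hs : s ∈ V) (a : Γ(S, V)) (e : ⊤ ≤ S.fromSpecResidueField s ⁻¹ᵁ V),
      (S.fromSpecResidueField s).appLE V ⊤ e a = c := by
  obtain ⟨b, hb⟩ := S.residue_surjective s ((Scheme.ΓSpecIso (S.residueField s)).hom c)
  obtain ⟨V, hs, a, ha⟩ := S.presheaf.exists_germ_eq b
  refine ⟨V, hs, a, fun y _ => show S.fromSpecResidueField s y ∈ V by
    rwa [Scheme.fromSpecResidueField_apply], ?_⟩
  have e₁ : ⊤ ≤ S.fromSpecStalk s ⁻¹ᵁ V := fun y _ => show S.fromSpecStalk s y ∈ V from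
    (Scheme.range_fromSpecStalk (x := s)).le ⟨y, rfl⟩ |>.mem_open V.2 hs
  have h1 : (S.fromSpecStalk s).appLE V ⊤ e₁ a = (Scheme.ΓSpecIso _).inv b := by
    rw [Scheme.Hom.appLE, Scheme.fromSpecStalk_app hs, Category.assoc, Category.assoc, ← Functor.map_comp,
      ConcreteCategory.comp_apply, ConcreteCategory.comp_apply]
    erw [ha]
    show (Spec (S.presheaf.stalk s)).presheaf.map _ _ = _
    rw [Subsingleton.elim ((homOfLE le_top).op ≫ (homOfLE e₁).op) (𝟙 _), CategoryTheory.Functor.map_id]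
    rfl
  simp only [Scheme.fromSpecResidueField]
  rw [← Scheme.Hom.appLE_comp_appLE (Spec.map (S.residue s)) (S.fromSpecStalk s) V ⊤ ⊤ e₁ le_top,
    ConcreteCategory.comp_apply, h1, ← appTop_eq_appLE', ← ConcreteCategory.comp_apply,
    ← Scheme.ΓSpecIso_inv_naturality, ConcreteCategory.comp_apply, hb]
  exact congrArg (fun φ => (ConcreteCategory.hom φ) c) (Scheme.ΓSpecIso (S.residueField s)).hom_inv_id

theorem fromNhd_all (h : T ⟶ S) [IsAffineHom h] (s : S) (z : Γ(h.fiber s, ⊤)) : FromNhd h s z := by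
  obtain ⟨_, ⟨U : S.Opens, hU, rfl⟩, hsU, -⟩ :=
    S.isBasis_affineOpens.exists_subset_of_mem_open (Set.mem_univ s) isOpen_univ
  haveI : IsAffine (U : Scheme.{u}) := hU
  haveI : IsAffine ((h ⁻¹ᵁ U : T.Opens) : Scheme.{u}) := hU.preimage h
  have hι : Set.range (h.fiberι s) ⊆ Set.range (h ⁻¹ᵁ U).ι := by
    rintro _ ⟨y, rfl⟩
    rw [Scheme.Opens.range_ι]
    exact top_le_fiber_preimage h s hsU (trivial : y ∈ (⊤ : (h.fiber s).Opens))
  let a : h.fiber s ⟶ (h ⁻¹ᵁ U).toScheme := IsOpenImmersion.lift (h ⁻¹ᵁ U).ι (h.fiberι s) hι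
  have ha : a ≫ (h ⁻¹ᵁ U).ι = h.fiberι s := IsOpenImmersion.lift_fac _ _ _
  let b : Spec (S.residueField s) ⟶ U.toScheme := IsOpenImmersion.lift U.ι (S.fromSpecResidueField s) (by
    rw [Scheme.range_fromSpecResidueField, Scheme.Opens.range_ι]
    exact Set.singleton_subset_iff.2 hsU)
  have hb : b ≫ U.ι = S.fromSpecResidueField s := IsOpenImmersion.lift_fac _ _ _
  have hw : a ≫ (h ∣_ U) = h.fiberToSpecResidueField s ≫ b := by
    rw [← cancel_mono U.ι, Category.assoc, Category.assoc, morphismRestrict_ι, ← Category.assoc, ha, hb]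
    exact h.fiber_fac s
  have hsq : IsPullback a (h.fiberToSpecResidueField s) (h ∣_ U) b := by
    refine IsPullback.of_right ?_ hw (isPullback_morphismRestrict h U).flip
    rw [ha, hb]
    exact IsPullback.of_hasPullback h (S.fromSpecResidueField s)
  refine eq_top_of_isPushout (isPushout_appTop_of_isPullback hsq) (fromNhdSubring h s) (fun t => ?_)
    (fun c => ?_) z
  · refine ⟨U, hsU, top_le_fiber_preimage h s hsU, (h ⁻¹ᵁ U).topIso.hom t, ?_⟩
    have e2 : ⊤ ≤ (h ⁻¹ᵁ U).ι ⁻¹ᵁ (h ⁻¹ᵁ U) := by simp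
    have h1 : (h ⁻¹ᵁ U).topIso.hom ≫ (h ⁻¹ᵁ U).ι.appLE (h ⁻¹ᵁ U) ⊤ e2 = 𝟙 _ := by
      simp only [Scheme.Opens.topIso, Scheme.Opens.ι_appLE, Functor.mapIso_hom]
      erw [← Functor.map_comp]
      exact (congrArg T.presheaf.map (Subsingleton.elim _ (𝟙 _))).trans (CategoryTheory.Functor.map_id _ _)
    have h2 : (h.fiberι s).appLE (h ⁻¹ᵁ U) ⊤ (top_le_fiber_preimage h s hsU) =
        (h ⁻¹ᵁ U).ι.appLE (h ⁻¹ᵁ U) ⊤ e2 ≫ a.appLE ⊤ ⊤ le_top := by
      rw [Scheme.Hom.appLE_comp_appLE]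
      simp only [ha]
    rw [h2, ConcreteCategory.comp_apply, ← ConcreteCategory.comp_apply (h ⁻¹ᵁ U).topIso.hom, h1,
      ← appTop_eq_appLE']
    rfl
  · obtain ⟨V, hs, a', e, ha'⟩ := exists_section_residueField S s c
    refine ⟨V, hs, top_le_fiber_preimage h s hs, h.app V a', ?_⟩
    have h2 : h.app V ≫ (h.fiberι s).appLE (h ⁻¹ᵁ V) ⊤ (top_le_fiber_preimage h s hs) =
        (S.fromSpecResidueField s).appLE V ⊤ e ≫ (h.fiberToSpecResidueField s).appTop := by
      rw [h.app_eq_appLE, appTop_eq_appLE', Scheme.Hom.appLE_comp_appLE, Scheme.Hom.appLE_comp_appLE]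
      simp only [h.fiber_fac s]
    rw [← ConcreteCategory.comp_apply, h2, ConcreteCategory.comp_apply, ha']

theorem eq_of_isIdempotentElem_of_basicOpen_eq {Y : Scheme.{u}} {U : Y.Opens} {e e' : Γ(Y, U)}
    (he : IsIdempotentElem e) (he' : IsIdempotentElem e') (h : Y.basicOpen e = Y.basicOpen e') : e = e' := by
  refine TopCat.Presheaf.section_ext Y.sheaf U e e' fun y hy => ?_
  have key : ∀ {a : Γ(Y, U)}, IsIdempotentElem a →
      (y ∈ Y.basicOpen a → Y.presheaf.germ U y hy a = 1) ∧ (y ∉ Y.basicOpen a → Y.presheaf.germ U y hy a = 0) := by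
    intro a ha
    have hi : IsIdempotentElem (Y.presheaf.germ U y hy a) := by
      show _ * _ = _
      rw [← map_mul, ha.eq]
    rw [Y.mem_basicOpen _ _ hy]
    refine ⟨fun hu => hu.mul_left_cancel (by rw [hi.eq, mul_one]), fun hu => ?_⟩
    have hu' := (IsLocalRing.isUnit_or_isUnit_one_sub_self (Y.presheaf.germ U y hy a)).resolve_left hu
    exact hu'.mul_right_eq_zero.1 (by rw [sub_mul, one_mul, hi.eq, sub_self])
  show Y.presheaf.germ U y hy e = Y.presheaf.germ U y hy e'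
  by_cases hy' : y ∈ Y.basicOpen e
  · rw [(key he).1 hy', (key he').1 (h ▸ hy')]
  · rw [(key he).2 hy', (key he').2 (h ▸ hy')]

theorem exists_idempotent_of_isClopen {Y : Scheme.{u}} [IsAffine Y] {D : Set Y} (hD : IsClopen D) :
    ∃ e : Γ(Y, ⊤), IsIdempotentElem e ∧ (Y.basicOpen e : Set Y) = D := by
  have hY : IsAffineOpen (⊤ : Y.Opens) := isAffineOpen_top Y
  obtain ⟨e, he, he'⟩ := PrimeSpectrum.exists_idempotent_basicOpen_eq_of_isClopen
    (hD.preimage hY.fromSpec.continuous)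
  refine ⟨e, he, Set.ext fun y => ?_⟩
  obtain ⟨z, rfl⟩ : y ∈ Set.range hY.fromSpec := by
    rw [hY.range_fromSpec]
    exact Set.mem_univ y
  have h1 : z ∈ hY.fromSpec ⁻¹ᵁ Y.basicOpen e ↔ z ∈ PrimeSpectrum.basicOpen e := by
    rw [hY.fromSpec_preimage_basicOpen]; rfl
  exact h1.trans (Set.ext_iff.1 he' z).symm

theorem exists_lift_of_idempotent (g : X ⟶ T) (h : T ⟶ S) [IsAffineHom h] (hclosed : IsClosedMap g)
    (hsurj : Function.Surjective g) (hconn : ∀ y, _root_.IsPreconnected (g ⁻¹' {y})) (s : S)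
    (e : Γ((g ≫ h).fiber s, ⊤)) (he : IsIdempotentElem e) :
    ∃ (V : S.Opens) (_ : s ∈ V) (t : Γ(X, (g ≫ h) ⁻¹ᵁ V)),
      ((g ≫ h).fiberι s).app ((g ≫ h) ⁻¹ᵁ V) t =
        ((g ≫ h).fiber s).presheaf.map (homOfLE le_top).op e := by
  let Z := (g ≫ h).fiber s
  let φ : Z ⟶ h.fiber s := pullback.map (g ≫ h) (S.fromSpecResidueField s) h (S.fromSpecResidueField s) g (𝟙 _) (𝟙 _)
    (by simp) (by simp)
  let ι : Z ⟶ X := (g ≫ h).fiberι s
  have hφ : φ ≫ h.fiberι s = ι ≫ g := pullback.lift_fst _ _ _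
  have hφ' : ∀ y, h.fiberι s (φ y) = g (ι y) := fun y => by
    rw [← Scheme.Hom.comp_apply, hφ, Scheme.Hom.comp_apply]
  have hι := ι.isEmbedding
  have hιT := (h.fiberι s).isEmbedding
  have hlift : ∀ (y : ↥(h.fiber s)) (x : X), g x = h.fiberι s y → ∃ z, ι z = x ∧ φ z = y := fun y x hx => by
    have h1 : x ∈ Set.range ι := by
      rw [(g ≫ h).range_fiberι]
      show h (g x) = s
      rw [hx]
      exact (h.range_fiberι s).le ⟨y, rfl⟩
    obtain ⟨z, rfl⟩ := h1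
    exact ⟨z, rfl, hιT.injective ((hφ' z).trans hx)⟩
  have hφc : IsClosedMap φ := fun K hK => by
    obtain ⟨K₀, hK₀, rfl⟩ := hι.isClosed_iff.1 hK
    convert (hclosed K₀ hK₀).preimage (h.fiberι s).continuous using 1
    ext y
    constructor
    · rintro ⟨z, hz, rfl⟩
      exact ⟨ι z, hz, (hφ' z).symm⟩
    · rintro ⟨x, hx, hxy⟩
      obtain ⟨z, rfl, rfl⟩ := hlift y x hxy
      exact ⟨z, hx, rfl⟩
  have hφconn : ∀ y, _root_.IsPreconnected (φ ⁻¹' {y}) := fun y => by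
    rw [← hι.isInducing.isPreconnected_image]
    convert hconn (h.fiberι s y) using 1
    ext x
    constructor
    · rintro ⟨z, hz, rfl⟩
      exact (hφ' z).symm.trans (congrArg _ hz)
    · intro hx
      obtain ⟨z, rfl, rfl⟩ := hlift y x hx
      exact ⟨z, rfl, rfl⟩
  let C : Set Z := Z.basicOpen e
  have hC : IsClopen C := by
    refine ⟨⟨?_⟩, (Z.basicOpen e).2⟩
    have : Cᶜ = (Z.basicOpen (1 - e) : Set Z) := by
      ext z
      show ¬ z ∈ Z.basicOpen e ↔ z ∈ Z.basicOpen (1 - e)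
      have hz : z ∈ (⊤ : Z.Opens) := trivial
      rw [Z.mem_basicOpen _ _ hz, Z.mem_basicOpen _ _ hz, map_sub, map_one]
      refine ⟨fun h => (IsLocalRing.isUnit_or_isUnit_one_sub_self _).resolve_left h, fun h h' => ?_⟩
      have h0 : (1 - Z.presheaf.germ ⊤ z hz e) * Z.presheaf.germ ⊤ z hz e = 0 := by
        rw [sub_mul, one_mul, ← map_mul, he.eq, sub_self]
      exact not_isUnit_zero (h0 ▸ h.mul h')
    rw [this]
    exact (Z.basicOpen (1 - e)).2
  let D := φ '' C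
  have hCD : φ ⁻¹' D = C := by
    refine Set.Subset.antisymm ?_ (Set.subset_preimage_image _ _)
    rintro z ⟨z', hz', hzz'⟩
    exact (hφconn (φ z)).subset_isClopen hC ⟨z', hzz', hz'⟩ rfl
  have hφs : Function.Surjective φ := fun y => by
    obtain ⟨x, hx⟩ := hsurj (h.fiberι s y)
    obtain ⟨z, -, hz⟩ := hlift y x hx
    exact ⟨z, hz⟩
  have hD : IsClopen D := by
    refine ⟨hφc _ hC.1, ?_⟩
    have : Dᶜ = φ '' Cᶜ := by
      ext y
      obtain ⟨z, rfl⟩ := hφs y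
      refine ⟨fun h => ⟨z, fun hz => h ⟨z, hz, rfl⟩, rfl⟩, ?_⟩
      rintro ⟨z', hz', hzz'⟩ hy
      exact hz' (hCD.le (show φ z' ∈ D by rw [hzz']; exact hy))
    rw [← isClosed_compl_iff, this]
    exact hφc _ hC.2.isClosed_compl
  obtain ⟨e', he', he'D⟩ := exists_idempotent_of_isClopen hD
  have heq : φ.appTop e' = e := by
    refine eq_of_isIdempotentElem_of_basicOpen_eq (by show _ * _ = _; rw [← map_mul, he'.eq]) he
      (Opens.ext ?_)
    have h1 : φ ⁻¹ᵁ (h.fiber s).basicOpen e' = Z.basicOpen (φ.appTop e') := Scheme.preimage_basicOpen φ e'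
    rw [← h1, Scheme.Hom.coe_preimage, he'D]
    exact hCD
  obtain ⟨V, hV, eV, t, ht⟩ := fromNhd_all h s e'
  refine ⟨V, hV, g.app (h ⁻¹ᵁ V) t, ?_⟩
  have hle : (⊤ : Z.Opens) ≤ ι ⁻¹ᵁ ((g ≫ h) ⁻¹ᵁ V) := top_le_fiber_preimage (g ≫ h) s hV
  have h1 : g.app (h ⁻¹ᵁ V) ≫ ι.appLE ((g ≫ h) ⁻¹ᵁ V) ⊤ hle =
      (h.fiberι s).appLE (h ⁻¹ᵁ V) ⊤ eV ≫ φ.appTop := by
    rw [g.app_eq_appLE, appTop_eq_appLE']
    erw [Scheme.Hom.appLE_comp_appLE, Scheme.Hom.appLE_comp_appLE]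
    simp only [hφ]
  have h2 := congrArg (fun ψ => (ConcreteCategory.hom ψ) t) h1
  simp only [ConcreteCategory.comp_apply] at h2
  rw [ht, heq] at h2
  rw [← h2, Scheme.Hom.appLE]
  show _ = Z.presheaf.map _ (Z.presheaf.map _ ((ι.app _) (g.app _ t)))
  have hid : ∀ {W : Z.Opens} (i j : W ⟶ ⊤) (k : ⊤ ⟶ W) (x : Γ(Z, W)),
      Z.presheaf.map j.op (Z.presheaf.map k.op x) = x := fun i j k x => by
    rw [← ConcreteCategory.comp_apply, ← Functor.map_comp, Subsingleton.elim (k.op ≫ j.op) (𝟙 _),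
      CategoryTheory.Functor.map_id]
    rfl
  exact (hid (homOfLE le_top) _ _ _).symm

theorem exists_lift_of_idempotent_fac {f : X ⟶ S} (g : X ⟶ T) (h : T ⟶ S) (hf : g ≫ h = f) [IsAffineHom h]
    (hclosed : IsClosedMap g) (hsurj : Function.Surjective g) (hconn : ∀ y, _root_.IsPreconnected (g ⁻¹' {y}))
    (s : S) (e : Γ(f.fiber s, ⊤)) (he : IsIdempotentElem e) :
    ∃ (V : S.Opens) (_ : s ∈ V) (t : Γ(X, f ⁻¹ᵁ V)),
      (f.fiberι s).app (f ⁻¹ᵁ V) t = (f.fiber s).presheaf.map (homOfLE le_top).op e := by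
  subst hf
  exact exists_lift_of_idempotent g h hclosed hsurj hconn s e he

end Groth.Agent.GE14
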