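import Groth.Agent.GE14.SectPull
import Groth.Agent.FF71.Main
import Groth.Agent.Formal27.HomCompl
import Groth.Agent.QC70.Coherent

/-!
Global sections on a proper scheme over a Noetherian ring: reductions, and maps from the base.
-/

set_option autoImplicit false
set_option linter.style.haveILetI false
set_option linter.unusedSectionVars false
set_option backward.isDefEq.respectTransparency.types false
set_option maxSynthPendingDepth 6

universe u

open CategoryTheory CategoryTheory.Limits AlgebraicGeometry Opposite TopologicalSpace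

noncomputable section

namespace Groth.Agent.GE14

open Formal27 Var76.LineBundle Var76.ZeroScheme Amp73

variable {B : Type u} [CommRing B] [IsNoetherianRing B] {Z : Scheme.{u}} [Z.Over (Spec (CommRingCat.of B))]

theorem h0_smul (M : Z.Modules) (b : B) (x : Coh.HH Z M 0) : h0 M (b • x) = gi B Z ⊤ b • h0 M x := by
  show h0 M (Sheaf.H.map (Coh.smulAb M (Coh.toGlobal (Z ↘ Spec (CommRingCat.of B)) b)) 0 x) = _
  refine (Sheaf.H.equiv₀_naturality (CategoryTheory.Limits.isTerminalTop (α := Z.Opens))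
    (Coh.smulAb M (Coh.toGlobal (Z ↘ Spec (CommRingCat.of B)) b)) x).symm.trans ?_
  rfl

variable [IsProper (Z ↘ Spec (CommRingCat.of B))] (J : Ideal B) {M : Z.Modules}

theorem exists_sect_ker_bound (hM : Coh.IsCoh M) : ∃ d, ∀ n (x : Γ(M, (⊤ : Z.Opens))),
    (Formal.modPowπ J (n + 1) M).app ⊤ x = 0 → x ∈ IM M (J ^ (n + 1 - d)) ⊤ := by
  obtain ⟨d, hd⟩ := FF71.exists_R_subset J M hM 0
  refine ⟨d, fun n x hx => ?_⟩
  by_cases hn : d ≤ n + 1
  · have h := (hd n hn).1 ((h0 M).symm x) ((h0 _).injective ((h0_map _ _).trans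
      (((congrArg _ ((h0 M).apply_symm_apply x)).trans hx).trans (map_zero _).symm)))
    have key : ∀ y ∈ J ^ (n + 1 - d) • (⊤ : Submodule B (Coh.HH Z M 0)), h0 M y ∈ IM M (J ^ (n + 1 - d)) ⊤ := by
      intro y hy
      refine Submodule.smul_induction_on hy (fun a ha y _ => ?_) fun y y' hy hy' => ?_
      · rw [h0_smul]
        exact smul_mem_IM ha _
      · rw [map_add]
        exact add_mem hy hy'
    rw [← (h0 M).apply_symm_apply x]
    exact key _ h
  · rw [Nat.sub_eq_zero_of_le (by omega), pow_zero, Ideal.one_eq_top]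
    have h1 : (⊤ : Ideal B).map (gi B Z ⊤) = ⊤ := Ideal.map_top _
    rw [IM, h1, Submodule.top_smul]
    trivial

theorem exists_sect_of_compatible (hM : Coh.IsCoh M) (σ : ∀ n, Γ(Formal.modPow J (n + 1) M, (⊤ : Z.Opens)))
    (hσ : ∀ n, (Formal.modPowTrans J (n + 1) M).app ⊤ (σ (n + 1)) = σ n) (n : ℕ) :
    ∃ s, (Formal.modPowπ J (n + 1) M).app ⊤ s = σ n := by
  let y : Formal.HHlim J M 0 := ⟨fun n => (h0 _).symm (σ n), fun n => (h0 _).injective
    ((h0_map _ _).trans ((congrArg _ ((h0 _).apply_symm_apply _)).trans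
      ((hσ n).trans ((h0 _).apply_symm_apply _).symm)))⟩
  obtain ⟨h, hh⟩ := FF71.exists_preimage J M hM 0 y n
  refine ⟨h0 M h, (h0_map _ h).symm.trans ?_⟩
  exact (congrArg (h0 _) hh).trans ((h0 _).apply_symm_apply _)

theorem exists_gen_sections (hM : Coh.IsCoh M) : ∃ (r : ℕ) (e : Fin r → Γ(M, (⊤ : Z.Opens))),
    ∀ x, ∃ b : Fin r → B, x = ∑ i, gi B Z ⊤ (b i) • e i := by
  haveI := Serre71.finite_hh_of_isProper B M hM 0
  obtain ⟨r, s, hs⟩ := Module.Finite.exists_fin (R := B) (M := Coh.HH Z M 0)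
  refine ⟨r, fun i => h0 M (s i), fun x => ?_⟩
  have hmem : (h0 M).symm x ∈ Submodule.span B (Set.range s) := by rw [hs]; trivial
  obtain ⟨b, hb⟩ := (Submodule.mem_span_range_iff_exists_fun B).1 hmem
  refine ⟨b, ?_⟩
  rw [← (h0 M).apply_symm_apply x, ← hb, map_sum]
  simp only [h0_smul, AddEquiv.apply_symm_apply]

variable {N : (Spec (CommRingCat.of B)).Modules} (g : B)

/-- The basic open of `g` in the spectrum. -/
abbrev dOpen : (Spec (CommRingCat.of B)).Opens :=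
  letI : (Spec (CommRingCat.of B)).Over (Spec (CommRingCat.of B)) := ⟨𝟙 _⟩
  (Spec (CommRingCat.of B)).basicOpen (gi B (Spec (CommRingCat.of B)) ⊤ g)

theorem app_gi_self (V : (Spec (CommRingCat.of B)).Opens) (b : B) :
    letI : (Spec (CommRingCat.of B)).Over (Spec (CommRingCat.of B)) := ⟨𝟙 _⟩
    (Z ↘ Spec (CommRingCat.of B)).app V (gi B (Spec (CommRingCat.of B)) V b) =
      gi B Z ((Z ↘ Spec (CommRingCat.of B)) ⁻¹ᵁ V) b := by
  letI : (Spec (CommRingCat.of B)).Over (Spec (CommRingCat.of B)) := ⟨𝟙 _⟩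
  refine (app_gi (Z ↘ Spec (CommRingCat.of B)) (RingHom.id B) ?_ V b).trans rfl
  show _ ≫ Spec.map (𝟙 (CommRingCat.of B)) = _
  rw [Spec.map_id]
  rfl

variable [IsIso ((Z ↘ Spec (CommRingCat.of B)) ∣_ dOpen g)]

theorem pullS_bijective_dOpen : Function.Bijective (pullS (Z ↘ Spec (CommRingCat.of B)) N (dOpen g)) := by
  set s := Z ↘ Spec (CommRingCat.of B)
  set D := dOpen g
  haveI : IsOpenImmersion ((s ⁻¹ᵁ D).ι ≫ s) := by
    rw [← morphismRestrict_ι]
    infer_instance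
  have hD : D ≤ ((s ⁻¹ᵁ D).ι ≫ s).opensRange := fun x hx => by
    obtain ⟨y, hy⟩ := (s ∣_ D).homeomorph.surjective ⟨x, hx⟩
    refine ⟨y, ?_⟩
    rw [← morphismRestrict_ι]
    exact congrArg Subtype.val hy
  have h1 := pullS_bijective_openImm ((s ⁻¹ᵁ D).ι ≫ s) N hD
  have h2 := pullS_bijective_openImm (s ⁻¹ᵁ D).ι ((Scheme.Modules.pullback s).obj N)
    (show s ⁻¹ᵁ D ≤ (s ⁻¹ᵁ D).ι.opensRange from (s ⁻¹ᵁ D).opensRange_ι.ge)
  haveI : IsIso (((Scheme.Modules.pullbackComp (s ⁻¹ᵁ D).ι s).inv.app N).app (((s ⁻¹ᵁ D).ι ≫ s) ⁻¹ᵁ D)) :=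
    Scheme.Modules.Hom.isIso_iff_isIso_app.1
      (inferInstance : IsIso ((Scheme.Modules.pullbackComp (s ⁻¹ᵁ D).ι s).inv.app N)) _
  have h3 := ((ConcreteCategory.isIso_iff_bijective
    (((Scheme.Modules.pullbackComp (s ⁻¹ᵁ D).ι s).inv.app N).app (((s ⁻¹ᵁ D).ι ≫ s) ⁻¹ᵁ D))).1
      inferInstance).comp h1
  refine (Function.Bijective.of_comp_iff' h2 _).1 ?_
  exact (congrArg Function.Bijective (funext fun n => Props58.PullTensor.pullS_comp (s ⁻¹ᵁ D).ι s N D n)).mp h3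

theorem exists_pow_coker_pullS [N.IsQuasicoherent] (z : Γ((Scheme.Modules.pullback (Z ↘ Spec (CommRingCat.of B))).obj N, (⊤ : Z.Opens))) :
    ∃ (k : ℕ) (m : Γ(N, (⊤ : (Spec (CommRingCat.of B)).Opens))),
      gi B Z ⊤ (g ^ k) • z = pullS (Z ↘ Spec (CommRingCat.of B)) N ⊤ m := by
  letI : (Spec (CommRingCat.of B)).Over (Spec (CommRingCat.of B)) := ⟨𝟙 _⟩
  haveI : CompactSpace Z := QuasiCompact.compactSpace_of_compactSpace (Z ↘ Spec (CommRingCat.of B))
  haveI : ((Scheme.Modules.pullback (Z ↘ Spec (CommRingCat.of B))).obj N).IsQuasicoherent :=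
    QCPull72.isQuasicoherent_pullback _ N
  let s := Z ↘ Spec (CommRingCat.of B)
  let gg : Γ(Spec (CommRingCat.of B), (⊤ : (Spec (CommRingCat.of B)).Opens)) := gi B (Spec (CommRingCat.of B)) ⊤ g
  have hsg : s.app ⊤ gg = gi B Z ⊤ g := app_gi_self (Z := Z) ⊤ g
  have hE : s ⁻¹ᵁ dOpen g = Z.basicOpen (gi B Z ⊤ g) := by
    rw [← hsg]
    exact Scheme.preimage_basicOpen s gg
  obtain ⟨d, hd⟩ := (pullS_bijective_dOpen (N := N) g).2 (res _ le_top z)
  obtain ⟨n, t, ht⟩ := Coh69.qcoh_exists_pow_smul_eq_res (M := N) (isAffineOpen_top _) gg d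
  let t' : Γ((Scheme.Modules.pullback s).obj N, (⊤ : Z.Opens)) := pullS s N ⊤ t
  let y : Γ((Scheme.Modules.pullback s).obj N, (⊤ : Z.Opens)) := gi B Z ⊤ (g ^ n) • z - t'
  have hy : res _ (le_top : s ⁻¹ᵁ dOpen g ≤ ⊤) y = 0 := by
    have e1 : res ((Scheme.Modules.pullback s).obj N) (le_top : s ⁻¹ᵁ dOpen g ≤ ⊤) (pullS s N ⊤ t) =
        gi B Z (s ⁻¹ᵁ dOpen g) (g ^ n) • res _ (le_top : s ⁻¹ᵁ dOpen g ≤ ⊤) z := by
      refine (res_pullS s N (le_top : dOpen g ≤ ⊤) t).trans ((congrArg (pullS s N (dOpen g)) ht).trans ?_)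
      rw [pullS_smul, hd, map_pow, map_pow]
      refine congrArg (fun r => r ^ n • _) ?_
      refine Eq.trans ?_ (app_gi_self (Z := Z) (dOpen g) g)
      exact congrArg _ (res_gi (le_top : dOpen g ≤ ⊤) g)
    change (((Scheme.Modules.pullback s).obj N).presheaf.map
      (homOfLE (le_top : s ⁻¹ᵁ dOpen g ≤ ⊤)).op) (gi B Z ⊤ (g ^ n) • z - t') = 0
    refine (map_sub (((Scheme.Modules.pullback s).obj N).presheaf.map
      (homOfLE (le_top : s ⁻¹ᵁ dOpen g ≤ ⊤)).op).hom _ _).trans (sub_eq_zero.2 ?_)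
    refine Eq.trans ?_ e1.symm
    refine (res_smul _ _ _ _).trans ?_
    exact congrArg (· • _) (res_gi (le_top : s ⁻¹ᵁ dOpen g ≤ ⊤) (g ^ n))
  obtain ⟨k, hk⟩ := exists_pow_smul_eq_zero_of_res ((Scheme.Modules.pullback s).obj N) (gi B Z ⊤ g) y
    (by rw [← res_res _ (le_top : s ⁻¹ᵁ dOpen g ≤ ⊤) hE.ge y, hy]; exact map_zero _)
  refine ⟨k + n, gg ^ k • t, ?_⟩
  have hc : s.app ⊤ (gg ^ k) = gi B Z ⊤ g ^ k := (map_pow (s.app ⊤).hom gg k).trans (congrArg (· ^ k) hsg)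
  refine Eq.trans ?_ (pullS_smul s N ⊤ (gg ^ k) t).symm
  refine Eq.trans ?_ (congrArg (fun r : Γ(Z, (⊤ : Z.Opens)) => r • t') hc).symm
  rw [pow_add, map_mul, mul_smul, map_pow (gi B Z ⊤) g k]
  exact sub_eq_zero.1 ((smul_sub _ _ _).symm.trans hk)

theorem exists_pow_ker_pullS [N.IsQuasicoherent] (m : Γ(N, (⊤ : (Spec (CommRingCat.of B)).Opens)))
    (hm : pullS (Z ↘ Spec (CommRingCat.of B)) N ⊤ m = 0) :
    letI : (Spec (CommRingCat.of B)).Over (Spec (CommRingCat.of B)) := ⟨𝟙 _⟩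
    ∃ k : ℕ, gi B (Spec (CommRingCat.of B)) ⊤ (g ^ k) • m = 0 := by
  letI : (Spec (CommRingCat.of B)).Over (Spec (CommRingCat.of B)) := ⟨𝟙 _⟩
  let s := Z ↘ Spec (CommRingCat.of B)
  let gg : Γ(Spec (CommRingCat.of B), (⊤ : (Spec (CommRingCat.of B)).Opens)) := gi B (Spec (CommRingCat.of B)) ⊤ g
  have h0' : res N (le_top : dOpen g ≤ ⊤) m = 0 := by
    refine (pullS_bijective_dOpen (Z := Z) (N := N) g).1 ?_
    refine (res_pullS s N (le_top : dOpen g ≤ ⊤) m).symm.trans ?_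
    rw [hm]
    exact (map_zero _).trans (map_zero (((Scheme.Modules.pullbackPushforwardAdjunction s).unit.app N).app _).hom).symm
  obtain ⟨k, hk⟩ := Coh69.qcoh_exists_pow_smul_eq_zero (M := N) (isAffineOpen_top _) gg m h0'
  exact ⟨k, by rw [map_pow]; exact hk⟩

end Groth.Agent.GE14
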