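import Groth.Agent.Algz14.RelInst
import Groth.Agent.Algz14.Completion
import Groth.Agent.Formal27.Pullback

/-!
Quotients by powers of an ideal under left adjoints compatible with the scalars.
-/

set_option autoImplicit false
set_option linter.style.haveILetI false
set_option linter.unusedSectionVars false

universe u

open CategoryTheory CategoryTheory.Limits AlgebraicGeometry Opposite

noncomputable section

namespace Groth.Agent.GE14

open Formal27

variable {A B : Type u} [CommRing A] [CommRing B]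

theorem toGlobal_comp_specMap {Z : Scheme.{u}} (s : Z ⟶ Spec (CommRingCat.of B)) (φ : A →+* B) (a : A) :
    Coh.toGlobal (s ≫ Spec.map (CommRingCat.ofHom φ)) a = Coh.toGlobal s (φ a) := by
  have h := congrArg (fun t => t.hom a) (Scheme.ΓSpecIso_inv_naturality (CommRingCat.ofHom φ))
  simp only [Coh.toGlobal, Scheme.Hom.comp_appTop, CommRingCat.hom_comp, RingHom.coe_comp, Function.comp_apply]
  exact congrArg _ h.symm

variable {X' X : Scheme.{u}} [X'.Over (Spec (CommRingCat.of B))] [X.Over (Spec (CommRingCat.of A))]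

section Hom

variable (g : X' ⟶ X) (φ : A →+* B)
  (hg : (X' ↘ Spec (CommRingCat.of B)) ≫ Spec.map (CommRingCat.ofHom φ) = g ≫ (X ↘ Spec (CommRingCat.of A)))

include hg in
theorem app_gi (V : X.Opens) (a : A) : g.app V (gi A X V a) = gi B X' (g ⁻¹ᵁ V) (φ a) := by
  show _ = (X'.presheaf.map _).hom (Coh.toGlobal (X' ↘ Spec (CommRingCat.of B)) (φ a))
  rw [← toGlobal_comp_specMap, hg]
  simp only [gi, Coh.toGlobal, RingHom.coe_comp, Function.comp_apply, Scheme.Hom.comp_appTop,
    CommRingCat.hom_comp]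
  exact ConcreteCategory.congr_hom (g.naturality (homOfLE (le_top : V ≤ ⊤)).op) _

include hg in
theorem pullback_map_smulMod' (M : X.Modules) (a : A) :
    (Scheme.Modules.pullback g).map (Formal.smulMod A M a) =
      Formal.smulMod B ((Scheme.Modules.pullback g).obj M) (φ a) := by
  letI : X'.Over (Spec (CommRingCat.of A)) := ⟨g ≫ (X ↘ Spec (CommRingCat.of A))⟩
  rw [pullback_map_smulMod g rfl]
  exact congrArg (Formal.smulModΓ _) ((congrArg (fun s => Coh.toGlobal s a) hg.symm).trans
    (toGlobal_comp_specMap _ φ a))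

end Hom

variable (φ : A →+* B) {Φ : X.Modules ⥤ X'.Modules} {Ψ : X'.Modules ⥤ X.Modules} (adj : Φ ⊣ Ψ)
  [Φ.PreservesZeroMorphisms] [Ψ.PreservesZeroMorphisms]
  (hΦ : ∀ (M : X.Modules) (a : A), Φ.map (Formal.smulMod A M a) = Formal.smulMod B (Φ.obj M) (φ a))

include hΦ in
/-- Scalars killed after applying the functor. -/
theorem smulMod_comp_eq_zero {J : Ideal A} (M : X.Modules) {Z : X'.Modules} (t : Φ.obj M ⟶ Z)
    (h : ∀ a ∈ J, Φ.map (Formal.smulMod A M a) ≫ t = 0) :
    ∀ b ∈ J.map φ, Formal.smulMod B (Φ.obj M) b ≫ t = 0 := by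
  intro b hb
  induction hb using Submodule.span_induction with
  | mem x hx =>
    obtain ⟨a, ha, rfl⟩ := hx
    rw [← hΦ]
    exact h a ha
  | zero => rw [smulMod_zero, zero_comp]
  | add x y _ _ hx hy => rw [smulMod_add, Preadditive.add_comp, hx, hy, add_zero]
  | smul c x _ hx => rw [smul_eq_mul, smulMod_mul, ← smulMod_comp, Category.assoc, hx, comp_zero]

include adj hΦ in
theorem exists_modPow_iso (J : Ideal A) (n : ℕ) (M : X.Modules) :
    ∃ ε : Formal.modPow (J.map φ) n (Φ.obj M) ≅ Φ.obj (Formal.modPow J n M),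
      Formal.modPowπ (J.map φ) n (Φ.obj M) ≫ ε.hom = Φ.map (Formal.modPowπ J n M) := by
  haveI : Φ.IsLeftAdjoint := adj.isLeftAdjoint
  haveI : Epi (Formal.modPowπ J n M) := inferInstanceAs (Epi (cokernel.π _))
  haveI : Epi (Φ.map (Formal.modPowπ J n M)) := inferInstance
  have hz : Formal.smulFamily ((J.map φ) ^ n) (Φ.obj M) ≫ Φ.map (Formal.modPowπ J n M) = 0 :=
    smulFamily_comp_eq_zero _ fun b hb => smulMod_comp_eq_zero φ hΦ M _ (J := J ^ n) (fun a ha => by
      rw [← Functor.map_comp, smulMod_modPowπ J n M ha, Functor.map_zero]) b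
      (by rwa [Ideal.map_pow])
  let π' := cokernel.π (Formal.smulFamily ((J.map φ) ^ n) (Φ.obj M))
  have hπ : Formal.smulFamily (J ^ n) M ≫ adj.homEquiv _ _ π' = 0 :=
    smulFamily_comp_eq_zero _ fun a ha => by
      rw [← Adjunction.homEquiv_naturality_left, hΦ]
      have h0 : Formal.smulMod B (Φ.obj M) (φ a) ≫ π' = 0 :=
        smulMod_modPowπ (J.map φ) n _ (by rw [← Ideal.map_pow]; exact Ideal.mem_map_of_mem φ ha)
      rw [h0, Adjunction.homEquiv_unit, Functor.map_zero, comp_zero]
  have hiso := @isIso_desc_of_factor _ _ _ _ _ _ _ _ _ hz inferInstance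
    ((adj.homEquiv _ _).symm (cokernel.desc _ _ hπ : Formal.modPow J n M ⟶ _))
    ((adj.homEquiv_naturality_left_symm (Formal.modPowπ J n M) _).symm.trans
      ((congrArg _ (cokernel.π_desc _ _ _)).trans (Equiv.symm_apply_apply _ _)))
  exact ⟨@asIso _ _ _ _ _ hiso, cokernel.π_desc _ _ _⟩

include adj hΦ in
theorem exists_completion_adjIso (J : Ideal A) (M : X.Modules) :
    ∃ e : Formal.completion (J.map φ) (Φ.obj M) ≅ Formal.completion J M ⋙ Φ,
      ∀ n, Formal.modPowπ (J.map φ) (n + 1) (Φ.obj M) ≫ e.hom.app (op n) =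
        Φ.map (Formal.modPowπ J (n + 1) M) := by
  choose ε hε using fun n : ℕ => exists_modPow_iso φ adj hΦ J (n + 1) M
  refine ⟨NatIso.ofComponents (fun n => ε n.unop) (fun {m n} i => ?_), fun n => hε n⟩
  obtain ⟨m⟩ := m
  obtain ⟨n⟩ := n
  rw [show i = (homOfLE (leOfHom i.unop)).op from Subsingleton.elim _ _]
  haveI : Epi (Formal.modPowπ (J.map φ) (m + 1) (Φ.obj M)) := inferInstanceAs (Epi (cokernel.π _))
  refine (cancel_epi (Formal.modPowπ (J.map φ) (m + 1) (Φ.obj M))).1 ?_
  refine (Category.assoc _ _ _).symm.trans ((congrArg (· ≫ _) (Algz14.completion_map_π _ _)).trans ?_)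
  refine (hε n).trans ?_
  refine Eq.trans ?_ (Category.assoc _ _ _)
  refine Eq.trans ?_ (congrArg (· ≫ _) (hε m)).symm
  refine Eq.trans (congrArg Φ.map (Algz14.completion_map_π M (m := m) (leOfHom i.unop)).symm) ?_
  exact Φ.map_comp _ _

end Groth.Agent.GE14
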