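import Groth.Agent.Algz14.Existence
import Groth.Agent.Algz14.Completion
import Groth.Agent.Algz14.SectTower
import Groth.Agent.QCqs72.Basic
import Groth.Agent.Coh69.QCohLoc
import Groth.Prelude.Def_Wider
import Groth.Prelude.Def_Algz

/-!
Coherent formal systems on a punctured spectrum come from systems of finite modules.
-/

set_option autoImplicit false
set_option linter.style.haveILetI false
set_option linter.unusedSectionVars false
set_option backward.isDefEq.respectTransparency.types false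

universe u

open CategoryTheory CategoryTheory.Limits AlgebraicGeometry Opposite TopologicalSpace

noncomputable section

namespace Groth.Agent.GE14

open Formal27 Algz14

variable {A : Type u} [CommRing A]

local notation "SpA" => Spec (CommRingCat.of A)

section Spec


local instance specOverSelf : (SpA).Over (SpA) := ⟨𝟙 _⟩

theorem smulA_eq (N : (SpA).Modules) (a : A) (x : (Γm A).obj N) :
    a • x = gi A (SpA) ⊤ a • (show Γ(N, ⊤) from x) := (Γ_smulMod N a x).symm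

theorem basicOpen_gi (a : A) :
    (SpA).basicOpen (gi A (SpA) ⊤ a) = (PrimeSpectrum.basicOpen a : (SpA).Opens) := by
  refine Eq.trans ?_ (basicOpen_eq_of_affine (R := CommRingCat.of A) a)
  refine congrArg _ ?_
  show ((SpA).presheaf.map _).hom (Coh.toGlobal (𝟙 (SpA)) a) = _
  simp [Coh.toGlobal]
  rfl

theorem exists_pow_eq_res (N : (SpA).Modules) [N.IsQuasicoherent] (a : A)
    (z : Γ(N, (SpA).basicOpen (gi A (SpA) ⊤ a))) :
    ∃ (k : ℕ) (t : (Γm A).obj N), QC70.res N ((SpA).basicOpen_le (gi A (SpA) ⊤ a)) t =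
      gi A (SpA) ((SpA).basicOpen (gi A (SpA) ⊤ a)) (a ^ k) • z := by
  obtain ⟨k, t, ht⟩ := Coh69.qcoh_exists_pow_smul_eq_res (M := N) (isAffineOpen_top (SpA)) (gi A (SpA) ⊤ a) z
  refine ⟨k, t, ht.trans ?_⟩
  rw [map_pow]
  exact congrArg (fun r : Γ(Spec (CommRingCat.of A), (SpA).basicOpen (gi A (SpA) ⊤ a)) => r ^ k • z) (res_gi le_top a)

theorem exists_pow_eq_zero (N : (SpA).Modules) [N.IsQuasicoherent] (a : A) (t : (Γm A).obj N)
    (ht : QC70.res N ((SpA).basicOpen_le (gi A (SpA) ⊤ a)) t = 0) : ∃ k : ℕ, a ^ k • t = 0 := by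
  obtain ⟨k, hk⟩ := Coh69.qcoh_exists_pow_smul_eq_zero (M := N) (isAffineOpen_top (SpA)) (gi A (SpA) ⊤ a)
    (show Γ(N, ⊤) from t) ht
  refine ⟨k, ?_⟩
  rw [smulA_eq, map_pow]
  exact hk

theorem res_smulA (N : (SpA).Modules) {V : (SpA).Opens} (a : A) (t : (Γm A).obj N) :
    QC70.res N (le_top : V ≤ ⊤) (a • t : (Γm A).obj N) = gi A (SpA) V a • QC70.res N le_top t := by
  rw [smulA_eq]
  refine (QC70.res_smul (M := N) _ _ _).trans ?_
  exact congrArg (· • _) (res_gi le_top a)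

theorem isUnit_gi_basicOpen (a : A) : IsUnit (gi A (SpA) ((SpA).basicOpen (gi A (SpA) ⊤ a)) a) := by
  rw [← res_gi ((SpA).basicOpen_le (gi A (SpA) ⊤ a)) a]
  exact RingedSpace.isUnit_res_basicOpen _ _

end Spec

variable [IsNoetherianRing A]

theorem exists_pow_smul_mem {M : Type u} [AddCommGroup M] [Module A M] {𝔞 : Ideal A} (P : Submodule A M) (x : M)
    (h : ∀ a ∈ 𝔞, ∃ k : ℕ, a ^ k • x ∈ P) : ∃ m : ℕ, ∀ a ∈ 𝔞 ^ m, a • x ∈ P := by
  let J := Submodule.comap (LinearMap.toSpanSingleton A M x) P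
  obtain ⟨m, hm⟩ := Ideal.exists_pow_le_of_le_radical_of_fg (I := 𝔞) (J := J)
    (fun a ha => (h a ha).imp fun k hk => hk) (IsNoetherian.noetherian _)
  exact ⟨m, fun a ha => hm ha⟩

/-- A submodule with torsion cotorsion for the ideal. -/
def IsCotors (𝔞 : Ideal A) {M : Type u} [AddCommGroup M] [Module A M] (N : Submodule A M) : Prop :=
  ∀ y : M, ∀ a ∈ 𝔞, ∃ k : ℕ, a ^ k • y ∈ N

theorem IsCotors.inf_comap {𝔞 : Ideal A} {M M' : Type u} [AddCommGroup M] [Module A M] [AddCommGroup M']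
    [Module A M'] {N : Submodule A M} {N' : Submodule A M'} (h : IsCotors 𝔞 N) (h' : IsCotors 𝔞 N')
    (f : M →ₗ[A] M') : IsCotors 𝔞 (N ⊓ N'.comap f) := fun y a ha => by
  obtain ⟨k, hk⟩ := h y a ha
  obtain ⟨l, hl⟩ := h' (f y) a ha
  refine ⟨l + k, ?_, ?_⟩
  · show _ ∈ N
    rw [pow_add, mul_smul]
    exact N.smul_mem _ hk
  · show f _ ∈ N'
    rw [map_smul, add_comm, pow_add, mul_smul]
    exact N'.smul_mem _ hl

section Punctured

attribute [local instance] specOverSelf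

variable {I 𝔞 : Ideal A}


theorem basicOpen_le_punctured {a : A} (ha : a ∈ 𝔞) : (SpA).basicOpen (gi A (SpA) ⊤ a) ≤ LocCoh.puncturedOpen A 𝔞 := by
  rw [basicOpen_gi]
  exact fun x hx hz => hx (hz ha)

theorem exists_mem_basicOpen {x : SpA} (hx : x ∈ LocCoh.puncturedOpen A 𝔞) : ∃ a ∈ 𝔞, x ∈ (SpA).basicOpen (gi A (SpA) ⊤ a) := by
  obtain ⟨a, ha, hax⟩ := Set.not_subset.1 (fun h => hx ((PrimeSpectrum.mem_zeroLocus _ _).2 h))
  exact ⟨a, ha, by rw [basicOpen_gi]; exact hax⟩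

theorem isQuasicoherent_pushOpen (F : (↑(LocCoh.puncturedOpen A 𝔞) : Scheme.{u}).Modules) [F.IsQuasicoherent] :
    ((Scheme.Modules.pushforward (LocCoh.puncturedOpen A 𝔞).ι).obj F).IsQuasicoherent :=
  QCqs72.isQuasicoherent_pushforward _ _

theorem isAffineOpen_preimage {a : A} (ha : a ∈ 𝔞) :
    IsAffineOpen ((LocCoh.puncturedOpen A 𝔞).ι ⁻¹ᵁ (SpA).basicOpen (gi A (SpA) ⊤ a)) :=
  ((isAffineOpen_top (SpA)).basicOpen _).preimage_of_isOpenImmersion (LocCoh.puncturedOpen A 𝔞).ι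
    (by rw [Scheme.Opens.opensRange_ι]; exact basicOpen_le_punctured ha)

theorem exists_cotors_fg (F : (↑(LocCoh.puncturedOpen A 𝔞) : Scheme.{u}).Modules) (hF : Coh.IsCoh F) :
    ∃ N : Submodule A ((Γm A).obj ((Scheme.Modules.pushforward (LocCoh.puncturedOpen A 𝔞).ι).obj F)), N.FG ∧ IsCotors 𝔞 N := by
  obtain ⟨F', hF', ⟨e⟩⟩ := exists_coh_extension (LocCoh.puncturedOpen A 𝔞) F hF
  haveI := hF'.1
  haveI := hF'.2
  haveI := hF.1
  haveI := isQuasicoherent_pushOpen (𝔞 := 𝔞) F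
  let adj := Scheme.Modules.restrictAdjunction (LocCoh.puncturedOpen A 𝔞).ι
  let e' : (Scheme.Modules.restrictFunctor (LocCoh.puncturedOpen A 𝔞).ι).obj F' ≅ F :=
    (Scheme.Modules.restrictFunctorIsoPullback (LocCoh.puncturedOpen A 𝔞).ι).app F' ≪≫ e
  let θ : F' ⟶ (Scheme.Modules.pushforward (LocCoh.puncturedOpen A 𝔞).ι).obj F := (adj.homEquiv _ _) e'.hom
  let θΓ := ((Γm A).map θ).hom
  haveI : Module.Finite A ((Γm A).obj F') := by
    haveI := isIso_counitm A F' hF'.1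
    refine (isFiniteType_Tm_iff A _).1 ?_
    exact (QC70.isCoh_of_iso (asIso ((adjm A).counit.app F')).symm hF').2
  refine ⟨LinearMap.range θΓ, ?_, fun y a ha => ?_⟩
  · rw [LinearMap.range_eq_map]
    exact (Module.Finite.fg_top).map θΓ
  · let D := (SpA).basicOpen (gi A (SpA) ⊤ a)
    have hiso : IsIso ((Scheme.Modules.restrictFunctor (LocCoh.puncturedOpen A 𝔞).ι).map θ) := by
      have h1 : (Scheme.Modules.restrictFunctor (LocCoh.puncturedOpen A 𝔞).ι).map θ ≫ adj.counit.app F = e'.hom :=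
        (adj.homEquiv_counit _ _ θ).symm.trans (Equiv.symm_apply_apply _ _)
      haveI : IsIso ((Scheme.Modules.restrictFunctor (LocCoh.puncturedOpen A 𝔞).ι).map θ ≫ adj.counit.app F) := by rw [h1]; infer_instance
      exact IsIso.of_isIso_comp_right _ (adj.counit.app F)
    have hD : (LocCoh.puncturedOpen A 𝔞).ι ''ᵁ ((LocCoh.puncturedOpen A 𝔞).ι ⁻¹ᵁ D) = D := by
      rw [Scheme.Hom.image_preimage_eq_opensRange_inf, Scheme.Opens.opensRange_ι,
        inf_eq_right.2 (basicOpen_le_punctured ha)]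
    have hsurj : Function.Surjective (θ.app D) := by
      have h : Function.Surjective
          (((Scheme.Modules.restrictFunctor (LocCoh.puncturedOpen A 𝔞).ι).map θ).app ((LocCoh.puncturedOpen A 𝔞).ι ⁻¹ᵁ D)) := fun z =>
        ⟨(inv ((Scheme.Modules.restrictFunctor (LocCoh.puncturedOpen A 𝔞).ι).map θ)).app _ z,
          congrArg (fun φ => (Scheme.Modules.Hom.app φ ((LocCoh.puncturedOpen A 𝔞).ι ⁻¹ᵁ D)) z)
            (IsIso.inv_hom_id ((Scheme.Modules.restrictFunctor (LocCoh.puncturedOpen A 𝔞).ι).map θ))⟩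
      change Function.Surjective (θ.app ((LocCoh.puncturedOpen A 𝔞).ι ''ᵁ ((LocCoh.puncturedOpen A 𝔞).ι ⁻¹ᵁ D))) at h
      rwa [hD] at h
    obtain ⟨z, hz⟩ := hsurj (QC70.res _ (le_top : D ≤ ⊤) (show Γ((Scheme.Modules.pushforward (LocCoh.puncturedOpen A 𝔞).ι).obj F, ⊤) from y))
    obtain ⟨k, t, ht⟩ := exists_pow_eq_res F' a z
    obtain ⟨l, hl⟩ := exists_pow_eq_zero _ a (θΓ t - a ^ k • y) (by
      refine (map_sub _ _ _).trans (sub_eq_zero.2 ?_)
      refine Eq.trans ?_ (res_smulA _ _ y).symm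
      refine (QC70.app_res θ _ t).symm.trans ?_
      refine (congrArg (θ.app D) ht).trans ?_
      rw [Scheme.Modules.Hom.app_smul, hz])
    refine ⟨l + k, a ^ l • t, ?_⟩
    rw [map_smul, pow_add, mul_smul]
    rwa [smul_sub, sub_eq_zero] at hl

variable {F : ℕᵒᵖ ⥤ (↑(LocCoh.puncturedOpen A 𝔞) : Scheme.{u}).Modules} (hF : Formal.IsCohFormal I F)

/-- The system of modules of sections. -/
abbrev sectA (F : ℕᵒᵖ ⥤ (↑(LocCoh.puncturedOpen A 𝔞) : Scheme.{u}).Modules) (n : ℕ) : ModuleCat.{u} A :=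
  (Γm A).obj ((Scheme.Modules.pushforward (LocCoh.puncturedOpen A 𝔞).ι).obj (F.obj (op n)))

/-- The transition maps of the modules of sections. -/
abbrev sectAMap (F : ℕᵒᵖ ⥤ (↑(LocCoh.puncturedOpen A 𝔞) : Scheme.{u}).Modules) (n : ℕ) : sectA F (n + 1) →ₗ[A] sectA F n :=
  ((Γm A).map ((Scheme.Modules.pushforward (LocCoh.puncturedOpen A 𝔞).ι).map (sysMap F (Nat.le_succ n)))).hom

include hF in
theorem exists_cotors_chain : ∃ N : ∀ n, Submodule A (sectA F n), (∀ n, (N n).FG) ∧ (∀ n, IsCotors 𝔞 (N n)) ∧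
    ∀ n, ∀ x ∈ N (n + 1), sectAMap F n x ∈ N n := by
  choose N₀ hfg₀ hct₀ using fun n => exists_cotors_fg (𝔞 := 𝔞) (F.obj (op n)) (hF.1 n)
  let N : ∀ n, Submodule A (sectA F n) := fun n => Nat.rec (motive := fun n => Submodule A (sectA F n))
    (N₀ 0) (fun n Nn => N₀ (n + 1) ⊓ Nn.comap (sectAMap F n)) n
  refine ⟨N, fun n => ?_, fun n => ?_, fun n x hx => hx.2⟩
  · cases n with
    | zero => exact hfg₀ 0
    | succ n =>
      haveI : IsNoetherian A (N₀ (n + 1)) := isNoetherian_of_fg_of_noetherian _ (hfg₀ (n + 1))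
      exact isNoetherian_submodule.1 this _ (inf_le_left : N (n + 1) ≤ N₀ (n + 1))
  · induction n with
    | zero => exact hct₀ 0
    | succ n ih => exact (hct₀ (n + 1)).inf_comap ih (sectAMap F n)

variable {N : ∀ n, Submodule A ↥(sectA (A := A) (𝔞 := 𝔞) F n)} (hN : ∀ n, IsCotors 𝔞 (N n))
  (hNs : ∀ n, ∀ x ∈ N (n + 1), sectAMap (A := A) (𝔞 := 𝔞) F n x ∈ N n)

/-- The transition maps of the chain. -/
def chainMap (n : ℕ) : N (n + 1) →ₗ[A] N n := (sectAMap F n).restrict (hNs n)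

include hF in
theorem chain_killed (n : ℕ) : I ^ (n + 1) • (⊤ : Submodule A (N n)) = ⊥ := by
  refine le_bot_iff.1 (Submodule.smul_le.2 fun a ha x _ => ?_)
  refine (Submodule.mem_bot A).2 (Subtype.ext ?_)
  show a • x.1 = 0
  refine (Γ_smulMod _ a x.1).symm.trans ?_
  rw [← pushforward_map_smulMod (A := A) (LocCoh.puncturedOpen A 𝔞).ι (Category.comp_id _) (F.obj (op n)) a, hF.2.1 n a ha,
    Functor.map_zero, map_zero_Γ]
  rfl

include hF hN in
theorem chain_coker (n : ℕ) (y : N n) : ∃ m : ℕ, ∀ a ∈ 𝔞 ^ m, a • y ∈ LinearMap.range (chainMap hNs n) := by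
  refine exists_pow_smul_mem _ y fun a ha => ?_
  haveI := (hF.1 (n + 1)).1
  haveI := (hF.1 n).1
  haveI := isQuasicoherent_pushOpen (𝔞 := 𝔞) (F.obj (op n))
  haveI := isQuasicoherent_pushOpen (𝔞 := 𝔞) (F.obj (op (n + 1)))
  let D := (SpA).basicOpen (gi A (SpA) ⊤ a)
  let φ := (Scheme.Modules.pushforward (LocCoh.puncturedOpen A 𝔞).ι).map (sysMap F (Nat.le_succ n))
  obtain ⟨z, hz⟩ : ∃ z, φ.app D z = QC70.res _ (le_top : D ≤ ⊤) (show Γ((Scheme.Modules.pushforward (LocCoh.puncturedOpen A 𝔞).ι).obj (F.obj (op n)), ⊤) from y.1) :=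
    (isTower_sect hF (isAffineOpen_preimage ha)).surj (Nat.le_succ n) _
  obtain ⟨k, t, ht⟩ := exists_pow_eq_res _ a z
  obtain ⟨l, hl⟩ := exists_pow_eq_zero _ a (sectAMap F n t - a ^ k • y.1) (by
    refine (map_sub _ _ _).trans (sub_eq_zero.2 ?_)
    refine Eq.trans ?_ (res_smulA _ _ y.1).symm
    refine (QC70.app_res φ _ t).symm.trans ?_
    refine (congrArg (φ.app D) ht).trans ?_
    rw [Scheme.Modules.Hom.app_smul, hz])
  obtain ⟨m, hm⟩ := hN (n + 1) t a ha
  rw [smul_sub, sub_eq_zero, ← map_smul] at hl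
  refine ⟨m + (l + k), ⟨a ^ l • a ^ m • t, (N (n + 1)).smul_mem _ hm⟩, Subtype.ext ?_⟩
  show sectAMap F n (a ^ l • a ^ m • t) = a ^ (m + (l + k)) • y.1
  rw [smul_comm, map_smul, hl, pow_add, pow_add, mul_smul, mul_smul]

include hF hN in
theorem chain_ker (n : ℕ) (x : N (n + 1)) (hx : chainMap hNs n x = 0) :
    ∃ m : ℕ, ∀ a ∈ 𝔞 ^ m, a • x ∈ I ^ (n + 1) • (⊤ : Submodule A (N (n + 1))) := by
  refine exists_pow_smul_mem _ x fun a ha => ?_
  haveI := (hF.1 (n + 1)).1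
  haveI := isQuasicoherent_pushOpen (𝔞 := 𝔞) (F.obj (op (n + 1)))
  let D := (SpA).basicOpen (gi A (SpA) ⊤ a)
  let P := (Scheme.Modules.pushforward (LocCoh.puncturedOpen A 𝔞).ι).obj (F.obj (op (n + 1)))
  let φ := (Scheme.Modules.pushforward (LocCoh.puncturedOpen A 𝔞).ι).map (sysMap F (Nat.le_succ n))
  let xD : Γ(P, D) := QC70.res P (le_top : D ≤ ⊤) (show Γ(P, ⊤) from x.1)
  have h0 : φ.app D xD = 0 := by
    refine (QC70.app_res φ _ _).trans ?_
    exact (congrArg (QC70.res _ _) (show φ.app ⊤ (show Γ(P, ⊤) from x.1) = 0 from congrArg Subtype.val hx)).trans (map_zero _)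
  have hmem : (show Γ(F.obj (op (n + 1)), (LocCoh.puncturedOpen A 𝔞).ι ⁻¹ᵁ D) from xD) ∈
      IM (F.obj (op (n + 1))) (I ^ (n + 1)) ((LocCoh.puncturedOpen A 𝔞).ι ⁻¹ᵁ D) := by
    have := (isTower_sect hF (isAffineOpen_preimage ha)).ker (Nat.le_succ n) xD h0
    rwa [← IM_eq] at this
  let toP : Γ(F.obj (op (n + 1)), (LocCoh.puncturedOpen A 𝔞).ι ⁻¹ᵁ D) → Γ(P, D) := fun w => w
  have key : ∃ (k : ℕ) (t : N (n + 1)), t ∈ I ^ (n + 1) • (⊤ : Submodule A (N (n + 1))) ∧
      QC70.res P (le_top : D ≤ ⊤) (show Γ(P, ⊤) from t.1) = gi A (SpA) D (a ^ k) • xD := by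
    refine IM_induction (p := fun w : Γ(F.obj (op (n + 1)), (LocCoh.puncturedOpen A 𝔞).ι ⁻¹ᵁ D) =>
      ∃ (k : ℕ) (t : N (n + 1)), t ∈ I ^ (n + 1) • (⊤ : Submodule A (N (n + 1))) ∧
        QC70.res P (le_top : D ≤ ⊤) (show Γ(P, ⊤) from t.1) = gi A (SpA) D (a ^ k) • toP w)
      hmem (fun b hb w => ?_) ⟨0, 0, zero_mem _, (map_zero _).trans (smul_zero (M := Γ(SpA, D)) (A := Γ(P, D)) _).symm⟩ ?_
    · obtain ⟨k, t, ht⟩ := exists_pow_eq_res P a w
      obtain ⟨l, hl⟩ := hN (n + 1) t a ha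
      refine ⟨l + k, b • ⟨a ^ l • t, hl⟩, Submodule.smul_mem_smul hb Submodule.mem_top, ?_⟩
      show QC70.res P _ (b • a ^ l • t : sectA F (n + 1)) = _
      have e : toP (gi A (↑(LocCoh.puncturedOpen A 𝔞) : Scheme.{u}) ((LocCoh.puncturedOpen A 𝔞).ι ⁻¹ᵁ D) b • w) =
          gi A (SpA) D b • toP w :=
        congrArg (fun ψ => (Scheme.Modules.Hom.app ψ D) w)
          (pushforward_map_smulMod (A := A) (LocCoh.puncturedOpen A 𝔞).ι (Category.comp_id _) (F.obj (op (n + 1))) b)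
      rw [e]
      refine (res_smulA P b _).trans ?_
      refine (congrArg (gi A (SpA) D b • ·) ((res_smulA P _ t).trans (congrArg (gi A (SpA) D (a ^ l) • ·) ht))).trans ?_
      rw [smul_smul, smul_smul, smul_smul, ← map_mul, ← map_mul, ← map_mul, pow_add]
      exact congrArg (fun r => gi A (SpA) D r • toP w) (by ring)
    · rintro w w' ⟨k, t, ht, hte⟩ ⟨k', t', ht', hte'⟩
      refine ⟨k + k', a ^ k' • t + a ^ k • t', add_mem (Submodule.smul_mem _ _ ht) (Submodule.smul_mem _ _ ht'), ?_⟩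
      refine (map_add _ _ _).trans ?_
      refine (congrArg₂ (· + ·) ((res_smulA P _ t.1).trans (congrArg (_ • ·) hte))
        ((res_smulA P _ t'.1).trans (congrArg (_ • ·) hte'))).trans ?_
      show _ = gi A (SpA) D (a ^ (k + k')) • (toP w + toP w')
      rw [smul_smul, smul_smul, ← map_mul, ← map_mul, smul_add, pow_add, mul_comm (a ^ k') (a ^ k)]
  obtain ⟨k, t, ht, hte⟩ := key
  obtain ⟨l, hl⟩ := exists_pow_eq_zero P a (a ^ k • x.1 - t.1) (by
    refine (map_sub _ _ _).trans (sub_eq_zero.2 ?_)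
    exact (res_smulA P _ x.1).trans hte.symm)
  refine ⟨l + k, ?_⟩
  rw [smul_sub, sub_eq_zero] at hl
  rw [show a ^ (l + k) • x = a ^ l • t from Subtype.ext (by
    show a ^ (l + k) • x.1 = a ^ l • t.1
    rw [pow_add, mul_smul, hl])]
  exact Submodule.smul_mem _ _ ht

/-- The inclusion of a member of the chain. -/
def chainι (n : ℕ) : ModuleCat.of A (N n) ⟶ sectA F n :=
  ModuleCat.ofHom (R := A) (Y := ↥(sectA F n)) (N n).subtype

/-- The comparison of a chain with the sections. -/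
def chainθ (n : ℕ) : Formal2.tmod A (N n) ⟶ (Scheme.Modules.pushforward (LocCoh.puncturedOpen A 𝔞).ι).obj (F.obj (op n)) :=
  ((adjm A).homEquiv (ModuleCat.of A (N n)) _).symm (chainι (N := N) n)

theorem chainθ_natural (n : ℕ) :
    Formal2.tmodMap A (chainMap hNs n) ≫ chainθ (N := N) n =
      chainθ (N := N) (n + 1) ≫ (Scheme.Modules.pushforward (LocCoh.puncturedOpen A 𝔞).ι).map (sysMap F (Nat.le_succ n)) :=
  ((adjm A).homEquiv_naturality_left_symm (ModuleCat.ofHom (chainMap hNs n)) _).symm.trans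
    ((adjm A).homEquiv_naturality_right_symm (chainι (N := N) (n + 1)) _)

theorem Γ_chainθ (n : ℕ) (y : N n) :
    ((Γm A).map (chainθ (N := N) n)).hom (((adjm A).unit.app (ModuleCat.of A (N n))).hom y) = y.1 :=
  congrArg (fun φ : ModuleCat.of A (N n) ⟶ sectA F n => φ.hom y) (((adjm A).homEquiv_unit _ _ _).symm.trans (Equiv.apply_symm_apply _ _))

include hF hN in
theorem bijective_chainθ (n : ℕ) {a : A} (ha : a ∈ 𝔞) :
    Function.Bijective ((chainθ (N := N) n).app ((SpA).basicOpen (gi A (SpA) ⊤ a))) := by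
  haveI := (hF.1 n).1
  let P := (Scheme.Modules.pushforward (LocCoh.puncturedOpen A 𝔞).ι).obj (F.obj (op n))
  haveI : P.IsQuasicoherent := isQuasicoherent_pushOpen (𝔞 := 𝔞) (F.obj (op n))
  let Q := Formal2.tmod A (N n)
  haveI : Q.IsQuasicoherent := isQuasicoherent_Tm A _
  let D := (SpA).basicOpen (gi A (SpA) ⊤ a)
  let θ := chainθ (N := N) n
  let η := ((adjm A).unit.app (ModuleCat.of A (N n))).hom
  have hη : Function.Bijective η := ConcreteCategory.bijective_of_isIso ((adjm A).unit.app (ModuleCat.of A (N n)))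
  have hres : ∀ y : N n, θ.app D (QC70.res Q (le_top : D ≤ ⊤) (show Γ(Q, ⊤) from η y)) =
      QC70.res P (le_top : D ≤ ⊤) (show Γ(P, ⊤) from y.1) := fun y =>
    (QC70.app_res θ _ _).trans (congrArg (QC70.res P _) (Γ_chainθ n y))
  constructor
  · refine (injective_iff_map_eq_zero _).2 fun z hz => ?_
    obtain ⟨k, t, ht⟩ := exists_pow_eq_res Q a z
    obtain ⟨y, rfl⟩ := hη.2 t
    obtain ⟨l, hl⟩ := exists_pow_eq_zero P a y.1 (by
      refine (hres y).symm.trans ((congrArg (θ.app D) ht).trans ?_)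
      rw [Scheme.Modules.Hom.app_smul, hz, smul_zero])
    refine (((isUnit_gi_basicOpen a).pow (l + k)).smul_eq_zero).1 ?_
    rw [← map_pow, pow_add, map_mul, mul_smul]
    refine (congrArg (gi A (SpA) D (a ^ l) • ·) ht.symm).trans ?_
    refine (res_smulA Q _ _).symm.trans ?_
    refine Eq.trans (congrArg (QC70.res Q _) ?_) (map_zero _)
    exact (map_smul η _ y).symm.trans ((congrArg η (show a ^ l • y = 0 from Subtype.ext hl)).trans (map_zero η))
  · intro z
    obtain ⟨k, t, ht⟩ := exists_pow_eq_res P a z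
    obtain ⟨l, hl⟩ := hN n t a ha
    have hu : IsUnit (gi A (SpA) D (a ^ (l + k))) := by
      rw [map_pow]
      exact (isUnit_gi_basicOpen a).pow _
    refine ⟨(hu.unit⁻¹ : (Γ(SpA, D))ˣ) • QC70.res Q (le_top : D ≤ ⊤) (show Γ(Q, ⊤) from η ⟨_, hl⟩), ?_⟩
    refine (Scheme.Modules.Hom.app_smul θ _ _).trans ?_
    rw [hres ⟨_, hl⟩]
    refine (congrArg (_ • ·) ((res_smulA P (a ^ l) t).trans (congrArg (_ • ·) ht))).trans ?_
    rw [smul_smul (gi A (SpA) D (a ^ l)), ← map_mul, ← pow_add]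
    exact (inv_smul_smul hu.unit z : _)

include hF hN in
theorem isIso_restrict_chainθ (n : ℕ) :
    IsIso ((Scheme.Modules.restrictFunctor (LocCoh.puncturedOpen A 𝔞).ι).map (chainθ (N := N) n)) := by
  let S : Set (↑(LocCoh.puncturedOpen A 𝔞) : Scheme.{u}).affineOpens :=
    {W | ∃ a ∈ 𝔞, W.1 = (LocCoh.puncturedOpen A 𝔞).ι ⁻¹ᵁ (SpA).basicOpen (gi A (SpA) ⊤ a)}
  haveI := (hF.1 n).1
  haveI := isQuasicoherent_pushOpen (𝔞 := 𝔞) (F.obj (op n))
  haveI : (Formal2.tmod A (N n)).IsQuasicoherent := isQuasicoherent_Tm A _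
  refine isIso_of_cover _ S (fun p => ?_) fun W hW => ?_
  · obtain ⟨a, ha, hpa⟩ := exists_mem_basicOpen (A := A) (𝔞 := 𝔞) p.2
    exact ⟨⟨_, isAffineOpen_preimage ha⟩, ⟨a, ha, rfl⟩, hpa⟩
  · obtain ⟨a, ha, hWa⟩ := hW
    have hD : (LocCoh.puncturedOpen A 𝔞).ι ''ᵁ W.1 = (SpA).basicOpen (gi A (SpA) ⊤ a) := by
      rw [hWa, Scheme.Hom.image_preimage_eq_opensRange_inf, Scheme.Opens.opensRange_ι,
        inf_eq_right.2 (basicOpen_le_punctured ha)]
    show Function.Bijective ((chainθ (N := N) n).app ((LocCoh.puncturedOpen A 𝔞).ι ''ᵁ W.1))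
    rw [hD]
    exact bijective_chainθ hF hN n ha

include hF hN in
theorem nonempty_chain_iso : Nonempty (F ≅ Functor.ofOpSequence
    (X := fun n => (Scheme.Modules.restrictFunctor (LocCoh.puncturedOpen A 𝔞).ι).obj (Formal2.tmod A (N n)))
    (fun n => (Scheme.Modules.restrictFunctor (LocCoh.puncturedOpen A 𝔞).ι).map (Formal2.tmodMap A (chainMap hNs n)))) := by
  let adj := Scheme.Modules.restrictAdjunction (LocCoh.puncturedOpen A 𝔞).ι
  let τ : Functor.ofOpSequence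
      (X := fun n => (Scheme.Modules.restrictFunctor (LocCoh.puncturedOpen A 𝔞).ι).obj (Formal2.tmod A (N n)))
      (fun n => (Scheme.Modules.restrictFunctor (LocCoh.puncturedOpen A 𝔞).ι).map (Formal2.tmodMap A (chainMap hNs n))) ⟶ F :=
    NatTrans.ofOpSequence
      (fun n => (Scheme.Modules.restrictFunctor (LocCoh.puncturedOpen A 𝔞).ι).map (chainθ (N := N) n) ≫ adj.counit.app (F.obj (op n)))
      (fun n => by
        refine (congrArg (· ≫ _) (Functor.ofOpSequence_map_homOfLE_succ _ n)).trans ?_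
        refine (Category.assoc _ _ _).symm.trans ?_
        refine (congrArg (· ≫ _) (((Scheme.Modules.restrictFunctor (LocCoh.puncturedOpen A 𝔞).ι).map_comp _ _).symm.trans
          ((congrArg (Scheme.Modules.restrictFunctor (LocCoh.puncturedOpen A 𝔞).ι).map (chainθ_natural hNs n)).trans
            ((Scheme.Modules.restrictFunctor (LocCoh.puncturedOpen A 𝔞).ι).map_comp _ _)))).trans ?_
        exact (Category.assoc _ _ _).trans ((congrArg (_ ≫ ·) (adj.counit.naturality _)).trans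
          (Category.assoc _ _ _).symm))
  haveI : ∀ n, IsIso (τ.app n) := fun n => by
    haveI := isIso_restrict_chainθ hF hN n.unop
    show IsIso ((Scheme.Modules.restrictFunctor (LocCoh.puncturedOpen A 𝔞).ι).map (chainθ (N := N) n.unop) ≫ adj.counit.app (F.obj (op n.unop)))
    infer_instance
  haveI : IsIso τ := NatIso.isIso_of_isIso_app τ
  exact ⟨(asIso τ).symm⟩

end Punctured

end Groth.Agent.GE14
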