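import Groth.Agent.GE14.SectTop

/-!
The comparison `Gₙ ⟶ f_*(F/J^(n+1)F)` over an affine open of the base.
-/

set_option autoImplicit false
set_option linter.style.haveILetI false
set_option linter.unusedSectionVars false
set_option backward.isDefEq.respectTransparency.types false
set_option maxSynthPendingDepth 6

universe u

open CategoryTheory CategoryTheory.Limits AlgebraicGeometry Opposite TopologicalSpace

noncomputable section

namespace Groth.Agent.GE14

open Formal27 Var76.LineBundle Var76.ZeroScheme Amp73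

variable {A : Type u} [CommRing A] {J : Ideal A} {X Y : Scheme.{u}} [X.Over (Spec (CommRingCat.of A))]
  [Y.Over (Spec (CommRingCat.of A))] {f : X ⟶ Y}
  (hf : f ≫ (Y ↘ Spec (CommRingCat.of A)) = X ↘ Spec (CommRingCat.of A))
  {G : ℕᵒᵖ ⥤ Y.Modules} {F : X.Modules} (β : (G ⋙ Scheme.Modules.pullback f) ≅ Formal.completion J F)
  {W : Y.Opens} (hW : IsAffineOpen W)

/-- The chart structure map of the preimage. -/
def chartStr : ((f ⁻¹ᵁ W : X.Opens) : Scheme.{u}) ⟶ Spec Γ(Y, W) := (f ∣_ W) ≫ hW.isoSpec.hom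

theorem chartStr_fromSpec : chartStr hW ≫ hW.fromSpec = (f ⁻¹ᵁ W).ι ≫ f := by
  rw [chartStr, Category.assoc, IsAffineOpen.isoSpec_hom_fromSpec, morphismRestrict_ι]

/-- The scalars on an affine open. -/
def chartHom : A →+* Γ(Y, W) := (Spec.preimage (hW.fromSpec ≫ (Y ↘ Spec (CommRingCat.of A)))).hom

theorem specMap_chartHom :
    Spec.map (CommRingCat.ofHom (chartHom hW)) = hW.fromSpec ≫ (Y ↘ Spec (CommRingCat.of A)) :=
  Spec.map_preimage _

theorem isPullback_chart : IsPullback (f ⁻¹ᵁ W).ι (chartStr hW) f hW.fromSpec := by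
  refine IsPullback.of_iso (isPullback_morphismRestrict f W).flip (Iso.refl _) (Iso.refl _) hW.isoSpec
    (Iso.refl _) (by simp) ?_ (by simp) (by simp)
  simp [chartStr]

theorem fromSpec_app_top (r : Γ(Y, W)) :
    (Spec Γ(Y, W)).presheaf.map (homOfLE hW.fromSpec_preimage_self.ge).op (hW.fromSpec.app W r) =
      (Scheme.ΓSpecIso (CommRingCat.of Γ(Y, W))).inv r := by
  rw [hW.fromSpec_app_self, CommRingCat.comp_apply, ← CommRingCat.comp_apply, ← Functor.map_comp]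
  exact (congrArg (fun t => ((Spec Γ(Y, W)).presheaf.map t) _) (Subsingleton.elim _ (𝟙 _))).trans
    (by simp; rfl)

include hf in
theorem chart_setup [IsNoetherian Y] [IsProper f] (hG : Formal.IsCohFormal J G) (hF : Coh.IsCoh F) :
    letI : ((f ⁻¹ᵁ W : X.Opens) : Scheme.{u}).Over (Spec (CommRingCat.of Γ(Y, W))) := ⟨chartStr hW⟩
    IsNoetherianRing Γ(Y, W) ∧ IsProper ((↑(f ⁻¹ᵁ W) : Scheme.{u}) ↘ Spec (CommRingCat.of Γ(Y, W))) ∧
    @Formal.IsCohFormal Γ(Y, W) _ (Spec (CommRingCat.of Γ(Y, W))) ⟨𝟙 _⟩ (J.map (chartHom hW))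
      (G ⋙ Scheme.Modules.pullback hW.fromSpec) ∧
    Coh.IsCoh ((Scheme.Modules.pullback (f ⁻¹ᵁ W).ι).obj F) ∧
    ∃ e : Formal.completion (J.map (chartHom hW)) ((Scheme.Modules.pullback (f ⁻¹ᵁ W).ι).obj F) ≅
        Formal.completion J F ⋙ Scheme.Modules.pullback (f ⁻¹ᵁ W).ι,
      ∀ n, Formal.modPowπ (J.map (chartHom hW)) (n + 1) _ ≫ e.hom.app (op n) =
        (Scheme.Modules.pullback (f ⁻¹ᵁ W).ι).map (Formal.modPowπ J (n + 1) F) := by
  letI : ((f ⁻¹ᵁ W : X.Opens) : Scheme.{u}).Over (Spec (CommRingCat.of Γ(Y, W))) := ⟨chartStr hW⟩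
  haveI : IsNoetherianRing Γ(Y, W) := IsLocallyNoetherian.component_noetherian ⟨W, hW⟩
  haveI : IsProper (f ∣_ W) := MorphismProperty.of_isPullback (P := @IsProper)
    (isPullback_morphismRestrict f W).flip inferInstance
  haveI hp : IsProper ((↑(f ⁻¹ᵁ W) : Scheme.{u}) ↘ Spec (CommRingCat.of Γ(Y, W))) :=
    inferInstanceAs (IsProper ((f ∣_ W) ≫ hW.isoSpec.hom))
  haveI : IsLocallyNoetherian ((f ⁻¹ᵁ W : X.Opens) : Scheme.{u}) :=
    LocallyOfFiniteType.isLocallyNoetherian ((↑(f ⁻¹ᵁ W) : Scheme.{u}) ↘ Spec (CommRingCat.of Γ(Y, W)))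
  haveI : IsLocallyNoetherian X := LocallyOfFiniteType.isLocallyNoetherian f
  refine ⟨inferInstance, hp, Algz14.isCohFormal_map (chartHom hW) J _ ?_, ZClos93.isCoh_pullback _ F hF, ?_⟩
  · letI : (Spec (CommRingCat.of Γ(Y, W))).Over (Spec (CommRingCat.of A)) :=
      ⟨Spec.map (CommRingCat.ofHom (chartHom hW))⟩
    exact Formal27.isCohFormal_pullback hW.fromSpec (specMap_chartHom hW).symm G hG
      fun n => ZClos93.isCoh_pullback hW.fromSpec _ (hG.1 n)
  · refine exists_completion_adjIso' (chartHom hW)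
      (Scheme.Modules.pullbackPushforwardAdjunction (f ⁻¹ᵁ W).ι)
      (pullback_map_smulMod' (f ⁻¹ᵁ W).ι (chartHom hW) ?_) J _ rfl F
    show chartStr hW ≫ _ = _
    rw [specMap_chartHom, ← Category.assoc, chartStr_fromSpec, Category.assoc, hf]

variable [IsNoetherian Y] [IsProper f] (hG : Formal.IsCohFormal J G) (hF : Coh.IsCoh F)

/-- The comparison on sections over `W`. -/
abbrev vApp (W : Y.Opens) (n : ℕ) (x : Γ(G.obj (op n), W)) : Γ(Formal.modPow J (n + 1) F, f ⁻¹ᵁ W) :=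
  (β.hom.app (op n)).app (f ⁻¹ᵁ W) (pullS f (G.obj (op n)) W x)

theorem completion_map_vApp {n m : ℕ} (h : n ≤ m) (x : Γ(G.obj (op m), W)) :
    (sysMap (Formal.completion J F) h).app (f ⁻¹ᵁ W) (vApp β W m x) = vApp β W n ((sysMap G h).app W x) := by
  refine (ConcreteCategory.congr_hom (congrArg (fun t => Scheme.Modules.Hom.app t (f ⁻¹ᵁ W))
    (β.hom.naturality (homOfLE h).op)) (pullS f (G.obj (op m)) W x)).symm.trans ?_
  exact congrArg ((β.hom.app (op n)).app (f ⁻¹ᵁ W)) (map_app_pullS f (sysMap G h) W x)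

include hf hG hF in
theorem chart_ker_bound (hW : IsAffineOpen W) :
    ∃ c : ℕ, ∀ c', c ≤ c' → ∀ n (y : Γ(F, f ⁻¹ᵁ W)),
      (Formal.modPowπ J (n + c' + 1) F).app (f ⁻¹ᵁ W) y = 0 →
        (Formal.modPowπ J (n + 1) ((Scheme.Modules.pushforward f).obj F)).app W y = 0 := by
  letI : ((f ⁻¹ᵁ W : X.Opens) : Scheme.{u}).Over (Spec (CommRingCat.of Γ(Y, W))) := ⟨chartStr hW⟩
  obtain ⟨_, _, hG', hF', e, he⟩ := chart_setup hf hW hG hF
  let j := (f ⁻¹ᵁ W).ι
  have ej : j ⁻¹ᵁ (f ⁻¹ᵁ W) = ⊤ := (f ⁻¹ᵁ W).ι_preimage_self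
  obtain ⟨d, hd⟩ := exists_sect_ker_bound (J.map (chartHom hW)) hF'
  refine ⟨d, fun c' hc' n y hy => ?_⟩
  have h1 : (Formal.modPowπ (J.map (chartHom hW)) (n + c' + 1) ((Scheme.Modules.pullback j).obj F)).app ⊤
      (sectTop j F ej y) = 0 := by
    have h2 := ConcreteCategory.congr_hom (congrArg (fun t => Scheme.Modules.Hom.app t (⊤ : ((f ⁻¹ᵁ W : X.Opens) : Scheme.{u}).Opens))
      (he (n + c'))) (sectTop j F ej y)
    have h2' := h2.trans ((map_app_sectTop j _ ej y).trans ((congrArg _ hy).trans (map_zero _)))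
    have h3 := congrArg ((e.inv.app (op (n + c'))).app (⊤ : ((f ⁻¹ᵁ W : X.Opens) : Scheme.{u}).Opens)) h2'
    refine Eq.trans ?_ (h3.trans (map_zero _))
    exact (ConcreteCategory.congr_hom (congrArg (fun t => Scheme.Modules.Hom.app t
      (⊤ : ((f ⁻¹ᵁ W : X.Opens) : Scheme.{u}).Opens)) (e.hom_inv_id_app (op (n + c')))) _).symm
  have hbij := sectTop_bijective j F ej (f ⁻¹ᵁ W).opensRange_ι.ge
  have hg : ((↑(f ⁻¹ᵁ W) : Scheme.{u}) ↘ Spec (CommRingCat.of Γ(Y, W))) ≫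
      Spec.map (CommRingCat.ofHom (chartHom hW)) = j ≫ (X ↘ Spec (CommRingCat.of A)) := by
    show chartStr hW ≫ _ = _
    rw [specMap_chartHom, ← Category.assoc, chartStr_fromSpec, Category.assoc, hf]
  have h4 : ∃ z : Γ(F, f ⁻¹ᵁ W), sectTop j F ej z = sectTop j F ej y ∧
      (Formal.modPowπ J (n + 1) ((Scheme.Modules.pushforward f).obj F)).app W z = 0 := by
    refine IM_induction (p := fun t => ∃ z : Γ(F, f ⁻¹ᵁ W), sectTop j F ej z = t ∧
      (Formal.modPowπ J (n + 1) ((Scheme.Modules.pushforward f).obj F)).app W z = 0)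
      (J := (J.map (chartHom hW)) ^ (n + 1)) ?_ (fun b hb m => ?_)
      ⟨0, map_zero _, map_zero ((Formal.modPowπ J (n + 1) ((Scheme.Modules.pushforward f).obj F)).app W).hom⟩
      (fun _ _ ⟨a, ha, ha'⟩ ⟨b, hb, hb'⟩ => ⟨a + b, by rw [map_add, ha, hb],
        ((map_add ((Formal.modPowπ J (n + 1) ((Scheme.Modules.pushforward f).obj F)).app W).hom a b)).trans
          ((congrArg₂ (· + ·) ha' hb').trans (add_zero _))⟩)
    · exact Submodule.smul_mono_left (Ideal.map_mono (Ideal.pow_le_pow_right (by omega))) (hd _ _ h1)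
    · obtain ⟨z, rfl⟩ := hbij.2 m
      rw [← Ideal.map_pow] at hb
      revert z
      induction hb using Submodule.span_induction with
      | mem b hb =>
        obtain ⟨a, ha, rfl⟩ := hb
        intro z
        refine ⟨gi A X (f ⁻¹ᵁ W) a • z, ?_, ?_⟩
        · rw [sectTop_smul, res_app_gi j (chartHom hW) hg ej a]
        · let z' : Γ((Scheme.Modules.pushforward f).obj F, W) := z
          have hsm : (gi A Y W a • z' : Γ((Scheme.Modules.pushforward f).obj F, W)) =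
              (gi A X (f ⁻¹ᵁ W) a • z : Γ(F, f ⁻¹ᵁ W)) :=
            congrArg (fun r : Γ(X, f ⁻¹ᵁ W) => r • z) (app_gi f (RingHom.id A) (by
              show _ ≫ Spec.map (𝟙 (CommRingCat.of A)) = _
              rw [Spec.map_id, Category.comp_id, hf]) W a)
          rw [← hsm]
          exact modPowπ_app_eq_zero_of_mem (smul_mem_IM ha z')
      | zero => intro z; exact ⟨0, by rw [map_zero, map_zero, zero_smul],
          map_zero ((Formal.modPowπ J (n + 1) ((Scheme.Modules.pushforward f).obj F)).app W).hom⟩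
      | add x y _ _ hx hy =>
        intro z
        obtain ⟨a, ha, ha'⟩ := hx z
        obtain ⟨b, hb, hb'⟩ := hy z
        exact ⟨a + b, by rw [map_add, map_add, add_smul, ha, hb],
          ((map_add ((Formal.modPowπ J (n + 1) ((Scheme.Modules.pushforward f).obj F)).app W).hom a b)).trans
            ((congrArg₂ (· + ·) ha' hb').trans (add_zero _))⟩
      | smul c x _ hx =>
        intro z
        obtain ⟨w, hw⟩ := hbij.2 (gi Γ(Y, W) ((f ⁻¹ᵁ W : X.Opens) : Scheme.{u}) ⊤ c • sectTop j F ej z)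
        obtain ⟨a, ha, ha'⟩ := hx w
        refine ⟨a, ?_, ha'⟩
        rw [ha, hw, smul_eq_mul, map_mul, mul_smul, smul_comm]
  obtain ⟨z, hz, hz'⟩ := h4
  rwa [hbij.1 hz] at hz'

variable (hW' : IsAffineOpen W)

include hf hG hF hW' in
theorem chart_image (m : ℕ) (x : Γ(G.obj (op m), W)) :
    ∃ y : Γ(F, f ⁻¹ᵁ W), (Formal.modPowπ J (m + 1) F).app (f ⁻¹ᵁ W) y = vApp β W m x := by
  letI : ((f ⁻¹ᵁ W : X.Opens) : Scheme.{u}).Over (Spec (CommRingCat.of Γ(Y, W))) := ⟨chartStr hW'⟩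
  obtain ⟨_, _, -, hF', e, he⟩ := chart_setup hf hW' hG hF
  let j := (f ⁻¹ᵁ W).ι
  have ej : j ⁻¹ᵁ (f ⁻¹ᵁ W) = ⊤ := (f ⁻¹ᵁ W).ι_preimage_self
  -- a compatible family through `x`
  have hstep : ∀ (n : ℕ) (z : Γ(G.obj (op n), W)), ∃ z' : Γ(G.obj (op (n + 1)), W),
      (sysMap G (Nat.le_succ n)).app W z' = z := fun n z => by
    haveI := Algz14.epi_sysMap hG (Nat.le_succ n)
    haveI := (hG.1 n).1; haveI := (hG.1 (n + 1)).1
    exact Algz14.app_surjective_of_epi (sysMap G (Nat.le_succ n)) hW' z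
  choose nx hnx using hstep
  let y : ∀ i : ℕ, Γ(G.obj (op (m + i)), W) := fun i =>
    Nat.rec (motive := fun i => Γ(G.obj (op (m + i)), W)) x (fun i z => nx (m + i) z) i
  let xs : ∀ n : ℕ, Γ(G.obj (op n), W) := fun n => (sysMap G (Nat.le_add_left n m)).app W (y n)
  have hy : ∀ i, (sysMap G (Nat.le_add_right m i)).app W (y i) = x := fun i => by
    induction i with
    | zero => exact Algz14.sysMap_app_self G m W x
    | succ i ih =>
      rw [← Algz14.sysMap_app_comp G (Nat.le_add_right m i) (Nat.le_succ (m + i)) W]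
      exact (congrArg ((sysMap G (Nat.le_add_right m i)).app W) (hnx (m + i) (y i))).trans ih
  have hxs : ∀ n, (sysMap G (Nat.le_succ n)).app W (xs (n + 1)) = xs n := fun n => by
    show (sysMap G (Nat.le_succ n)).app W ((sysMap G (Nat.le_add_left (n + 1) m)).app W (y (n + 1))) =
      (sysMap G (Nat.le_add_left n m)).app W (y n)
    rw [Algz14.sysMap_app_comp, ← Algz14.sysMap_app_comp G (Nat.le_add_left n m) (Nat.le_succ (m + n)) W]
    exact congrArg ((sysMap G (Nat.le_add_left n m)).app W) (hnx (m + n) (y n))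
  have hxm : xs m = x := hy m
  let σ : ∀ n, Γ(Formal.modPow (J.map (chartHom hW')) (n + 1) ((Scheme.Modules.pullback j).obj F),
      (⊤ : ((f ⁻¹ᵁ W : X.Opens) : Scheme.{u}).Opens)) :=
    fun n => (e.inv.app (op n)).app ⊤ (sectTop j (Formal.modPow J (n + 1) F) ej (vApp β W n (xs n)))
  obtain ⟨s, hs⟩ := exists_sect_of_compatible (J.map (chartHom hW')) hF' σ (fun n => by
    rw [← Algz14.completion_map_succ]
    refine (ConcreteCategory.congr_hom (congrArg (fun t => Scheme.Modules.Hom.app t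
      (⊤ : ((f ⁻¹ᵁ W : X.Opens) : Scheme.{u}).Opens)) (e.inv.naturality (homOfLE (Nat.le_succ n)).op)) _).symm.trans ?_
    refine congrArg ((e.inv.app (op n)).app ⊤) ?_
    refine (map_app_sectTop j (sysMap (Formal.completion J F) (Nat.le_succ n)) ej _).trans ?_
    exact congrArg (sectTop j _ ej) ((completion_map_vApp β (Nat.le_succ n) (xs (n + 1))).trans
      (congrArg (vApp β W n) (hxs n)))) m
  obtain ⟨z, rfl⟩ := (sectTop_bijective j F ej (f ⁻¹ᵁ W).opensRange_ι.ge).2 s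
  refine ⟨z, (sectTop_bijective j (Formal.modPow J (m + 1) F) ej (f ⁻¹ᵁ W).opensRange_ι.ge).1 ?_⟩
  rw [← map_app_sectTop j _ ej z, ← he m]
  refine (congrArg ((e.hom.app (op m)).app ⊤) hs).trans ?_
  show (e.hom.app (op m)).app ⊤ ((e.inv.app (op m)).app ⊤ _) = _
  rw [hxm]
  exact ConcreteCategory.congr_hom (congrArg (fun t => Scheme.Modules.Hom.app t
    (⊤ : ((f ⁻¹ᵁ W : X.Opens) : Scheme.{u}).Opens)) (e.inv_hom_id_app (op m))) _

include hf hG hF hW' in
theorem chart_bounds (g : Γ(Y, W)) {U : Y.Opens} [IsIso (f ∣_ U)] (hgU : Y.basicOpen g ≤ U) :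
    ∃ e d : ℕ, (∀ k (y : Γ(F, f ⁻¹ᵁ W)), ∃ x,
        vApp β W k x = f.app W (g ^ e) • (Formal.modPowπ J (k + 1) F).app (f ⁻¹ᵁ W) y) ∧
      ∀ k x, vApp β W k x = 0 → ∀ i (h : i ≤ k), i + d ≤ k → g ^ e • (sysMap G h).app W x = 0 := by
  letI : ((f ⁻¹ᵁ W : X.Opens) : Scheme.{u}).Over (Spec (CommRingCat.of Γ(Y, W))) := ⟨chartStr hW'⟩
  letI : (Spec (CommRingCat.of Γ(Y, W))).Over (Spec (CommRingCat.of Γ(Y, W))) := ⟨𝟙 _⟩
  obtain ⟨_, _, hG', hF', e, he⟩ := chart_setup hf hW' hG hF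
  let j := (f ⁻¹ᵁ W).ι
  let s := (↑(f ⁻¹ᵁ W) : Scheme.{u}) ↘ Spec (CommRingCat.of Γ(Y, W))
  have ej : j ⁻¹ᵁ (f ⁻¹ᵁ W) = ⊤ := (f ⁻¹ᵁ W).ι_preimage_self
  have eW : hW'.fromSpec ⁻¹ᵁ W = ⊤ := hW'.fromSpec_preimage_self
  have hD : dOpen (B := Γ(Y, W)) g ≤ hW'.fromSpec ⁻¹ᵁ U := by
    refine le_trans (le_of_eq ?_) (hW'.fromSpec.preimage_mono hgU)
    rw [hW'.fromSpec_preimage_basicOpen]
    show (Spec (CommRingCat.of Γ(Y, W))).basicOpen (gi Γ(Y, W) (Spec (CommRingCat.of Γ(Y, W))) ⊤ g) = _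
    rw [gi_eq_ΓSpecIso]
    exact basicOpen_eq_of_affine g
  haveI : IsIso (s ∣_ dOpen g) := isIso_restrict_of_isPullback (U := U) (isPullback_chart hW') _ hD
  let β' : (G ⋙ Scheme.Modules.pullback hW'.fromSpec) ⋙ Scheme.Modules.pullback s ≅
      Formal.completion (J.map (chartHom hW')) ((Scheme.Modules.pullback j).obj F) :=
    Functor.isoWhiskerLeft G (squareIso (chartStr_fromSpec hW')) ≪≫
      Functor.isoWhiskerRight β (Scheme.Modules.pullback j) ≪≫ e.symm
  have key : ∀ k (x : Γ(G.obj (op k), W)), (e.hom.app (op k)).app ⊤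
      (vSec β' k (sectTop hW'.fromSpec (G.obj (op k)) eW x)) =
        sectTop j (Formal.modPow J (k + 1) F) ej (vApp β W k x) := fun k x => by
    have h1 : β'.hom.app (op k) ≫ e.hom.app (op k) = (squareIso (chartStr_fromSpec hW')).hom.app (G.obj (op k)) ≫
        (Scheme.Modules.pullback j).map (β.hom.app (op k)) := by
      show ((squareIso (chartStr_fromSpec hW')).hom.app (G.obj (op k)) ≫
        (Scheme.Modules.pullback j).map (β.hom.app (op k)) ≫ e.inv.app (op k)) ≫ e.hom.app (op k) = _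
      refine (Category.assoc _ _ _).trans (congrArg (_ ≫ ·) ?_)
      refine (Category.assoc _ _ _).trans ?_
      exact (congrArg (_ ≫ ·) (e.inv_hom_id_app (op k))).trans (Category.comp_id _)
    refine (ConcreteCategory.congr_hom (congrArg (fun t => Scheme.Modules.Hom.app t
      (⊤ : ((f ⁻¹ᵁ W : X.Opens) : Scheme.{u}).Opens)) h1) _).trans ?_
    refine (congrArg (((Scheme.Modules.pullback j).map (β.hom.app (op k))).app ⊤)
      (squareIso_sectTop (chartStr_fromSpec hW') (G.obj (op k)) eW ej x)).trans ?_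
    exact map_app_sectTop j (β.hom.app (op k)) ej _
  obtain ⟨N, d, hco, hke⟩ := local_bounds hF' hG' β' g
  have hsm : ∀ r : Γ(Y, W), gi Γ(Y, W) ((f ⁻¹ᵁ W : X.Opens) : Scheme.{u}) ⊤ r =
      ((f ⁻¹ᵁ W : X.Opens) : Scheme.{u}).presheaf.map (homOfLE ej.ge).op (j.app (f ⁻¹ᵁ W) (f.app W r)) := fun r => by
    rw [res_app_square (chartStr_fromSpec hW') eW ej r, fromSpec_app_top hW' r, ← gi_eq_ΓSpecIso]
    exact (app_gi_self (B := Γ(Y, W)) (Z := ((f ⁻¹ᵁ W : X.Opens) : Scheme.{u})) ⊤ r).symm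
  refine ⟨N, d, fun k y => ?_, fun k x hx i h hik => ?_⟩
  · obtain ⟨x', hx'⟩ := hco k (sectTop j F ej y)
    obtain ⟨x, rfl⟩ := (sectTop_bijective hW'.fromSpec (G.obj (op k)) eW hW'.opensRange_fromSpec.ge).2 x'
    refine ⟨x, (sectTop_bijective j (Formal.modPow J (k + 1) F) ej (f ⁻¹ᵁ W).opensRange_ι.ge).1 ?_⟩
    rw [← key, hx', sectTop_smul, ← map_app_sectTop, ← he k, ← hsm]
    exact Scheme.Modules.Hom.app_smul (e.hom.app (op k)) _ _
  · have hv : vSec β' k (sectTop hW'.fromSpec (G.obj (op k)) eW x) = 0 := by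
      have h1 := congrArg ((e.inv.app (op k)).app (⊤ : ((f ⁻¹ᵁ W : X.Opens) : Scheme.{u}).Opens))
        ((key k x).trans ((congrArg _ hx).trans (map_zero _)))
      refine Eq.trans ?_ (h1.trans (map_zero _))
      exact (ConcreteCategory.congr_hom (congrArg (fun t => Scheme.Modules.Hom.app t
        (⊤ : ((f ⁻¹ᵁ W : X.Opens) : Scheme.{u}).Opens)) (e.hom_inv_id_app (op k))) _).symm
    have h2 := hke k _ hv i h hik
    refine (sectTop_bijective hW'.fromSpec (G.obj (op i)) eW hW'.opensRange_fromSpec.ge).1 ?_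
    rw [map_zero, sectTop_smul, fromSpec_app_top hW', ← gi_eq_ΓSpecIso, ← map_app_sectTop]
    exact h2

end Groth.Agent.GE14
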