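import Groth.Agent.GE14.ModPowAdj
import Groth.Agent.Amp73.Pullback
import Groth.Agent.Props58.PullTensor
import Groth.Agent.Csa25.SecTransport
import Groth.Agent.SchBasics.PullSpan
import Groth.Agent.Coh69.QCohLoc

/-!
Pulled back sections: open immersions, reductions, sections killed off a basic open.
-/

set_option autoImplicit false
set_option linter.style.haveILetI false
set_option linter.unusedSectionVars false
set_option backward.isDefEq.respectTransparency.types false

universe u

open CategoryTheory CategoryTheory.Limits AlgebraicGeometry Opposite TopologicalSpace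

noncomputable section

namespace Groth.Agent.GE14

open Formal27 Var76.LineBundle Var76.ZeroScheme Amp73

variable {X Y : Scheme.{u}}

theorem res_bijective_of_eq (M : X.Modules) {U V : X.Opens} (e : U = V) (h : V ≤ U) :
    Function.Bijective (res M h) := by
  subst e
  exact ⟨fun a b hab => by rwa [res_self, res_self] at hab, fun a => ⟨a, res_self M a⟩⟩

theorem pullS_bijective_openImm (j : X ⟶ Y) [IsOpenImmersion j] (M : Y.Modules) {U : Y.Opens}
    (hU : U ≤ j.opensRange) : Function.Bijective (pullS j M U) := by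
  have e : j ''ᵁ (j ⁻¹ᵁ U) = U := by
    rw [Scheme.Hom.image_preimage_eq_opensRange_inf, inf_eq_right.2 hU]
  haveI : IsIso (((Scheme.Modules.restrictFunctorIsoPullback j).hom.app M).app (j ⁻¹ᵁ U)) :=
    Scheme.Modules.Hom.isIso_iff_isIso_app.1
      (inferInstance : IsIso ((Scheme.Modules.restrictFunctorIsoPullback j).hom.app M)) _
  have hr := res_bijective_of_eq M e.symm e.le
  have h2 := ((ConcreteCategory.isIso_iff_bijective
    (((Scheme.Modules.restrictFunctorIsoPullback j).hom.app M).app (j ⁻¹ᵁ U))).1 inferInstance).comp hr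
  exact (congrArg Function.Bijective (funext fun n => Props58.PullTensor.app_pullS_openImm j M U n)).mp h2

/-- A retraction of functions modulo an ideal killing the sections gives injectivity. -/
theorem pullS_injective_of_retraction (h : X ⟶ Y) (M : Y.Modules) [M.IsQuasicoherent] {W : Y.Opens}
    (hW : IsAffineOpen W) (hU : IsAffineOpen (h ⁻¹ᵁ W)) (a : Ideal Γ(Y, W))
    (θ : Γ(X, h ⁻¹ᵁ W) →+* Γ(Y, W) ⧸ a) (hθ : ∀ r, θ (h.app W r) = Ideal.Quotient.mk a r)
    (ha : ∀ r ∈ a, ∀ m : Γ(M, W), r • m = 0) : Function.Injective (pullS h M W) := by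
  have ht : Module.IsTorsionBySet Γ(Y, W) Γ(M, W) a := fun m r => ha r r.2 m
  letI : Module (Γ(Y, W) ⧸ a) Γ(M, W) := ht.module
  letI : Module Γ(X, h ⁻¹ᵁ W) Γ(M, W) := Module.compHom _ θ
  obtain ⟨l, hl⟩ := SchBasics.exists_linear_pullSect_module h M hU hW le_rfl Γ(M, W)
    (AddMonoidHom.id _) (fun r m => by
      show r • m = θ (h.appLE W (h ⁻¹ᵁ W) le_rfl r) • m
      rw [← Scheme.Hom.app_eq_appLE, hθ]
      exact (Module.IsTorsionBySet.mk_smul ht r m).symm)
  intro m m' e
  have e1 : res ((Scheme.Modules.pullback h).obj M) (le_refl (h ⁻¹ᵁ W)) (OmegaSh.pullSect h M W m) =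
      res ((Scheme.Modules.pullback h).obj M) (le_refl (h ⁻¹ᵁ W)) (OmegaSh.pullSect h M W m') := congrArg _ e
  exact (hl m).symm.trans ((congrArg l e1).trans (hl m'))

theorem pullS_surjective_of_killed (h : X ⟶ Y) (M : Y.Modules) [M.IsQuasicoherent] {W : Y.Opens}
    (hW : IsAffineOpen W) (hU : IsAffineOpen (h ⁻¹ᵁ W))
    (hB : ∀ b : Γ(X, h ⁻¹ᵁ W), ∃ r : Γ(Y, W), ∀ z : Γ((Scheme.Modules.pullback h).obj M, h ⁻¹ᵁ W),
      b • z = h.app W r • z) :
    Function.Surjective (pullS h M W) := by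
  intro z
  have hz : z ∈ Submodule.span Γ(X, h ⁻¹ᵁ W) (Set.range fun m : Γ(M, W) =>
      res ((Scheme.Modules.pullback h).obj M) (le_refl (h ⁻¹ᵁ W)) (OmegaSh.pullSect h M W m)) := by
    rw [SchBasics.span_pullSect h M hU hW le_rfl]; trivial
  induction hz using Submodule.span_induction with
  | mem x hx =>
    obtain ⟨m, rfl⟩ := hx
    exact ⟨m, (res_self _ _).symm⟩
  | zero => exact ⟨0, map_zero _⟩
  | add x y _ _ hx hy =>
    obtain ⟨a, rfl⟩ := hx
    obtain ⟨b, rfl⟩ := hy
    exact ⟨a + b, map_add (((Scheme.Modules.pullbackPushforwardAdjunction h).unit.app M).app W).hom a b⟩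
  | smul b x _ hx =>
    obtain ⟨a, rfl⟩ := hx
    obtain ⟨r, hr⟩ := hB b
    exact ⟨r • a, (pullS_smul h M W r a).trans (hr _).symm⟩

theorem exists_pow_smul_eq_zero_of_res [CompactSpace X] (M : X.Modules) [M.IsQuasicoherent]
    (g : Γ(X, (⊤ : X.Opens))) (x : Γ(M, (⊤ : X.Opens))) (hx : res M (X.basicOpen_le g) x = 0) :
    ∃ N : ℕ, g ^ N • x = 0 := by
  classical
  obtain ⟨S, hS⟩ := exists_cover (X := X)
  have hV : ∀ V : X.affineOpens, ∃ n : ℕ,
      (X.presheaf.map (homOfLE (le_top : V.1 ≤ ⊤)).op g) ^ n • res M (le_top : V.1 ≤ ⊤) x = 0 := fun V => by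
    refine Coh69.qcoh_exists_pow_smul_eq_zero (M := M) V.2 _ _ ?_
    have hle : X.basicOpen (X.presheaf.map (homOfLE (le_top : V.1 ≤ ⊤)).op g) ≤ X.basicOpen g := by
      rw [Scheme.basicOpen_res]; exact inf_le_right
    show res M _ (res M le_top x) = 0
    rw [res_res, ← res_res M (X.basicOpen_le g) hle x, hx]
    exact map_zero _
  choose n hn using hV
  refine ⟨S.sup n, eq_of_locally M _ _ fun p _ => ?_⟩
  obtain ⟨V, hVS, hpV⟩ := hS p
  refine ⟨V.1, le_top, hpV, ?_⟩
  obtain ⟨k, hk⟩ := Nat.exists_eq_add_of_le' (Finset.le_sup (f := n) hVS)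
  rw [res_smul, map_pow, hk, pow_add, mul_smul, hn V, smul_zero]
  exact (map_zero _).symm

end Groth.Agent.GE14
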