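import Groth.Agent.GE14.LocalPush

/-!
Transport of sections to charts, and restriction of isomorphisms in cartesian squares.
-/

set_option autoImplicit false
set_option linter.style.haveILetI false
set_option linter.unusedSectionVars false
set_option backward.isDefEq.respectTransparency.types false

universe u

open CategoryTheory CategoryTheory.Limits AlgebraicGeometry Opposite TopologicalSpace

noncomputable section

namespace Groth.Agent.GE14

open Formal27 Var76.LineBundle Var76.ZeroScheme Amp73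

variable {P Q : Scheme.{u}}

/-- Pulled back sections over an open with full preimage. -/
def sectTop (g : P ⟶ Q) (M : Q.Modules) {U : Q.Opens} (e : g ⁻¹ᵁ U = ⊤) :
    Γ(M, U) →+ Γ((Scheme.Modules.pullback g).obj M, (⊤ : P.Opens)) :=
  (((Scheme.Modules.pullback g).obj M).presheaf.map (homOfLE e.ge).op).hom.comp
    ((((Scheme.Modules.pullbackPushforwardAdjunction g).unit.app M).app U).hom)

theorem sectTop_eq (g : P ⟶ Q) (M : Q.Modules) {U : Q.Opens} (e : g ⁻¹ᵁ U = ⊤) (m : Γ(M, U)) :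
    sectTop g M e m = res ((Scheme.Modules.pullback g).obj M) e.ge (pullS g M U m) := rfl

theorem sectTop_bijective (g : P ⟶ Q) [IsOpenImmersion g] (M : Q.Modules) {U : Q.Opens} (e : g ⁻¹ᵁ U = ⊤)
    (hU : U ≤ g.opensRange) : Function.Bijective (sectTop g M e) :=
  (res_bijective_of_eq _ e e.ge).comp (pullS_bijective_openImm g M hU)

theorem map_app_sectTop (g : P ⟶ Q) {M N : Q.Modules} (φ : M ⟶ N) {U : Q.Opens} (e : g ⁻¹ᵁ U = ⊤) (m : Γ(M, U)) :
    ((Scheme.Modules.pullback g).map φ).app ⊤ (sectTop g M e m) = sectTop g N e (φ.app U m) :=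
  (Mero90.app_res _ e.ge _).trans (congrArg _ (map_app_pullS g φ U m))

theorem sectTop_smul (g : P ⟶ Q) (M : Q.Modules) {U : Q.Opens} (e : g ⁻¹ᵁ U = ⊤) (r : Γ(Q, U)) (m : Γ(M, U)) :
    sectTop g M e (r • m) = P.presheaf.map (homOfLE e.ge).op (g.app U r) • sectTop g M e m := by
  rw [sectTop_eq, pullS_smul, res_smul, sectTop_eq]

variable {A B : Type u} [CommRing A] [CommRing B] [P.Over (Spec (CommRingCat.of B))] [Q.Over (Spec (CommRingCat.of A))]

theorem res_app_gi (g : P ⟶ Q) (φ : A →+* B)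
    (hg : (P ↘ Spec (CommRingCat.of B)) ≫ Spec.map (CommRingCat.ofHom φ) = g ≫ (Q ↘ Spec (CommRingCat.of A)))
    {U : Q.Opens} (e : g ⁻¹ᵁ U = ⊤) (a : A) :
    P.presheaf.map (homOfLE e.ge).op (g.app U (gi A Q U a)) = gi B P ⊤ (φ a) := by
  rw [app_gi g φ hg]
  exact res_gi e.ge (φ a)

section Square

variable {S T : Scheme.{u}} {a : P ⟶ Q} {b : Q ⟶ T} {c : P ⟶ S} {d : S ⟶ T}

omit [P.Over (Spec (CommRingCat.of B))] [Q.Over (Spec (CommRingCat.of A))] in
theorem squareIso_sectTop (h : a ≫ b = c ≫ d) (M : T.Modules) {U : T.Opens} (e : b ⁻¹ᵁ U = ⊤)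
    (e' : c ⁻¹ᵁ (d ⁻¹ᵁ U) = ⊤) (m : Γ(M, U)) :
    ((squareIso h).hom.app M).app ⊤ (pullS a ((Scheme.Modules.pullback b).obj M) ⊤ (sectTop b M e m)) =
      sectTop c ((Scheme.Modules.pullback d).obj M) e' (pullS d M U m) := by
  have h1 : pullS a ((Scheme.Modules.pullback b).obj M) ⊤ (sectTop b M e m) =
      res _ (show a ⁻¹ᵁ ⊤ ≤ a ⁻¹ᵁ (b ⁻¹ᵁ U) from a.preimage_mono e.ge) (pullS a _ _ (pullS b M U m)) :=
    (res_pullS a _ e.ge _).symm
  refine (congrArg (((squareIso h).hom.app M).app (⊤ : P.Opens)) h1).trans ?_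
  refine (Mero90.app_res ((squareIso h).hom.app M) (show (⊤ : P.Opens) ≤ a ⁻¹ᵁ (b ⁻¹ᵁ U) from a.preimage_mono e.ge) _).trans ?_
  refine (congrArg _ (squareIso_pullS h M U m)).trans ?_
  exact res_res _ _ _ _

omit [P.Over (Spec (CommRingCat.of B))] [Q.Over (Spec (CommRingCat.of A))] in
theorem res_app_square (h : a ≫ b = c ≫ d) {U : T.Opens} (e : b ⁻¹ᵁ U = ⊤) (e' : c ⁻¹ᵁ (d ⁻¹ᵁ U) = ⊤) (r : Γ(T, U)) :
    P.presheaf.map (homOfLE e'.ge).op (c.app (d ⁻¹ᵁ U) (d.app U r)) =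
      a.app ⊤ (Q.presheaf.map (homOfLE e.ge).op (b.app U r)) := by
  have hn := ConcreteCategory.congr_hom (a.naturality (homOfLE e.ge).op) (b.app U r)
  refine Eq.trans ?_ hn.symm
  have hh := ConcreteCategory.congr_hom (Scheme.Hom.congr_app h U) r
  simp only [Scheme.Hom.comp_app, CommRingCat.comp_apply] at hh
  show _ = (P.presheaf.map (homOfLE (show (⊤ : P.Opens) ≤ a ⁻¹ᵁ (b ⁻¹ᵁ U) from a.preimage_mono e.ge)).op)
    (a.app (b ⁻¹ᵁ U) (b.app U r))
  refine Eq.trans ?_ (congrArg _ hh).symm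
  exact (ConcreteCategory.congr_hom (P.presheaf.map_comp _ _) (c.app (d ⁻¹ᵁ U) (d.app U r)))

omit [P.Over (Spec (CommRingCat.of B))] [Q.Over (Spec (CommRingCat.of A))] in
/-- An isomorphism over `U` stays one over opens mapped into `U` after base change. -/
theorem isIso_restrict_of_isPullback (H : IsPullback c a d b) {U : T.Opens} [IsIso (d ∣_ U)] (D : Q.Opens)
    (hD : D ≤ b ⁻¹ᵁ U) : IsIso (a ∣_ D) := by
  let l : (D : Scheme.{u}) ⟶ (U : Scheme.{u}) := Q.homOfLE hD ≫ (b ∣_ U)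
  have hl : l ≫ U.ι = D.ι ≫ b := by
    show (Q.homOfLE hD ≫ (b ∣_ U)) ≫ U.ι = _
    rw [Category.assoc, morphismRestrict_ι, Scheme.homOfLE_ι_assoc]
  have big := (isPullback_morphismRestrict a D).flip.paste_horiz H
  have hsq : (a ∣_ D) ≫ l ≫ U.ι = ((a ⁻¹ᵁ D).ι ≫ c) ≫ d := by
    rw [hl, morphismRestrict_ι_assoc, Category.assoc, H.w]
  let k := (isPullback_morphismRestrict d U).lift ((a ∣_ D) ≫ l) ((a ⁻¹ᵁ D).ι ≫ c)
    (by rw [Category.assoc]; exact hsq)
  have hk : k ≫ (d ⁻¹ᵁ U).ι = (a ⁻¹ᵁ D).ι ≫ c := IsPullback.lift_snd _ _ _ _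
  have hk' : k ≫ (d ∣_ U) = (a ∣_ D) ≫ l := IsPullback.lift_fst _ _ _ _
  have small : IsPullback k (a ∣_ D) (d ∣_ U) l := by
    refine IsPullback.of_right ?_ hk' (isPullback_morphismRestrict d U).flip
    rw [hk, hl]
    exact big
  exact MorphismProperty.of_isPullback (P := MorphismProperty.isomorphisms Scheme.{u}) small
    (inferInstanceAs (IsIso (d ∣_ U)))

end Square

end Groth.Agent.GE14
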