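import Groth.Agent.GE14.Thicken
import Groth.Agent.GSS45.ClosedHom
import Groth.Agent.Formal27.Pullback
import Groth.Agent.Algz14.Pro
import Groth.Agent.Algz14.SystemOps
import Groth.Agent.ZClos93.Flat
import Groth.Agent.QC70.CohOps
import Groth.Agent.QC70.PushClosed

/-!
Pullback of coherent formal systems along a flat morphism which is an isomorphism on the zero locus.
-/

set_option autoImplicit false
set_option linter.style.haveILetI false
set_option linter.unusedSectionVars false
set_option backward.isDefEq.respectTransparency.types false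

universe u

open CategoryTheory CategoryTheory.Limits AlgebraicGeometry Opposite

noncomputable section

namespace Groth.Agent.GE14

open Formal27 GSS45.Descend

section Closed

variable {T X : Scheme.{u}} (i : T ⟶ X) [IsClosedImmersion i]

theorem isIso_unit_of_killed {M : X.Modules} (hM : IsKilled i M) :
    IsIso ((Scheme.Modules.pullbackPushforwardAdjunction i).unit.app M) := by
  have := GSS45.ClosedHom.full_pushforward i
  have := QC70.faithful_pushforward i
  exact (Scheme.Modules.pullbackPushforwardAdjunction i).isIso_unit_app_of_iso (descIso hM).symm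

theorem bijective_pullback_closed {M N : X.Modules} (hN : IsKilled i N) :
    Function.Bijective (fun φ : M ⟶ N => (Scheme.Modules.pullback i).map φ) := by
  let adj := Scheme.Modules.pullbackPushforwardAdjunction i
  haveI := isIso_unit_of_killed i hN
  refine ⟨fun φ ψ h => ?_, fun γ => ?_⟩
  · refine (cancel_mono (adj.unit.app N)).1 ((adj.unit.naturality φ).trans ?_)
    refine Eq.trans ?_ (adj.unit.naturality ψ).symm
    exact congrArg (fun t => adj.unit.app M ≫ (Scheme.Modules.pushforward i).map t) h
  · refine ⟨adj.homEquiv _ _ γ ≫ inv (adj.unit.app N), (adj.homEquiv _ _).injective ?_⟩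
    rw [adj.homEquiv_unit, adj.homEquiv_unit]
    refine (adj.unit.naturality _).symm.trans ?_
    show (adj.homEquiv _ _ γ ≫ inv (adj.unit.app N)) ≫ adj.unit.app N = _
    rw [Category.assoc, IsIso.inv_hom_id, Category.comp_id, adj.homEquiv_unit]

theorem nonempty_iso_of_pullback {M N : X.Modules} (hM : IsKilled i M) (hN : IsKilled i N)
    (e : (Scheme.Modules.pullback i).obj M ≅ (Scheme.Modules.pullback i).obj N) : Nonempty (M ≅ N) := by
  haveI := isIso_unit_of_killed i hM
  haveI := isIso_unit_of_killed i hN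
  exact ⟨asIso ((Scheme.Modules.pullbackPushforwardAdjunction i).unit.app M) ≪≫
    (Scheme.Modules.pushforward i).mapIso e ≪≫ (asIso ((Scheme.Modules.pullbackPushforwardAdjunction i).unit.app N)).symm⟩

end Closed

section Two

variable {T X X' : Scheme.{u}} (i : T ⟶ X) (i' : T ⟶ X') [IsClosedImmersion i] [IsClosedImmersion i']
  (f : X' ⟶ X) (hcomp : i' ≫ f = i)

include hcomp in
theorem bijective_pullback_killed {M N : X.Modules} (hN : IsKilled i N)
    (hN' : IsKilled i' ((Scheme.Modules.pullback f).obj N)) :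
    Function.Bijective (fun φ : M ⟶ N => (Scheme.Modules.pullback f).map φ) := by
  let e : Scheme.Modules.pullback f ⋙ Scheme.Modules.pullback i' ≅ Scheme.Modules.pullback i :=
    Scheme.Modules.pullbackComp i' f ≪≫ Scheme.Modules.pullbackCongr hcomp
  have h1 := bijective_pullback_closed i (M := M) hN
  have h2 := bijective_pullback_closed i' (M := (Scheme.Modules.pullback f).obj M) hN'
  have key : ∀ φ : M ⟶ N, (Scheme.Modules.pullback i').map ((Scheme.Modules.pullback f).map φ) =
      e.hom.app M ≫ (Scheme.Modules.pullback i).map φ ≫ e.inv.app N := fun φ =>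
    (NatIso.naturality_2 e φ).symm
  refine ⟨fun φ ψ h => h1.1 ?_, fun β => ?_⟩
  · show (Scheme.Modules.pullback i).map φ = (Scheme.Modules.pullback i).map ψ
    have h' : e.hom.app M ≫ (Scheme.Modules.pullback i).map φ ≫ e.inv.app N =
        e.hom.app M ≫ (Scheme.Modules.pullback i).map ψ ≫ e.inv.app N :=
      (key φ).symm.trans ((congrArg (Scheme.Modules.pullback i').map h).trans (key ψ))
    exact (cancel_mono (e.inv.app N)).1 ((cancel_epi (e.hom.app M)).1 h')
  · obtain ⟨φ, hφ⟩ := h1.2 (e.inv.app M ≫ (Scheme.Modules.pullback i').map β ≫ e.hom.app N)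
    change (Scheme.Modules.pullback i).map φ = _ at hφ
    refine ⟨φ, h2.1 ((key φ).trans ?_)⟩
    rw [hφ]
    simp only [Category.assoc]
    exact (congrArg (e.hom.app M ≫ ·) (congrArg (e.inv.app M ≫ ·)
      ((congrArg (_ ≫ ·) (e.hom_inv_id_app N)).trans (Category.comp_id _)))).trans
      ((Category.assoc _ _ _).symm.trans ((congrArg (· ≫ _) (e.hom_inv_id_app M)).trans (Category.id_comp _)))

include hcomp in
theorem nonempty_pullback_push_iso {K : X'.Modules} (hK : IsKilled i' K)
    (hf' : IsKilled i' ((Scheme.Modules.pullback f).obj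
      ((Scheme.Modules.pushforward i).obj ((Scheme.Modules.pullback i').obj K)))) :
    Nonempty ((Scheme.Modules.pullback f).obj
      ((Scheme.Modules.pushforward i).obj ((Scheme.Modules.pullback i').obj K)) ≅ K) := by
  have := GSS45.ClosedHom.full_pushforward i
  have := QC70.faithful_pushforward i
  let adj := Scheme.Modules.pullbackPushforwardAdjunction i
  exact nonempty_iso_of_pullback i' hf' hK
    (((Scheme.Modules.pullbackComp i' f ≪≫ Scheme.Modules.pullbackCongr hcomp).app _) ≪≫
      asIso (adj.counit.app ((Scheme.Modules.pullback i').obj K)))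

end Two

variable {A : Type u} [CommRing A] {X X' : Scheme.{u}} [X.Over (Spec (CommRingCat.of A))]
  [X'.Over (Spec (CommRingCat.of A))] (I : Ideal A)

local notation "SpA" => Spec (CommRingCat.of A)

instance isClosedImmersion_specQuot (n : ℕ) : IsClosedImmersion (CohB1.specQuot I n) :=
  IsClosedImmersion.spec_of_surjective _ Ideal.Quotient.mk_surjective

theorem isKilled_thick {M : X.Modules} {n : ℕ} (hM : Formal.KilledBy (I ^ (n + 1)) M) :
    IsKilled (pullback.fst (X ↘ SpA) (CohB1.specQuot I n)) M := fun U a ha s => by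
  have h := ker_thick_le I n U ha
  clear ha
  induction h using Submodule.span_induction generalizing s with
  | mem r hr =>
    obtain ⟨b, hb, rfl⟩ := hr
    exact congrArg (fun φ => (Scheme.Modules.Hom.app φ U.1) s) (hM b hb)
  | zero => exact zero_smul _ s
  | add r r' _ _ hr hr' => rw [add_smul, hr, hr', add_zero]
  | smul c r _ hr => rw [smul_eq_mul, mul_smul, hr, smul_zero]

theorem killedBy_push_thick (n : ℕ) (N : (pullback (X ↘ SpA) (CohB1.specQuot I n)).Modules) :
    Formal.KilledBy (I ^ (n + 1))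
      ((Scheme.Modules.pushforward (pullback.fst (X ↘ SpA) (CohB1.specQuot I n))).obj N) := fun a ha => by
  letI : (pullback (X ↘ SpA) (CohB1.specQuot I n)).Over SpA :=
    ⟨pullback.snd (X ↘ SpA) (CohB1.specQuot I n) ≫ CohB1.specQuot I n⟩
  have h0 : Formal.smulMod A N a = 0 := by
    refine Scheme.Modules.hom_ext _ _ fun V => ?_
    ext m
    refine (smulMod_app N a V m).trans ?_
    have hz : gi A (pullback (X ↘ SpA) (CohB1.specQuot I n)) V a = 0 := by
      show ((pullback (X ↘ SpA) (CohB1.specQuot I n)).presheaf.map _).hom (Coh.toGlobal _ a) = 0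
      refine (congrArg _ ?_).trans (map_zero _)
      show (pullback.snd (X ↘ SpA) (CohB1.specQuot I n) ≫ CohB1.specQuot I n).appTop
        ((Scheme.ΓSpecIso (CommRingCat.of A)).inv a) = 0
      rw [Scheme.Hom.comp_appTop, CommRingCat.comp_apply, CohB1.specQuot, ← CommRingCat.comp_apply
        (Scheme.ΓSpecIso (CommRingCat.of A)).inv, ← Scheme.ΓSpecIso_inv_naturality, CommRingCat.comp_apply]
      rw [show (CommRingCat.ofHom (Ideal.Quotient.mk (I ^ (n + 1)))) a = 0 from
        Ideal.Quotient.eq_zero_iff_mem.2 ha, map_zero, map_zero]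
    rw [hz]
    exact zero_smul _ m
  rw [← pushforward_map_smulMod (A := A) (pullback.fst (X ↘ SpA) (CohB1.specQuot I n)) pullback.condition N a, h0,
    Functor.map_zero]

variable (f : X' ⟶ X) (hf : f ≫ (X ↘ Spec (CommRingCat.of A)) = X' ↘ Spec (CommRingCat.of A))

include hf in
theorem killedBy_pullback_map {J : Ideal A} {M : X.Modules} (hM : Formal.KilledBy J M) :
    Formal.KilledBy J ((Scheme.Modules.pullback f).obj M) := fun a ha => by
  rw [← pullback_map_smulMod f hf, hM a ha, Functor.map_zero]

include hf in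
theorem exists_thick_lift [Flat f] (h0 : IsIso (thickMap f hf I 0)) (n : ℕ) :
    ∃ i' : pullback (X ↘ SpA) (CohB1.specQuot I n) ⟶ X', IsClosedImmersion i' ∧
      i' ≫ f = pullback.fst (X ↘ SpA) (CohB1.specQuot I n) ∧
      i'.ker = (pullback.fst (X' ↘ SpA) (CohB1.specQuot I n)).ker := by
  haveI := isIso_thickMap f hf I h0 n
  haveI : IsClosedImmersion (pullback.fst (X' ↘ SpA) (CohB1.specQuot I n)) := inferInstance
  refine ⟨inv (thickMap f hf I n) ≫ pullback.fst (X' ↘ SpA) (CohB1.specQuot I n), inferInstance, ?_,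
    Scheme.Hom.ker_comp_of_isIso _ _⟩
  rw [Category.assoc, IsIso.inv_comp_eq]
  exact (isPullback_thickMap f hf I n).w

variable [Flat f] (h0 : IsIso (thickMap f hf I 0))

include h0 in
theorem bijective_pullback_killedBy {n : ℕ} (M : X.Modules) {N : X.Modules} (hN : Formal.KilledBy (I ^ (n + 1)) N) :
    Function.Bijective (fun φ : M ⟶ N => (Scheme.Modules.pullback f).map φ) := by
  obtain ⟨i', _, hi', hker⟩ := exists_thick_lift I f hf h0 n
  refine bijective_pullback_killed _ i' f hi' (isKilled_thick I hN) fun U a ha s => ?_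
  rw [hker] at ha
  exact isKilled_thick I (killedBy_pullback_map f hf hN) U a ha s

include h0 in
theorem exists_preimage_killedBy [IsLocallyNoetherian X] [IsLocallyNoetherian X'] {n : ℕ} {K : X'.Modules}
    (hK : Coh.IsCoh K) (hKk : Formal.KilledBy (I ^ (n + 1)) K) :
    ∃ G : X.Modules, Coh.IsCoh G ∧ Formal.KilledBy (I ^ (n + 1)) G ∧
      Nonempty ((Scheme.Modules.pullback f).obj G ≅ K) := by
  obtain ⟨i', _, hi', hker⟩ := exists_thick_lift I f hf h0 n
  let i := pullback.fst (X ↘ SpA) (CohB1.specQuot I n)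
  haveI : IsLocallyNoetherian (pullback (X ↘ SpA) (CohB1.specQuot I n)) :=
    LocallyOfFiniteType.isLocallyNoetherian i
  have hG := killedBy_push_thick (X := X) I n ((Scheme.Modules.pullback i').obj K)
  refine ⟨(Scheme.Modules.pushforward i).obj ((Scheme.Modules.pullback i').obj K),
    QC70.isCoh_pushforward i _ (ZClos93.isCoh_pullback i' K hK), hG,
    nonempty_pullback_push_iso i i' f hi' (fun U a ha s => ?_) fun U a ha s => ?_⟩
  · rw [hker] at ha
    exact isKilled_thick I hKk U a ha s
  · rw [hker] at ha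
    exact isKilled_thick I (killedBy_pullback_map f hf hG) U a ha s

include h0 in
theorem bijective_whiskerRight_pullback {G₁ G₂ : ℕᵒᵖ ⥤ X.Modules} (h₂ : Formal.IsCohFormal I G₂) :
    Function.Bijective (fun φ : G₁ ⟶ G₂ => Functor.whiskerRight φ (Scheme.Modules.pullback f)) := by
  have hb : ∀ (n : ℕ) (M : X.Modules),
      Function.Bijective (fun φ : M ⟶ G₂.obj (op n) => (Scheme.Modules.pullback f).map φ) := fun n M =>
    bijective_pullback_killedBy I f hf h0 M (h₂.2.1 n)
  refine ⟨fun φ ψ h => NatTrans.ext (funext fun ⟨n⟩ => (hb n _).1 (congr_arg (fun t => NatTrans.app t (op n)) h)),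
    fun β => ?_⟩
  choose φ hφ using fun n : ℕ => (hb n (G₁.obj (op n))).2 (β.app (op n))
  refine ⟨⟨fun n => φ n.unop, fun ⟨m⟩ ⟨n⟩ g => (hb n _).1 ?_⟩, NatTrans.ext (funext fun ⟨n⟩ => hφ n)⟩
  show (Scheme.Modules.pullback f).map (G₁.map g ≫ φ n) = (Scheme.Modules.pullback f).map (φ m ≫ G₂.map g)
  rw [Functor.map_comp, Functor.map_comp]
  exact (congrArg (_ ≫ ·) (hφ n)).trans ((β.naturality g).trans (congrArg (· ≫ _) (hφ m)).symm)

include h0 in
theorem exists_preimage_cohFormal [IsLocallyNoetherian X] [IsLocallyNoetherian X'] {G' : ℕᵒᵖ ⥤ X'.Modules}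
    (hG' : Formal.IsCohFormal I G') :
    ∃ G : ℕᵒᵖ ⥤ X.Modules, Formal.IsCohFormal I G ∧ Nonempty (G ⋙ Scheme.Modules.pullback f ≅ G') := by
  choose G hGc hGk e using fun n : ℕ => exists_preimage_killedBy I f hf h0 (hG'.1 n) (hG'.2.1 n)
  replace e := fun n => Classical.choice (e n)
  let P := Scheme.Modules.pullback f
  have hb : ∀ (n : ℕ) (M : X.Modules), Function.Bijective (fun φ : M ⟶ G n => P.map φ) := fun n M =>
    bijective_pullback_killedBy I f hf h0 M (hGk n)
  choose t ht using fun (n m : ℕ) (h : n ≤ m) =>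
    (hb n (G m)).2 ((e m).hom ≫ sysMap G' h ≫ (e n).inv)
  have htid : ∀ n, t n n le_rfl = 𝟙 _ := fun n => (hb n _).1 ((ht n n le_rfl).trans (by
    rw [sysMap_self, Category.id_comp, Iso.hom_inv_id]
    exact (P.map_id _).symm))
  have htc : ∀ (l n m : ℕ) (h : l ≤ n) (h' : n ≤ m), t n m h' ≫ t l n h = t l m (h.trans h') := fun l n m h h' =>
    (hb l _).1 (((P.map_comp _ _).trans ((congrArg (_ ≫ ·) (ht l n h)).trans (congrArg (· ≫ _) (ht n m h')))).trans (by
      refine Eq.trans ?_ (ht l m (h.trans h')).symm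
      simp only [Category.assoc, Iso.inv_hom_id_assoc]
      rw [← sysMap_comp G' h h', Category.assoc]))
  let F : ℕᵒᵖ ⥤ X.Modules :=
    { obj := fun n => G n.unop
      map := fun {m n} g => t n.unop m.unop (leOfHom g.unop)
      map_id := fun n => htid n.unop
      map_comp := fun {a b c} g g' => (htc c.unop b.unop a.unop (leOfHom g'.unop) (leOfHom g.unop)).symm }
  refine ⟨F, ⟨hGc, hGk, fun n => ?_⟩, ⟨NatIso.ofComponents (fun n => e n.unop) fun {m n} g => ?_⟩⟩
  · let τ : G (n + 1) ⟶ G n := t n (n + 1) (Nat.le_succ n)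
    have hz : Formal.smulFamily (I ^ (n + 1)) (G (n + 1)) ≫ τ = 0 :=
      smulFamily_comp_eq_zero _ fun a ha => by rw [← smulMod_comp, hGk n a ha, comp_zero]
    refine ⟨hz, ?_⟩
    haveI := Algz14.epi_sysMap hG' (Nat.le_succ n)
    haveI : Epi (P.map τ) := by
      rw [show P.map τ = (e (n + 1)).hom ≫ sysMap G' (Nat.le_succ n) ≫ (e n).inv from ht n (n + 1) (Nat.le_succ n)]
      infer_instance
    haveI : Epi τ := by
      refine Preadditive.epi_of_cokernel_zero ?_
      refine (bijective_pullback_killedBy I f hf h0 (G n) (N := cokernel τ) (n := n) ?_).1 ?_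
      · intro a ha
        haveI : Epi (cokernel.π τ) := coequalizer.π_epi
        rw [← cancel_epi (cokernel.π τ), comp_zero, smulMod_comp (cokernel.π τ) a, hGk n a ha, zero_comp]
      · show P.map (cokernel.π τ) = P.map 0
        rw [Functor.map_zero, ← cancel_epi (P.map τ), ← Functor.map_comp, cokernel.condition, Functor.map_zero,
          comp_zero]
    let Q := cokernel (Formal.smulFamily (I ^ (n + 1)) (G (n + 1)))
    let π : G (n + 1) ⟶ Q := cokernel.π _
    have hQ : Formal.KilledBy (I ^ (n + 1)) Q := fun a ha => by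
      haveI : Epi π := coequalizer.π_epi
      rw [← cancel_epi π, comp_zero, smulMod_comp π a]
      exact smulMod_modPowπ I (n + 1) _ ha
    obtain ⟨v', hv'⟩ := exists_factor_tr (Algz14.isQCohFormal hG') (Nat.le_succ n) ((e (n + 1)).inv ≫ P.map π)
      fun a ha => by rw [← smulMod_comp, killedBy_pullback_map f hf hQ a ha, comp_zero]
    obtain ⟨v, hv⟩ := (bijective_pullback_killedBy I f hf h0 (G n) hQ).2 ((e n).hom ≫ v')
    refine isIso_desc_of_factor _ _ hz v ((bijective_pullback_killedBy I f hf h0 (G (n + 1)) hQ).1 ?_)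
    show P.map (τ ≫ v) = P.map π
    rw [Functor.map_comp]
    refine ((congrArg (_ ≫ ·) hv).trans (congrArg (· ≫ _) (ht n (n + 1) (Nat.le_succ n)))).trans ?_
    simp only [Category.assoc, Iso.inv_hom_id_assoc]
    exact (congrArg (_ ≫ ·) hv').trans (Iso.hom_inv_id_assoc _ _)
  · show P.map (t n.unop m.unop (leOfHom g.unop)) ≫ (e n.unop).hom = (e m.unop).hom ≫ G'.map g
    refine (congrArg (· ≫ _) (ht n.unop m.unop (leOfHom g.unop))).trans ?_
    simp only [Category.assoc, Iso.inv_hom_id, Category.comp_id]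
    rfl

end Groth.Agent.GE14
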