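import Groth.Agent.CAlg6.NilIso
import Groth.Agent.Formal27.Affine
import Groth.Prelude.Def_CohB1

/-!
Infinitesimal thickenings of the zero locus of an ideal of the base.
-/

set_option autoImplicit false
set_option linter.style.haveILetI false
set_option linter.unusedSectionVars false
set_option backward.isDefEq.respectTransparency.types false

universe u

open CategoryTheory CategoryTheory.Limits AlgebraicGeometry Opposite

noncomputable section

namespace Groth.Agent.GE14

open Formal27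

variable {A : Type u} [CommRing A] {X : Scheme.{u}} [X.Over (Spec (CommRingCat.of A))]

local notation "SpA" => Spec (CommRingCat.of A)

theorem fromSpec_str {W : X.Opens} (hW : IsAffineOpen W) :
    hW.fromSpec ≫ (X ↘ SpA) = Spec.map (CommRingCat.ofHom (gi A X W)) := by
  have h : (X ↘ SpA) = X.toSpecΓ ≫ Spec.map ((Scheme.ΓSpecIso (CommRingCat.of A)).inv ≫ (X ↘ SpA).appTop) := by
    rw [Spec.map_comp, ← Category.assoc, ← Scheme.toSpecΓ_naturality, Category.assoc,
      toSpecΓ_SpecMap_ΓSpecIso_inv, Category.comp_id]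
  refine (congrArg (hW.fromSpec ≫ ·) h).trans ?_
  rw [IsAffineOpen.fromSpec_toSpecΓ_assoc, ← Spec.map_comp]
  rfl

theorem eq_zero_of_comp_fromSpec_app {W : X.Opens} (hW : IsAffineOpen W) (J : Ideal Γ(X, W)) {r : Γ(X, W)}
    (hr : (Spec.map (CommRingCat.ofHom (Ideal.Quotient.mk J)) ≫ hW.fromSpec).app W r = 0) : r ∈ J := by
  let q := CommRingCat.ofHom (Ideal.Quotient.mk J)
  have e : (Spec.map q ≫ hW.fromSpec).appLE W ⊤ (by simp [hW.fromSpec_preimage_self]) =
      q ≫ (Scheme.ΓSpecIso _).inv := by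
    rw [← Scheme.Hom.appLE_comp_appLE (Spec.map q) hW.fromSpec W ⊤ ⊤ hW.fromSpec_preimage_self.ge le_rfl,
      hW.fromSpec_app_of_le W le_rfl |> fun h => show hW.fromSpec.appLE W ⊤ hW.fromSpec_preimage_self.ge =
        (Scheme.ΓSpecIso Γ(X, W)).inv by
          rw [Scheme.Hom.appLE, hW.fromSpec_app_self, Category.assoc, ← Functor.map_comp]
          exact (congrArg (_ ≫ ·) ((Spec Γ(X, W)).presheaf.map_id _)).trans (Category.comp_id _)]
    refine Eq.trans ?_ (Scheme.ΓSpecIso_inv_naturality q).symm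
    refine congrArg (_ ≫ ·) ?_
    exact (congrArg (_ ≫ ·) ((Spec (CommRingCat.of (Γ(X, W) ⧸ J))).presheaf.map_id _)).trans (Category.comp_id _)
  have h2 : (q ≫ (Scheme.ΓSpecIso _).inv) r = 0 := by
    rw [← e, Scheme.Hom.appLE, CommRingCat.comp_apply, hr, map_zero]
  have hinj : Function.Injective (Scheme.ΓSpecIso (CommRingCat.of (Γ(X, W) ⧸ J))).inv :=
    (ConcreteCategory.bijective_of_isIso _).1
  exact Ideal.Quotient.eq_zero_iff_mem.1 (hinj (h2.trans (map_zero _).symm))

/-- The ideal of a thickening is generated by the power of the ideal of the base. -/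
theorem ker_thick_le (I : Ideal A) (n : ℕ) (W : X.affineOpens) :
    (pullback.fst (X ↘ SpA) (CohB1.specQuot I n)).ker.ideal W ≤ (I ^ (n + 1)).map (gi A X W.1) := by
  let J := (I ^ (n + 1)).map (gi A X W.1)
  let g := Spec.map (CommRingCat.ofHom (Ideal.Quotient.mk J)) ≫ W.2.fromSpec
  let φ : A ⧸ I ^ (n + 1) →+* Γ(X, W.1) ⧸ J := Ideal.quotientMap J (gi A X W.1) Ideal.le_comap_map
  let l : Spec (CommRingCat.of (Γ(X, W.1) ⧸ J)) ⟶ pullback (X ↘ SpA) (CohB1.specQuot I n) :=
    pullback.lift g (Spec.map (CommRingCat.ofHom φ)) (by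
      show (_ ≫ W.2.fromSpec) ≫ _ = _
      rw [Category.assoc, fromSpec_str, CohB1.specQuot, ← Spec.map_comp, ← Spec.map_comp]
      rfl)
  intro r hr
  have h1 := Scheme.Hom.le_ker_comp l (pullback.fst (X ↘ SpA) (CohB1.specQuot I n)) W hr
  rw [show l ≫ pullback.fst (X ↘ SpA) (CohB1.specQuot I n) = g from pullback.lift_fst _ _ _] at h1
  exact eq_zero_of_comp_fromSpec_app W.2 J (g.ideal_ker_le W h1)

/-- A flat morphism to `Spec R` which is an isomorphism modulo a nilpotent ideal is an isomorphism. -/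
theorem isIso_of_flat_nilpotent {R : Type u} [CommRing R] (J : Ideal R) (hJ : IsNilpotent J) {Q : Scheme.{u}}
    (g : Q ⟶ Spec (CommRingCat.of R)) [Flat g] [IsIso (pullback.snd g (CAlg6.NilIso.q J))] : IsIso g := by
  let X' : Over (Spec (CommRingCat.of R)) := Over.mk g
  let Y' : Over (Spec (CommRingCat.of R)) := Over.mk (𝟙 _)
  let f : X' ⟶ Y' := Over.homMk g (Category.comp_id _)
  haveI : Flat X'.hom := ‹Flat g›
  haveI : IsIso ((Over.pullback (CAlg6.NilIso.q J)).map f) := by
    haveI : IsIso ((Over.pullback (CAlg6.NilIso.q J)).map f).left := by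
      have h : ((Over.pullback (CAlg6.NilIso.q J)).map f).left ≫ pullback.snd (𝟙 _) (CAlg6.NilIso.q J) =
          pullback.snd g (CAlg6.NilIso.q J) := pullback.lift_snd _ _ _
      haveI : IsIso (((Over.pullback (CAlg6.NilIso.q J)).map f).left ≫ pullback.snd (𝟙 _) (CAlg6.NilIso.q J)) := by
        rw [h]; infer_instance
      exact IsIso.of_isIso_comp_right _ (pullback.snd (𝟙 _) (CAlg6.NilIso.q J))
    haveI : IsIso ((Over.forget _).map ((Over.pullback (CAlg6.NilIso.q J)).map f)) := ‹_›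
    exact isIso_of_reflects_iso _ (Over.forget _)
  haveI := CAlg6.NilIso.isIso_of_flat J hJ f
  exact ((Over.forget _).mapIso (asIso f)).isIso_hom

variable {X' : Scheme.{u}} [X'.Over (Spec (CommRingCat.of A))] (f : X' ⟶ X)
  (hf : f ≫ (X ↘ Spec (CommRingCat.of A)) = X' ↘ Spec (CommRingCat.of A)) (I : Ideal A)

/-- The map induced on thickenings. -/
def thickMap (n : ℕ) :
    pullback (X' ↘ SpA) (CohB1.specQuot I n) ⟶ pullback (X ↘ SpA) (CohB1.specQuot I n) :=
  pullback.map _ _ _ _ f (𝟙 _) (𝟙 _) ((Category.comp_id _).trans hf.symm)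
    ((Category.comp_id _).trans (Category.id_comp _).symm)

theorem isPullback_thickMap (n : ℕ) :
    IsPullback (pullback.fst (X' ↘ SpA) (CohB1.specQuot I n)) (thickMap f hf I n) f
      (pullback.fst (X ↘ SpA) (CohB1.specQuot I n)) := by
  have h : IsPullback (pullback.fst (X' ↘ SpA) (CohB1.specQuot I n))
      (pullback.snd (X' ↘ SpA) (CohB1.specQuot I n)) (f ≫ (X ↘ SpA)) (CohB1.specQuot I n) := by
    rw [hf]; exact IsPullback.of_hasPullback _ _
  refine IsPullback.of_bot ?_ ?_ (IsPullback.of_hasPullback (X ↘ SpA) (CohB1.specQuot I n))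
  · convert h using 1
    exact (pullback.lift_snd _ _ _).trans (Category.comp_id _)
  · exact (pullback.lift_fst _ _ _).symm

instance flat_thickMap [Flat f] (n : ℕ) : Flat (thickMap f hf I n) :=
  MorphismProperty.of_isPullback (isPullback_thickMap f hf I n) ‹Flat f›

theorem isIso_thickMap [Flat f] (h0 : IsIso (thickMap f hf I 0)) (n : ℕ) : IsIso (thickMap f hf I n) := by
  let g := thickMap f hf I n
  let T := pullback (X ↘ SpA) (CohB1.specQuot I n)
  show (MorphismProperty.isomorphisms Scheme.{u}) g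
  rw [IsZariskiLocalAtTarget.iff_of_iSup_eq_top (P := MorphismProperty.isomorphisms Scheme.{u})
    (fun U : T.affineOpens => U.1) (iSup_affineOpens_eq_top T)]
  intro U
  letI : T.Over SpA := ⟨pullback.fst (X ↘ SpA) (CohB1.specQuot I n) ≫ (X ↘ SpA)⟩
  let R := Γ(T, U.1)
  let J : Ideal R := I.map (gi A T U.1)
  let u := U.2.isoSpec
  have hstr : U.2.fromSpec ≫ (T ↘ SpA) = Spec.map (CommRingCat.ofHom (gi A T U.1)) := fromSpec_str U.2
  have hJn : IsNilpotent J := by
    refine ⟨n + 1, ?_⟩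
    show I.map (gi A T U.1) ^ (n + 1) = ⊥
    rw [← Ideal.map_pow, Ideal.map_eq_bot_iff_le_ker]
    intro a ha
    obtain ⟨ψ, hψ⟩ : ∃ ψ, Spec.map ψ = U.2.fromSpec ≫ pullback.snd (X ↘ SpA) (CohB1.specQuot I n) :=
      ⟨_, Spec.map_preimage _⟩
    have h1 : CommRingCat.ofHom (gi A T U.1) = CommRingCat.ofHom (Ideal.Quotient.mk (I ^ (n + 1))) ≫ ψ := by
      refine Spec.map_injective ?_
      rw [← hstr, Spec.map_comp, hψ, Category.assoc]
      exact congrArg (U.2.fromSpec ≫ ·) pullback.condition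
    have h2 := congrArg (fun t => t a) h1
    refine RingHom.mem_ker.2 (h2.trans ?_)
    show ψ (Ideal.Quotient.mk (I ^ (n + 1)) a) = 0
    rw [Ideal.Quotient.eq_zero_iff_mem.2 ha, map_zero]
  let gU : (g ⁻¹ᵁ U.1).toScheme ⟶ Spec (CommRingCat.of R) := (g ∣_ U.1) ≫ u.hom
  suffices IsIso gU by
    show IsIso (g ∣_ U.1)
    exact IsIso.of_isIso_comp_right (g ∣_ U.1) u.hom
  haveI : Flat g := flat_thickMap f hf I n
  haveI : IsIso (pullback.snd gU (CAlg6.NilIso.q J)) := by
    let q := CAlg6.NilIso.q J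
    have hq0 : (q ≫ U.2.fromSpec ≫ pullback.fst (X ↘ SpA) (CohB1.specQuot I n)) ≫ (X ↘ SpA) =
        Spec.map (CommRingCat.ofHom (Ideal.quotientMap J (gi A T U.1)
          (show I ^ (0 + 1) ≤ J.comap (gi A T U.1) by rw [zero_add, pow_one]; exact Ideal.le_comap_map))) ≫
        CohB1.specQuot I 0 := by
      rw [Category.assoc, Category.assoc]
      refine (congrArg (q ≫ ·) hstr).trans ?_
      rw [CohB1.specQuot, ← Spec.map_comp, ← Spec.map_comp]
      rfl
    let t := pullback.lift _ _ hq0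
    have sq0 := isPullback_thickMap f hf I 0
    have sqn := isPullback_thickMap f hf I n
    have hU : IsPullback ((g ⁻¹ᵁ U.1).ι ≫ pullback.fst (X' ↘ SpA) (CohB1.specQuot I n)) gU f
        (U.2.fromSpec ≫ pullback.fst (X ↘ SpA) (CohB1.specQuot I n)) := by
      refine IsPullback.paste_horiz ?_ sqn
      refine IsPullback.of_iso (isPullback_morphismRestrict g U.1).flip (Iso.refl _) (Iso.refl _) u (Iso.refl _)
        (by simp) (by simp [gU]) ?_ ?_
      · simp [g]
      · simp [u]
    have hbc : IsPullback (pullback.fst gU q ≫ (g ⁻¹ᵁ U.1).ι ≫ pullback.fst (X' ↘ SpA) (CohB1.specQuot I n))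
        (pullback.snd gU q) f (q ≫ U.2.fromSpec ≫ pullback.fst (X ↘ SpA) (CohB1.specQuot I n)) :=
      (IsPullback.of_hasPullback gU q).paste_horiz hU
    rw [show q ≫ U.2.fromSpec ≫ pullback.fst (X ↘ SpA) (CohB1.specQuot I n) =
      t ≫ pullback.fst (X ↘ SpA) (CohB1.specQuot I 0) from (pullback.lift_fst _ _ _).symm] at hbc
    obtain ⟨k, hk1, hk2⟩ := sq0.exists_lift
      (pullback.fst gU q ≫ (g ⁻¹ᵁ U.1).ι ≫ pullback.fst (X' ↘ SpA) (CohB1.specQuot I n))
      (pullback.snd gU q ≫ t) (hbc.w.trans (Category.assoc _ _ _).symm)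
    rw [← hk1] at hbc
    have hsq := IsPullback.of_right hbc hk2 sq0
    show (MorphismProperty.isomorphisms Scheme.{u}) (pullback.snd gU q)
    exact MorphismProperty.of_isPullback hsq (show (MorphismProperty.isomorphisms Scheme.{u}) (thickMap f hf I 0) from h0)
  exact isIso_of_flat_nilpotent J hJn gU

end Groth.Agent.GE14
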